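import Cfsg.Agent.OM.Lie.Defs
import Cfsg.Agent.HZ.L.Iso.Main_m3
import Cfsg.Agent.HZ.L.X.Bas
import Cfsg.Agent.HZ.L.U.E8_m3
import Cfsg.Agent.HZ.L.E7.Ex_m3
import Cfsg.Agent.HZ.L.X.Main_m3
import Cfsg.Agent.HZ.L.X.FrB_m3
import Cfsg.Agent.OM.Lie.UL0_m3
import Cfsg.Agent.LV.Cl.Em
import Cfsg.Agent.OM.Cu.Base_mg
import Cfsg.Agent.FastGrp
import Cfsg.Agent.Prune
set_option linter.all false

section
prune_inst 0x7fbeb9fcabacafffffff7e3ff6d8cff81180cfffa4dff9437fe1619f0f9f03a109c56b850df010fe9e76401410287843fb7eefffe86bdc7ffffd5ff41ffbee0fa5e6350851948c340fbc2ff783f07f8a6f3fffffffffffffffffffffffffffffffbdfbfeffff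

-- part: OM/On/Eng
section
prune_inst 0x414401140050000000000008011002204600004200040800008e003040204e200800280004800141812080009000000081100002002000000000004000000010018a05004b2080104240086003002410000000000000000000000000000000004004010000
set_option linter.all false
open scoped Cfsg.Agent.FastGrp

/-!
# OM/On: the engine at a fixed level, all characteristics (helper66; after `HZ/L/Chf/Deg`, `HZ/L/Iso/Main`, `HZ/L/Ind`)

`deg1`, `iso1`, `link1`.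
-/

set_option autoImplicit false
set_option linter.unusedSectionVars false
set_option maxHeartbeats 400000

namespace Cfsg.Agent.OM.On

open Cfsg Cfsg.Agent.DL Cfsg.Agent.DL.PP Cfsg.Agent.DL.Uni Cfsg.Agent.DL.Asm Cfsg.Agent.Nodes.Reps Matrix
  Cfsg.Agent.KZ.Lie Cfsg.Agent.HZ.Gen Cfsg.Agent.ODD.Red Cfsg.Agent.Characters.Core Cfsg.Agent.Blocks
  Cfsg.Agent.Characters Cfsg.Agent.H650 Cfsg.Agent.RL Cfsg.Agent.DL.Mk Cfsg.Agent.HZ.L Cfsg.Agent.HZ.L.Cf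
  Cfsg.Agent.HZ.L.Iso
open scoped ComplexConjugate

variable {p : ℕ} [Fact p.Prime] {k : Type} [Field k] [CharP k p] [IsAlgClosed k] {Y : Type} [Group Y] {N : Type}
  [Fintype N] [DecidableEq N] {ρ : Y →* GL N k} {F : MulAut Y} {G : Subgroup Y} {D : Datum p ρ F G}
  {B : Mat D.R} {w : D.W} {c c' : Lbl D} {lam : Vec D.R} {r : ℕ} {P : Subgroup ↥(GF F G)} {s : Sb D}

variable (D) in
theorem nb_le_sz1 : 2 * nb D ≤ sz1 D := le_rfl

variable (D) in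
theorem two_le_sz1 : 2 ≤ sz1 D := Nat.le_mul_of_pos_right _ (nb_pos D)

theorem sz1_le (s : Sb D) : sz1 s.E ≤ sz1 D := Nat.mul_le_mul_left 2 s.nb_le

namespace Hu1

variable (h : Hu1 D r)
include h

theorem sub (s : Sb D) : Hu1 s.E r := ⟨h.prime, h.ne, (bd_mono (sz1_le s) (Nat.pow_le_pow_left (sz1_le s) 8)).trans_lt h.big⟩

theorem bd_lt {n m : ℕ} (hn : n ≤ sz1 D) (hm : m ≤ sz1 D ^ 8) : bd n m < r := (bd_mono hn hm).trans_lt h.big

theorem pow_le {i : ℕ} (hi : i ≤ 8) : sz1 D ^ i ≤ sz1 D ^ 8 := Nat.pow_le_pow_right (two_pos.trans_le (two_le_sz1 D)) hi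

/-- the bound for functions of norm at most `sz1 D ^ i` -/
theorem bd_nb {m i : ℕ} (hm : m ≤ sz1 D ^ i) (hi : i ≤ 8) : bd (nb D) m < r :=
  h.bd_lt ((Nat.le_mul_of_pos_left _ two_pos).trans (nb_le_sz1 D)) (hm.trans (h.pow_le hi))

theorem pow_lt : sz1 D ^ 16 < r := by
  refine lt_of_le_of_lt ?_ h.big
  rw [show 16 = 8 + 8 from rfl, pow_add]
  exact le_bd (two_pos.trans_le (two_le_sz1 D))

theorem lt {m i : ℕ} (hm : m ≤ sz1 D ^ i) (hi : i ≤ 15) : m + 1 < r := by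
  have h1 := two_le_sz1 D
  have h2 : sz1 D ^ i ≤ sz1 D ^ 15 := Nat.pow_le_pow_right (by omega) hi
  have h3 : 1 ≤ sz1 D ^ 15 := Nat.one_le_pow _ _ (by omega)
  have h4 := h.pow_lt
  rw [pow_succ] at h4
  nlinarith

theorem card_le : Nat.card D.W ≤ sz1 D ^ 1 := by
  have := nb_le_sz1 D
  have := card_le_nb D
  rw [pow_one]
  omega

theorem not_dvd : ¬ r ∣ Nat.card D.W := fun e => by
  have := Nat.le_of_dvd Nat.card_pos e
  have := h.lt h.card_le (by norm_num)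
  omega

theorem big_GF [Fact r.Prime] : Big ↥(GF F G) r (nb D) := HZ.Gen.big_GF D h.ne h.not_dvd

theorem bd_one : bd (nb D) 1 < r := h.bd_nb (i := 0) (by simp) (by simp)

theorem rs_gen [Fintype ↥(GF F G)] [Fact r.Prime] [Fintype ↥(GF F s.K)] {χ : ↥(GF F G) → ℂ} (hs : s.For r P)
    (hχ : IsIrrCharacter _ χ) (hr : RatR r χ) : IsGeneralizedCharacter _ (s.rs r P χ) :=
  h.big_GF.rs_gen hs.grp (sm_irr hχ hr) h.bd_one s.ι_injective hs.range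

end Hu1

section Deg

variable [Fintype ↥(GF F G)] (f : Fr D) [hr : Fact r.Prime] [Fintype ↥(GF F s.K)] {χ : ↥(GF F G) → ℂ} {ε : ℂ} {η : ↥(GF F s.K) → ℂ} (hu : Hu1 D r) (h : s.For r P)
  (hχ : IsIrrCharacter _ χ) (hχ' : RatR r χ) (hη : IsIrrCharacter _ η) (hC : Cor1 s r P χ ε η)
include hu h hχ hχ' hη hC

theorem mult1 (w : D.W) (c : Lbl D) : classInner χ (RW f w c) = ε * (Nat.card s.E.W : ℂ)⁻¹ *
    ∑ᶠ (u : s.E.W) (c' : Lbl D), classInner (RW f w c) (RW f (s.sw u * s.w) c') * classInner η (RW (s.fr f) u c') := by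
  have h2 := two_le_sz1 D
  by_cases h0 : Fx D w c
  swap
  · simp only [RW_zero f h0, classInner_zero_left, classInner_zero_right, zero_mul, finsum_zero, mul_zero]
  by_cases hc : r ∣ orderOf c
  · have h3 := sm_irr hχ hχ'
    have h4 := hu.big_GF.sm_rs h.grp h3 (hu.bd_nb (i := 0) le_rfl (by norm_num)) s.ι_injective h.range
    have h5 : classInner (s.rs r P χ) η ≠ 0 := fun e => by
      have h6 := hC.2 χ (h3.mono (Nat.one_le_pow _ _ (by omega)))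
      rw [e, mul_zero, classInner_irr_self hχ] at h6
      exact one_ne_zero h6
    rw [not_not.1 fun e => lab f h3 (hu.lt ((one_mul _).trans_le hu.card_le) (by norm_num)) hχ
      (by rw [classInner_irr_self hχ]; exact one_ne_zero) e hc, ← sum_rel f s h0, sum_zero, mul_zero]
    refine fun v u c' e => not_not.1 fun e' =>
      lab (s.fr f) h4 (hu.lt (i := 2) ?_ (by norm_num)) hη h5 e' (orderOf_rel e.2 ▸ hc)
    rw [mul_one, sq]
    exact Nat.mul_le_mul (nb_le_sz1 D) (s.card_le.trans (hu.card_le.trans (pow_one _).le))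
  obtain ⟨S, hS⟩ := exists_fin s.E
  have h3 := hC.2 _ ((sm f w hc).mono (hu.card_le.trans (Nat.pow_le_pow_right (by omega) one_le_two)))
  have h4 : s.rs r P (RW f w c) = (Nat.card s.E.W : ℂ)⁻¹ •
      ∑ x ∈ S, classInner (RW f w c) (RW f (s.sw x.1 * s.w) x.2) • RW (s.fr f) x.1 x.2 := funext fun g => by
    rw [res' f s hu.ne h (hu.bd_nb hu.card_le (by norm_num)) w hc, sum_rel f s h0,
      hS _ fun u c' e => by rw [RW_zero _ e, Pi.zero_apply, mul_zero], Pi.smul_apply, Finset.sum_apply]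
    rfl
  rw [← classInner_conj_symm, h3, h4, hS _ fun u c' e => by rw [RW_zero _ e, classInner_zero_right, mul_zero],
    classInner_smul_left, classInner_sum_left, map_mul, map_mul, map_inv₀, map_natCast, map_sum, mul_assoc,
    show conj ε = ε by rcases hC.1 with rfl | rfl <;> simp only [_root_.map_one, _root_.map_neg]]
  refine congrArg _ (congrArg _ (Finset.sum_congr rfl fun x _ => ?_))
  rw [classInner_smul_left, map_mul, classInner_conj_symm, classInner_conj_symm, RW_symm]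

theorem mult1' (w : D.W) (c : Lbl D) : classInner χ (RW f w c) = ε * (Nat.card s.E.W : ℂ)⁻¹ *
    ∑ᶠ (v : D.W) (u : s.E.W) (c' : Lbl D) (_ : Tc D v w (s.sw u * s.w) ∧ _root_.Cfsg.Agent.DL.PP.Rel D v c c'), classInner η (RW (s.fr f) u c') := by
  by_cases h0 : Fx D w c
  · rw [sum_rel f s h0, mult1 f hu h hχ hχ' hη hC]
  rw [RW_zero f h0, classInner_zero_right, sum_zero, mul_zero]
  exact fun v u c' e => by
    rw [RW_zero _ fun h1 => h0 (fx_of_tc e.1.symm e.2.symm (s.fx_iff.1 h1)), classInner_zero_right]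

theorem has1 (e : Has f χ w c) : ∃ v u c', Tc D v w (s.sw u * s.w) ∧ _root_.Cfsg.Agent.DL.PP.Rel D v c c' ∧ Has (s.fr f) η u c' := by
  by_contra h0
  refine e ?_
  rw [mult1' f hu h hχ hχ' hη hC, sum_zero, mul_zero]
  exact fun v u c' e => not_not.1 fun e' => h0 ⟨v, u, c', e.1, e.2, e'⟩

theorem deg1' (hq : D.QS) : χ 1 * pc' p (GF F s.K) = ε * sg D s.w * pc' p (GF F G) * η 1 := by
  obtain ⟨f⟩ := nonempty_fr D
  obtain ⟨S, hS⟩ := exists_fin D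
  obtain ⟨S', hS'⟩ := exists_fin s.E
  have h1 : ∀ ψ : GF F G → ℂ, ψ 1 = (Nat.card D.W : ℂ)⁻¹ * ∑ x ∈ S, classInner ψ (RW f x.1 x.2) * RW f x.1 x.2 1 := fun ψ => by
    rw [val_one f ψ, hS _ fun w c e => by rw [RW_zero f e, Pi.zero_apply, mul_zero]]
  have h2 : χ 1 = ε * (Nat.card s.E.W : ℂ)⁻¹ * ∑ y ∈ S', classInner η (RW (s.fr f) y.1 y.2) * RW f (s.sw y.1 * s.w) y.2 1 := by
    rw [h1 χ, Finset.sum_congr rfl fun (y : s.E.W × Lbl s.E) _ =>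
      congrArg (classInner η (RW (s.fr f) y.1 y.2) * ·) (h1 (RW f (s.sw y.1 * s.w) y.2))]
    simp only [mult1 f hu h hχ hχ' hη hC, Finset.mul_sum]
    rw [Finset.sum_comm]
    refine Finset.sum_congr rfl fun x _ => ?_
    rw [hS' _ fun u c' e => by rw [RW_zero _ e, classInner_zero_right, mul_zero], Finset.mul_sum, Finset.sum_mul, Finset.mul_sum]
    refine Finset.sum_congr rfl fun y _ => ?_
    rw [RW_symm]
    ring
  rw [h2, val_one (s.fr f) η, hS' _ fun w c e => by rw [RW_zero _ e, Pi.zero_apply, mul_zero]]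
  simp only [Finset.mul_sum, Finset.sum_mul]
  refine Finset.sum_congr rfl fun y _ => ?_
  linear_combination ε * (Nat.card s.E.W : ℂ)⁻¹ * classInner η (RW (s.fr f) y.1 y.2) * deg_sub f s hq h.qs y.1 y.2

theorem deg1 (hq : D.QS) : χ 1 * pc' p (GF F s.K) = pc' p (GF F G) * η 1 := by
  have h1 := deg1' hu h hχ hχ' hη hC hq
  obtain ⟨a, ha, e⟩ := isIrr_apply_one hχ
  obtain ⟨b, hb, e'⟩ := isIrr_apply_one hη
  have h2 : 0 < pc' p (GF F s.K) := Nat.pos_of_ne_zero fun e => not_dvd_pc' (p := p) (GF F s.K) (e ▸ dvd_zero p)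
  have h3 : ε * sg D s.w = 1 ∨ ε * sg D s.w = -1 := by
    rcases hC.1 with rfl | rfl <;> rcases sg_sign D s.w with e | e <;> simp [e]
  rcases h3 with h3 | h3
  · rwa [h3, one_mul] at h1
  · rw [h3, e, e', neg_one_mul, neg_mul, eq_neg_iff_add_eq_zero] at h1
    have h4 : a * pc' p (GF F s.K) + pc' p (GF F G) * b = 0 := by exact_mod_cast h1
    have h5 := mul_pos ha h2
    omega

end Deg

theorem cj_sub (h : Cj (rts s.E) c c') : Cj (rts D) c c' := h.mono s.rts_sub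

theorem cj_rel {v : D.W} (h : _root_.Cfsg.Agent.DL.PP.Rel D v c c') : Cj (rts D) c c' := cj_iff.2 ⟨v, h⟩

theorem cj_symm (h : Cj (rts D) c c') : Cj (rts D) c' c := h.symm' subset_rfl

section

variable [Fintype ↥(GF F G)] [Fintype ↥(GF F s.K)] [Fact r.Prime] {g : ↥(GF F G) → ℂ} {f : Fr D}

theorem boxBR1 : BoxBR D := BR.boxBR D fun D _ => Cf.boxChf D

/-- a constituent of the restriction has a conjugate label -/
theorem br_gen1 (hq : D.QS) (hp : r ≠ p) (hs : s.For r P) {m : ℕ} (hg : Sm r m g)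
    (hb : bd (nb D) (m + Nat.card D.W) < r)
    (hl : ∀ χ, IsIrrCharacter _ χ → classInner g χ ≠ 0 → ∀ w c', Has f χ w c' → Cj (rts D) c c') {ψ : ↥(GF F s.K) → ℂ}
    (hψ : IsIrrCharacter _ ψ) (hi : classInner (s.rs r P g) ψ ≠ 0) : ∃ u c', Has (s.fr f) ψ u c' ∧ Cj (rts D) c c' := by
  obtain ⟨M, hM⟩ := ExistsModular.exists_isPModular (Fact.out : r.Prime)
  obtain ⟨χ, h1, h2, h3⟩ := boxBR1 hq f r P s hp hs m g hg hb M hM ψ hψ hi
  have h4 := h3 {x | Cj (rts D) c x} fun v x y e hx => hx.trans (cj_rel e)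
  by_contra h5
  rw [aL_eq_one (Λ := {x | Cj (rts D) c x}) h1 (hl χ h1 h2),
    aL_eq_zero (D := s.E) (Λ := {x | Cj (rts D) c x}) fun u c' e e' => h5 ⟨u, c', e, e'⟩, sub_zero] at h4
  exact LocalRing.not_memLocalIdeal_one hM h4

/-- **orthogonality outside `K`** -/
theorem ort1 (ih : OnL s.E) (hu : Hu1 D r) (hs : s.For r P)
    (ht : ∀ v, _root_.Cfsg.Agent.DL.PP.Rel D v c c → D.Wm v ∈ WW (rts s.E))
    {g : ↥(GF F s.K) → ℂ} (hg : Sm r (sz1 D) g)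
    (hl : ∀ χ, IsIrrCharacter _ χ → classInner g χ ≠ 0 → ∀ w c', Has (s.fr f) χ w c' → Cj (rts s.E) c c') :
    Ort r P s.ι g := fun x hx Q₁ Q₂ hQ₁ hQ₂ h1 h2 h3 => by
  have hS := boxSb s.E
  obtain ⟨s₁, -, hs₁, -⟩ := (hS hs.qs).grp r hu.prime hu.ne (hu.sub s).not_dvd Q₁ hQ₁
  obtain ⟨s₂, lam₂, hs₂, e3⟩ := (hS hs.qs).grp r hu.prime hu.ne (hu.sub s).not_dvd Q₂ hQ₂
  have := D.amb.finite_GF s₁.K
  have := D.amb.finite_GF s₂.K
  have := Fintype.ofFinite (GF F s₁.K)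
  have := Fintype.ofFinite (GF F s₂.K)
  have hC : cj (x : Y) s₁.K = s₂.K := by
    rw [cen_sub hs hs₁ h1, cen_sub hs hs₂ h2, cj_inf', cj_eq_of_mem x.2.1]
    refine congrArg _ (Subgroup.ext fun z => mem_cj.trans ⟨fun e => ?_, fun e => ?_⟩)
    · rintro _ ⟨a, h4, rfl⟩
      have h5 := e _ ⟨x⁻¹ * a * x, (h3 _).2 (by simpa only [mul_assoc, _root_.mul_inv_cancel_left, _root_.mul_inv_cancel, _root_.mul_one, _root_.Subgroup.mem_map, _root_.Subtype.exists, _root_.Subgroup.coe_map, _root_.Set.mem_image, _root_.SetLike.mem_coe] using h4), rfl⟩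
      simpa only [mul_assoc, _root_.Subgroup.subtype_apply, _root_.Subgroup.coe_mul, _root_.InvMemClass.coe_inv, _root_.mul_inv_cancel_left, _root_.MulAut.conj_apply, _root_.mul_inv_cancel, _root_.mul_one] using congrArg (MulAut.conj (x : Y)) h5
    · rintro _ ⟨a, h4, rfl⟩
      simpa only [mul_assoc, _root_.Subgroup.subtype_apply, _root_.map_inv, _root_.Subgroup.coe_mul, _root_.InvMemClass.coe_inv, _root_.MulAut.inv_apply, _root_.MulAut.conj_symm_apply, _root_.inv_mul_cancel_left, _root_.inv_mul_cancel, _root_.mul_one] using congrArg (MulAut.conj (x : Y)⁻¹) (e _ ⟨_, (h3 _).1 h4, rfl⟩)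
  let e := cjE x.2.2 hC
  refine ⟨GF F s₁.K, inferInstance, inferInstance, s₁.ι, s₂.ι.comp e.toMonoidHom, s₁.ι_injective, hs₁.range, fun _ => rfl, by_contra fun h4 => hx ?_⟩
  have h5 := two_le_sz1 D
  have h6 : bd (nb s.E) (sz1 D + Nat.card s.E.W) < r := (bd_mono s.nb_le le_rfl).trans_lt (hu.bd_nb (i := 2) (by
    have := s.card_le.trans hu.card_le
    nlinarith) (by norm_num))
  obtain ⟨ψ, hψ, h7, h8⟩ := exists_common (OddOrderCharacters.VChar.gen_isClassFunction ((hu.sub s).big_GF.rs_gen hQ₁ hg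
    ((bd_mono le_rfl (Nat.le_add_right _ _)).trans_lt h6) s₁.ι_injective hs₁.range)) h4
  have hψ' := isIrr_comp e.symm.toMonoidHom e.symm.surjective hψ
  have e4 : (ψ ∘ e.symm.toMonoidHom) ∘ e = ψ := funext fun m => congrArg ψ (e.symm_apply_apply m)
  obtain ⟨u₁, c₁, h9, h10⟩ := br_gen1 hs.qs hu.ne hs₁ hg h6 hl hψ h7
  obtain ⟨u₂, c₂, h11, h12⟩ := br_gen1 hs.qs hu.ne hs₂ hg h6 hl hψ' (by
    rw [← Clifford.classInner_comp_mulEquiv e, e4]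
    exact mt OddOrderCharacters.VChar.classInner_comm_eq_zero h8)
  obtain ⟨u, c', θ, z₁, hz₁, z₂, hz₂, h13, h14, h15, h16⟩ := has_cj ((ov_sub s).trans (ov_sub s₁)) ((ov_sub s).trans (ov_sub s₂))
    x.2 hC (s₁.fr (s.fr f)) (s₂.fr (s.fr f)) (e4.symm ▸ h9)
  have h17 := h12.trans (cj_sub (ih s₂ lam₂ hs₂.qs e3 _ _ hψ' u₂ c₂ u c' h11 h13))
  have h18 : ∀ (s' : Sb s.E) z, z ∈ s'.K → z * s'.y ∈ s.K := fun s' z hz => mul_mem (s'.K_le hz) s'.hy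
  obtain ⟨v, hv⟩ : (z₂ * s₂.y * s.y)⁻¹ * x * (z₁ * s₁.y * s.y) ∈ D.NN := by
    refine RL.mem_NN_of_cj (mul_mem (mul_mem (inv_mem (mul_mem (s.K_le (h18 _ _ hz₂)) s.hy)) x.2.1)
      (mul_mem (s.K_le (h18 _ _ hz₁)) s.hy)) (le_of_eq ?_)
    rw [cj_mul, cj_mul, cj_mul, cj_mul]
    refine (congrArg _ h16).trans ?_
    rw [show s₂.E.T = cj s₂.y (cj s.y D.T) from rfl, ← cj_mul z₂, ← cj_mul (z₂ * _), cj_inv_cj]
  have h19 : s.y * ((z₂ * s₂.y * s.y)⁻¹ * x * (z₁ * s₁.y * s.y)) * s.y⁻¹ ∈ s.K := by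
    obtain ⟨A₁, a1, a2⟩ := h10
    obtain ⟨A₂, a3, a4⟩ := h17
    obtain ⟨v₁, rfl⟩ := s.mem_WW.1 a1
    obtain ⟨v₂, rfl⟩ := s.mem_WW.1 a3
    have a5 : _root_.Cfsg.Agent.DL.PP.Rel D (s.sw v₂⁻¹ * (v * s.sw v₁)) c c := Rel.trans (Rel.trans a2
      (rel_of_lab (_root_.Cfsg.Agent.HZ.L.Iso.lab_sub (_root_.Cfsg.Agent.HZ.L.Iso.lab_sub h14)) (_root_.Cfsg.Agent.HZ.L.Iso.lab_sub (_root_.Cfsg.Agent.HZ.L.Iso.lab_sub h15)) x.2.2 hv)) (map_inv s.sw v₂ ▸ Rel.symm a4)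
    have a6 := mul_mem (mul_mem a3 (ht _ a5)) (s.mem_WW.2 ⟨v₁⁻¹, rfl⟩)
    rw [← D.Wm_mul, ← D.Wm_mul, map_inv, map_inv, mul_inv_cancel_left, mul_inv_cancel_right] at a6
    exact mem_K hv a6
  have h20 := mul_mem (mul_mem (h18 _ _ hz₂) h19) (inv_mem (h18 _ _ hz₁))
  exact (mem_C hs.cen).1 (by simpa only [mul_assoc, _root_.mul_inv_rev, _root_.mul_inv_cancel_left, _root_.mul_inv_cancel, _root_.mul_one] using h20)

end

/-- **the isometry** -/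
theorem iso1 [Fintype ↥(GF F G)] [Fintype ↥(GF F s.K)] [Fact r.Prime] (hq : D.QS) (h1 : On1 s.E) (ih : OnL s.E) (f : Fr D)
    (hu : Hu1 D r) (hs : s.For r P) {χ : ↥(GF F G) → ℂ} (hχ : IsIrrCharacter _ χ) (hr : RatR r χ) {u : s.E.W}
    (hc : Has f χ (s.sw u * s.w) c) (ht : ∀ v, _root_.Cfsg.Agent.DL.PP.Rel D v c c → D.Wm v ∈ WW (rts s.E)) :
    ∃ ε η, IsIrrCharacter _ η ∧ Cor1 s r P χ ε η ∧ ∀ u' c', Has (s.fr f) η u' c' → Cj (rts s.E) c c' := by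
  have h2 := two_le_sz1 D
  have h3 := nb_le_sz1 D
  have hf : Sm r (sz1 D) (s.rs r P χ) :=
    (hu.big_GF.sm_rs hs.grp (sm_irr hχ hr) hu.bd_one s.ι_injective hs.range).mono (by omega)
  let S : Set (IrrCharacter (GF F s.K)) := {ψ | ∀ u' c', Has (s.fr f) ψ u' c' → Cj (rts s.E) c c'}
  have h0 : Nat.card (GF F s.K) * (p ^ f.e - 1) ≠ 0 := mul_ne_zero Nat.card_pos.ne'
    (Nat.sub_ne_zero_of_lt (Nat.one_lt_pow f.L.e_pos.ne' (Fact.out : p.Prime).one_lt))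
  have h4 : ∀ σ : ℂ ≃+* ℂ, (∀ z : ℂ, z ^ ordCompl[r] (Nat.card (GF F s.K) * (p ^ f.e - 1)) = 1 → σ z = z) →
      ∀ (m : ℕ) (z : ℂ), ¬ r ∣ m → m ∣ Nat.card (GF F s.K) * (p ^ f.e - 1) → z ^ m = 1 → σ z = z := fun σ hσ m z a b e => by
    obtain ⟨i, hi⟩ := Nat.dvd_ordCompl_of_dvd_not_dvd b a
    exact hσ z (by rw [hi, pow_mul, e, one_pow])
  have h5 : ∀ σ : ℂ ≃+* ℂ, (∀ z : ℂ, z ^ ordCompl[r] (Nat.card (GF F s.K) * (p ^ f.e - 1)) = 1 → σ z = z) →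
      ∀ ψ ψ', IsIrrCharacter _ ψ → IsIrrCharacter _ ψ' → ψ' = (fun x => σ (ψ x)) → classInner (s.rs r P χ) ψ ≠ 0 →
      ∀ u c', Has (s.fr f) ψ u c' → Has (s.fr f) ψ' u c' := fun σ hσ ψ ψ' hψ _ e a u c' b => by
    have h6 := LV.One.inner_gal (s.fr f) σ hψ b
    rwa [← e, show (fun j => Units.map (σ : ℂ →* ℂ) (c' j)) = c' from funext fun i => Units.ext (h4 σ hσ _ _
      ((Cf.boxChf s.E hs.qs).lab _ r _ _ hf (hu.lt (i := 2) (by
        have := s.card_le.trans hu.card_le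
        nlinarith only [this]) (by norm_num)) ψ hψ a u c' b) ((orderOf_dvd_of_pow_eq_one (pow_of_fx (s.fr f) b.fx)).mul_left _)
      (congrArg Units.val (congrFun (pow_orderOf_eq_one c') i)))] at h6
  have hg : Sm r (sz1 D) (blockPart S (s.rs r P χ)) := ⟨bp_gen hf.gen, bp_le.trans hf.nrm, ratR_of_fix (bp_gen hf.gen)
    (Nat.not_dvd_ordCompl hu.prime h0) fun σ hσ => bp_fix (hf.rat.fix hf.gen σ fun m z a b => h4 σ hσ m z a (b.mul_right _))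
      fun ψ ψ' e a b => ⟨fun e' u c' h6 => e' u c' (h5 σ hσ _ _ ψ'.2 ψ.2 e b u c' h6), fun e' u c' h6 => e' u c'
        (h5 σ.symm (fun z hz => σ.symm_apply_eq.2 (hσ z hz).symm) _ _ ψ.2 ψ'.2 (by simp [e]) a u c' h6)⟩⟩
  obtain ⟨ψ, hψ, h6, h7⟩ := exists_common (OddOrderCharacters.VChar.gen_isClassFunction hf.gen) (η := RW (s.fr f) u c) (by
    rw [(Cf.boxChf D hq).adj f r P s hu.ne hs 1 χ (sm_irr hχ hr) hu.bd_one]
    exact hc)
  obtain ⟨h8, h9⟩ := HZ.L.Iso.iso hu.big_GF hs.grp s.ι_injective hs.range (hg.mono (B' := sz1 D ^ 2) (by nlinarith only []))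
    (hu.bd_nb le_rfl (by norm_num)) (ort1 ih hu hs ht hg fun η hη e => ((bp_ne (S := S) hη).1 e).1)
    (fun a x e => bp_mul (fun η hη e' => hu.big_GF.rs_ker hs.grp (sm_irr hχ hr) hu.bd_one s.ι_injective hs.range hη e' e) x)
    ((sm_irr hχ hr).mono (by nlinarith)) (classInner_irr_self hχ) ((Nat.lt_succ_self _).trans (hu.lt (i := 14) (by
      calc 32 * (2 * nb D * sz1 D ^ 2) ^ 3 ≤ sz1 D ^ 5 * (sz1 D * sz1 D ^ 2) ^ 3 := by
            gcongr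
            exact Nat.pow_le_pow_left h2 5
        _ = _ := by ring) (by norm_num)))
    (fun e => (bp_ne (S := S) hψ).2 ⟨fun u' c' => h1 _ ψ hψ u c u' c' h7, h6⟩ (by rw [e, classInner_zero_left])) bp_self
  have h10 : ∀ (ε : ℂ) η, (ε = 1 ∨ ε = -1) → IsIrrCharacter _ η → blockPart S (s.rs r P χ) = ε • η →
      ∃ ε η, IsIrrCharacter _ η ∧ Cor1 s r P χ ε η ∧ ∀ u' c', Has (s.fr f) η u' c' → Cj (rts s.E) c c' := fun ε η a hη e => by
    refine ⟨ε, η, hη, ⟨a, fun φ hφ => ?_⟩, ((bp_ne (S := S) (φ := s.rs r P χ) hη).1 ?_).1⟩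
    · rw [← classInner_conj_symm, h9 φ hφ, classInner_conj_symm, e, classInner_smul_right]
      rcases a with rfl | rfl <;> simp only [Sb.rs, _root_.map_one, _root_.one_mul, _root_.map_neg, _root_.neg_mul]
    · rw [e, classInner_smul_left, classInner_irr_self hη]
      rcases a with rfl | rfl <;> simp
  exact (isIrr_of_generalized hg.gen h8).elim (fun e => h10 1 _ (.inl rfl) e (one_smul _ _).symm)
    fun e => h10 (-1) _ (.inr rfl) e (by simp)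


variable [Fintype ↥(GF F G)] {f : Fr D} {χ : ↥(GF F G) → ℂ}

theorem exists_sb1 (hq : D.QS) (hu : Hu1 D r) {μ : ℂ} (hP : _root_.Cfsg.Agent.HZ.L.Pr D B r μ) {y : D.R → ℂ}
    (hy : IsE (D.Wm w * B) μ y) (hl : ∀ a ∈ rts D, (a.1 ⬝ᵥ lam = 0 ↔ ev a.1 y = 0)) :
    ∃ (P : Subgroup ↥(GF F G)) (s : Sb D) (u : s.E.W), s.For r P ∧ rts s.E = _root_.Cfsg.Agent.HZ.L.lev (rts D) lam ∧ w = s.sw u * s.w := by
  obtain ⟨z, h1, h2⟩ := hP w y hy
  obtain ⟨P, s, u, h3, h4, h5, -⟩ := (boxSb D hq).vec r hu.prime hu.ne hu.not_dvd w z lam h1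
    fun a ha => (h2 a ha).trans (hl a ha).symm
  exact ⟨P, s, u, h3, h4, h5⟩

/-- the congruence for an irreducible character -/
theorem br_irr1 (hq : D.QS) [Fact r.Prime] [Fintype ↥(GF F s.K)] (hu : Hu1 D r)
    (hs : s.For r P) (hχ : IsIrrCharacter _ χ) (hr : RatR r χ) {M : Ideal AlgInt} (hM : IsPModular r M)
    {ψ : ↥(GF F s.K) → ℂ} (hψ : IsIrrCharacter _ ψ) (hi : classInner (s.rs r P χ) ψ ≠ 0) (f : Fr D) (c : Lbl D) :
    MemLocalIdeal M (aL f {x | Cj (rts D) c x} χ - aL (s.fr f) {x | Cj (rts D) c x} ψ) := by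
  obtain ⟨χ', h1, h2, h3⟩ := boxBR1 hq f r P s hu.ne hs 1 χ (sm_irr hχ hr) (hu.bd_nb (i := 2) (by
    have := hu.card_le
    have := two_le_sz1 D
    nlinarith) (by norm_num)) M hM ψ hψ hi
  rw [eq_of_ne hχ h1 h2]
  exact h3 _ fun v x y e hx => hx.trans (cj_rel e)

open Classical in
theorem br_eig1 (hq : D.QS) (ih : OnS D) (hu : Hu1 D r)
    {μ : ℂ} (hP : _root_.Cfsg.Agent.HZ.L.Pr D B r μ) (hχ : IsIrrCharacter _ χ) (hr : RatR r χ) {M : Ideal AlgInt} (hM : IsPModular r M)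
    (hc : Has f χ w c) (he : Eig (rts D) (D.Wm w * B) μ) (c₀ : Lbl D) :
    MemLocalIdeal M (aL f {x | Cj (rts D) c₀ x} χ - if Cj (rts D) c₀ c then 1 else 0) := by
  have := Fact.mk hu.prime
  obtain ⟨y, hy, a, ha', h1⟩ := he
  obtain ⟨lam, h2⟩ := exists_pat y
  obtain ⟨P, s, u, hs, h3, rfl⟩ := exists_sb1 hq hu hP hy h2
  have := D.amb.finite_GF s.K
  have := Fintype.ofFinite ↥(GF F s.K)
  have h4 : _root_.Cfsg.Agent.HZ.L.lev (rts D) lam ≠ rts D := lev_ne.2 fun e => h1 ((h2 a ha').1 (e a ha'))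
  obtain ⟨ψ, hψ, h5, h6⟩ := exists_common (OddOrderCharacters.VChar.gen_isClassFunction (hu.rs_gen hs hχ hr))
    (η := RW (s.fr f) u c) (by
    rw [(Cf.boxChf D hq).adj f r P s hu.ne hs 1 χ (sm_irr hχ hr) hu.bd_one]
    exact hc)
  have h7 : ∀ u' c', Has (s.fr f) ψ u' c' → Cj (rts D) c c' := fun u' c' e => cj_sub
    ((ih s lam hs.qs h3 h4).1 _ ψ hψ u c u' c' h6 e)
  have h8 := br_irr1 hq hu hs hχ hr hM hψ h5 f c₀
  split_ifs with h9
  · exact aL_eq_one (D := s.E) (Λ := {x | Cj (rts D) c₀ x}) hψ (fun u' c' e => h9.trans (h7 u' c' e)) ▸ h8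
  · exact aL_eq_zero (D := s.E) (Λ := {x | Cj (rts D) c₀ x})
      (fun u' c' e e' => h9 (Cj.trans e' (cj_symm (h7 u' c' e)))) ▸ h8

/-- **a common eigenvalue links two labels** -/
theorem link1 (hq : D.QS) (ih : OnS D) (hχ : IsIrrCharacter _ χ) (hR : Rich1 D B χ) : Lk B f χ :=
  fun w c w' c' μ hc hc' he he' => by
  obtain ⟨r, hu, hP, hr⟩ := hR w μ he
  obtain ⟨M, hM⟩ := ExistsModular.exists_isPModular hu.prime
  have h1 := br_eig1 hq ih hu hP hχ hr hM hc he c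
  have h2 := br_eig1 hq ih hu hP hχ hr hM hc' he' c
  by_contra h3
  rw [if_pos (Cj.refl _ c)] at h1
  rw [if_neg h3] at h2
  exact LocalRing.not_memLocalIdeal_one hM (by simpa using LocalRing.memLocalIdeal_sub hM h2 h1)

end Cfsg.Agent.OM.On

private theorem dce_d8624564260b : _root_.True := by
  try have : _root_.True := by simp only [_root_.Cfsg.Agent.HZ.L.Cj.congr_simp]
  exact _root_.True.intro
end

-- part: OM/On/Ty
section
set_option linter.all false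
open scoped Cfsg.Agent.FastGrp

/-!
# OM/On: the types of Levi subsystems, `boxTy` (helper16)
-/

set_option autoImplicit false
set_option linter.unusedSectionVars false
set_option maxRecDepth 100000
set_option synthInstance.maxSize 4096
set_option synthInstance.maxHeartbeats 200000

namespace Cfsg.Agent.OM.On

open Cfsg Cfsg.Lie Cfsg.Agent.DL Matrix Cfsg.Agent.HZ.L Cfsg.Agent.HZ.L.U Cfsg.Agent.KZ.DatX Cfsg.Agent.Nodes.RGDChev
  Cfsg.Agent.ChevalleyStructure.CoxeterGeomTypes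

namespace TyP

section Comb

variable {R R' : Type} [Fintype R] [DecidableEq R] [Fintype R'] [DecidableEq R'] {Ψ : RS R} {Ψ' : RS R'}

theorem cl_iso (h : Iso Ψ Ψ') (e : Cl Ψ') : Cl Ψ :=
  let ⟨n, κ, blk, h1⟩ := e
  ⟨n, κ, blk, h.trans h1⟩

theorem cl_ex (e : Ex Ψ) : Cl Ψ :=
  let ⟨n, κ, blk, h1, _⟩ := e
  ⟨n, κ, blk, h1⟩

theorem te_iso (h : Iso Ψ Ψ') (e : TE Ψ') : TE Ψ :=
  let ⟨lam, h1, h2⟩ := e
  ⟨lam, h1, h.trans h2⟩

theorem lev_eq {lam : Vec R} : lev Ψ lam = Ψ ↔ Perp Ψ lam := not_iff_not.1 lev_ne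

theorem lev_lev_fin (h : Ψ.Finite) (lam mu : Vec R) : ∃ nu, lev (lev Ψ lam) mu = lev Ψ nu := by
  obtain ⟨t, ht⟩ := (h.image fun a => |a.1 ⬝ᵥ mu|).bddAbove
  refine ⟨(t + 1) • lam + mu, Set.ext fun a => and_assoc.trans (and_congr_right fun ha => ?_)⟩
  rw [dotProduct_add, dotProduct_smul, smul_eq_mul]
  exact (X.Adm.small (Int.lt_add_one_iff.2 (ht ⟨a, ha, rfl⟩))).symm

theorem iso_lev (φ : Ψ ≃ Ψ') (hφ : ∀ a b, (φ a).1.1 ⬝ᵥ (φ b).1.2 = a.1.1 ⬝ᵥ b.1.2) {lam : Vec R} {lam' : Vec R'}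
    (h : ∀ a : Ψ, a.1.1 ⬝ᵥ lam = 0 ↔ (φ a).1.1 ⬝ᵥ lam' = 0) :
    Iso (lev Ψ lam) (lev Ψ' lam') ∧ (lev Ψ lam = Ψ ↔ lev Ψ' lam' = Ψ') := by
  refine ⟨⟨⟨fun a => ⟨_, (φ ⟨a.1, a.2.1⟩).2, (h _).1 a.2.2⟩, fun b => ⟨_, (φ.symm ⟨b.1, b.2.1⟩).2, (h _).2 (by
    rw [Equiv.apply_symm_apply]; exact b.2.2)⟩, fun a => Subtype.ext (Subtype.ext_iff.1 (φ.symm_apply_apply ⟨a.1, a.2.1⟩) :),
    fun b => Subtype.ext (Subtype.ext_iff.1 (φ.apply_symm_apply ⟨b.1, b.2.1⟩) :)⟩, fun a b => hφ ⟨a.1, a.2.1⟩ ⟨b.1, b.2.1⟩⟩, ?_⟩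
  rw [lev_eq, lev_eq]
  refine ⟨fun e b hb => ?_, fun e a ha => (h ⟨a, ha⟩).2 (e _ (φ _).2)⟩
  obtain ⟨a, e'⟩ := φ.surjective ⟨b, hb⟩
  have h1 := (h a).1 (e _ a.2)
  rwa [e'] at h1

theorem tr_Qv (φ : Ψ ≃ Ψ') (hφ : ∀ a b, (φ a).1.1 ⬝ᵥ (φ b).1.2 = a.1.1 ⬝ᵥ b.1.2) {y : Vec R} (hy : y ∈ X.Qv Ψ) :
    ∃ y' : Vec R', ∀ a : Ψ, (φ a).1.1 ⬝ᵥ y' = a.1.1 ⬝ᵥ y := by
  refine X.Qv.ind (P := fun y => ∃ y' : Vec R', ∀ a : Ψ, (φ a).1.1 ⬝ᵥ y' = a.1.1 ⬝ᵥ y) hy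
    ⟨0, fun a => by rw [dotProduct_zero, dotProduct_zero]⟩ (fun b hb => ⟨_, fun a => hφ a ⟨b, hb⟩⟩) ?_ ?_
  · rintro x y ⟨x', h1⟩ ⟨y', h2⟩
    exact ⟨x' + y', fun a => by rw [dotProduct_add, dotProduct_add, h1, h2]⟩
  · rintro m x ⟨x', h1⟩
    exact ⟨m • x', fun a => by rw [dotProduct_smul, dotProduct_smul, h1]⟩

end Comb

section Std

variable {C : ChevalleyDatum} {n : ℕ} {M : CoxeterMatrix (Fin n)} {B : Fin n → Fin n → ℤ}

/-- standard position -/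
theorem sp' (hp : IsType C n M) (h : FB C n B) : SP C n B := by
  have : Fact (Nat.Prime 2) := ⟨Nat.prime_two⟩
  obtain ⟨p, e, _, _, _, he, -, hk⟩ := DL.Ex.exists_closure (ZMod 2)
  exact sp (xfS hp p hk he) h

theorem cl_lev (hp : IsType C n M) (h : FB C n B) (hK : ∀ K : Finset (Fin n), K ≠ Finset.univ → Ex (lev (Ph C n B) (ind K)))
    {lam : Vec (Fin n)} (e : lev (Ph C n B) lam ≠ Ph C n B) : Cl (lev (Ph C n B) lam) := by
  obtain ⟨K, P, Q, h1, h2⟩ := sp' hp h lam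
  refine cl_iso h2.iso (cl_ex (hK K ?_))
  rintro rfl
  rw [lev_univ] at h2
  exact e (Set.eq_of_subset_of_ncard_le (lev_sub _ _) h2.ncard_eq.ge finite_Ph)

theorem iso8 (K : Finset (Fin 8)) : Iso (lev PE8 (ind K)) (E7.sl (id '' K)) :=
  ExU.iso_sl hpE8 fb_E8 id Function.injective_id (by decide +kernel) (fun r _ => ⟨r, fun _ => rfl⟩) K

theorem ne8 {K : Finset (Fin 8)} (h : (7 : Fin 8) ∉ K) : lev PE8 (ind K) ≠ PE8 := fun e => by
  obtain ⟨s, hs⟩ : ∃ s : Fin chevE8.nroots, vec chevE8 8 s 7 ≠ 0 := by decide +kernel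
  exact hs ((ExU.supp hpE8 s K).1 (lev_eq.1 e _ ⟨s, rfl⟩) 7 h)

theorem te_sl (hp : IsType C n M) (hF : FB C n B) (ι : Fin n → Fin 8) (hι : Function.Injective ι) (h7 : ∀ i, ι i ≠ 7)
    (hB : ∀ i j, B i j = E7.C8 (ι i) (ι j)) (h3 : ∀ r : Fin chevE8.nroots, (∀ k, (∀ i, ι i ≠ k) → vec chevE8 8 r k = 0) →
      ∃ s : Fin C.nroots, ∀ i, vec C n s i = vec chevE8 8 r (ι i)) : TE (Ph C n B) := by
  have h1 := ExU.iso_sl hp hF ι hι hB h3 Finset.univ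
  have h2 := iso8 (Finset.univ.image ι)
  rw [lev_univ] at h1
  rw [Set.image_id, Finset.coe_image] at h2
  exact ⟨_, ne8 fun e => (Finset.mem_image.1 e).elim fun i e => h7 i e.2, h1.trans h2.symm⟩

theorem fb_E7 : FB chevE7 7 (cartanOf chevE7 7) := by decide +kernel


theorem te6 : TE PE6 :=
  te_sl hpE6 fb_E6 (Fin.castLE (by decide)) (Fin.castLE_injective _) (by decide) (by decide +kernel) (fun r h => ⟨⟨_, Nat.mod_lt (Nat.land (Nat.shiftRight 0x11e3c7000000000000468d1800001162c589122430000042850a0c18301fbf7ef9ebc78f1dba72e000000ddbb76cd9b3568d1a3364c58b160bd72d5ab562b54a54a9509d3264c9522448000000000023468d121428501f3c78f1d386cd1a3464c172c58b15284c99324448912040800000078e1a3058b162848810203860c182850a00000080c1830408100000008102000000000000000000000000000000000000000000000000000000000000000000000000000 (Nat.mul 7 r.1)) 127) (by decide : 0 < chevE6.nroots)⟩, by revert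 r; decide +kernel⟩)

theorem te7 : TE (Ph chevE7 7 (cartanOf chevE7 7)) :=
  te_sl hpE7 fb_E7 (Fin.castLE (by decide)) (Fin.castLE_injective _) (by decide) (by decide +kernel) (fun r h => ⟨⟨_, Nat.mod_lt (Nat.land (Nat.shiftRight 0xfbf4000000007cf800000f7ec000f5e8079f3e3c770003b7601d7af4e9cc072e5c78f0dfbf76d01b366bd7ab4e9d19f366cb931e2c58705fbd7405cb96eddab366c57ad5aad4a74a951a13e74d9b325ca93224478d16244870a0c180fdf8000f9f3d78f1dba72e5c376cd5ab466c98b060bd72d58ad5aa52a13a74c952244689121420101f3c74e1b3668c982e5cb1528509922444880203c70e1a3060b160050912204000e1c0000c1428408001830000102000000102000000000000000000000000000000000 (Nat.mul 7 r.1)) 127) (by decide : 0 < chevE7.nroots)⟩, by revert r; decide +kernel⟩)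

theorem cl4 : Cl PD4 := lev_univ PD4 ▸ cl_ex (ExU.d4 Finset.univ)

end Std

variable {p : ℕ} [Fact p.Prime] {k : Type} [Field k] [CharP k p] [IsAlgClosed k] {Y : Type} [Group Y] {N : Type}
  [Fintype N] [DecidableEq N] {ρ : Y →* GL N k} {F : MulAut Y} {G : Subgroup Y} {D : Datum p ρ F G}

theorem iso {R' : Type} [Fintype R'] [DecidableEq R'] (Ψ' : RS R') (h : Iso (rts D) Ψ') (lam : Vec D.R) : ∃ lam',
    Iso (lev (rts D) lam) (lev Ψ' lam') ∧ (lev (rts D) lam = rts D ↔ lev Ψ' lam' = Ψ') := by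
  obtain ⟨φ, hφ⟩ := h
  obtain ⟨z, y, hz, hy, e⟩ := X.exists_dec (D := D) lam
  obtain ⟨y', h1⟩ := tr_Qv φ hφ hy
  refine ⟨y', iso_lev φ hφ fun a => ?_⟩
  have h2 := congrArg (a.1.1 ⬝ᵥ ·) e
  simp only [dotProduct_smul, dotProduct_add, hz _ a.2, zero_add, smul_eq_mul] at h2
  rw [h1, ← h2, mul_eq_zero_iff_left (Int.natCast_ne_zero.2 (Nat.card_pos (α := D.W)).ne')]

theorem cl (h : Cl (rts D)) (lam : Vec D.R) : Cl (lev (rts D) lam) := by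
  obtain ⟨n, κ, blk, h1⟩ := h
  obtain ⟨lam', h2, -⟩ := iso _ h1 lam
  obtain ⟨blk', -, h3⟩ := X.Adm.lev_std κ blk lam'
  exact ⟨n, κ, blk', h2.trans h3⟩

theorem te (h : TE (rts D)) (lam : Vec D.R) : TE (lev (rts D) lam) := by
  obtain ⟨mu, h0, h1⟩ := h
  obtain ⟨lam', h2, -⟩ := iso _ h1 lam
  obtain ⟨nu, h3⟩ := lev_lev_fin (Ψ := PE8) finite_Ph mu lam'
  exact ⟨nu, fun e => h0 ((lev_sub _ _).antisymm ((h3.trans e).ge.trans (lev_sub _ _))), h3 ▸ h2⟩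

theorem pre (h : Pre (rts D)) (lam : Vec D.R) : Pre (lev (rts D) lam) := fun mu e => by
  obtain ⟨nu, h1⟩ := lev_lev (D := D) lam mu
  exact h1 ▸ h nu fun e' => e ((lev_sub _ _).antisymm ((lev_sub _ _).trans (h1.trans e').ge))

theorem pre_of {R' : Type} [Fintype R'] [DecidableEq R'] {Ψ' : RS R'} (h : Iso (rts D) Ψ') (e : Pre Ψ') : Pre (rts D) :=
  fun lam h1 => by
    obtain ⟨lam', h2, h3⟩ := iso _ h lam
    exact (e lam' (mt h3.2 h1)).imp (cl_iso h2) (te_iso h2)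

end TyP

variable {p : ℕ} [Fact p.Prime] {k : Type} [Field k] [CharP k p] [IsAlgClosed k] {Y : Type} [Group Y] {N : Type}
  [Fintype N] [DecidableEq N] {ρ : Y →* GL N k} {F : MulAut Y} {G : Subgroup Y} (D : Datum p ρ F G)

open TyP in
/-- **the types of Levi subsystems** -/
theorem boxTy : BoxTy D where
  iso := TyP.iso
  ty h lam := h.imp (TyP.cl · lam) (TyP.te · lam)
  pre := TyP.pre
  cl h lam _ := .inl (TyP.cl h lam)
  e8 h := pre_of h fun lam e => .inr ⟨lam, e, Iso.refl _⟩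
  e6 h := te_iso h te6
  f4 h := pre_of h fun _ e => .inl (cl_lev hpF4 fb_F4 boxEx.f4 e)
  g2 h := pre_of h fun _ e => .inl (cl_lev hpG2 fb_G2 boxEx.g2 e)
  d4 h := cl_iso h cl4
  e7 h := te_iso h te7

end Cfsg.Agent.OM.On
end

-- part: OM/On/Up
section
prune_inst 0x410403504350000000018000052007e62e2000000004b8800a06202040a000842810186200a4004181830089800008048110000204200000008000200000100000800000090080000000000000800400000000000000000000000000000000000000000000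
set_option linter.all false
open scoped Cfsg.Agent.FastGrp

/-!
# OM/On: the lift to a large level, cores, factors; all characteristics (helper66; after `HZ/L/Up`, `HZ/L/Cr/Res`)

`lg_pr`, `lg_up`, `exists_core`, `cr1`, `pe1`.
-/

set_option autoImplicit false
set_option linter.unusedSectionVars false
set_option maxHeartbeats 400000

namespace Cfsg.Agent.OM.On

open Cfsg Cfsg.Agent.DL Cfsg.Agent.DL.PP Cfsg.Agent.DL.Uni Cfsg.Agent.DL.Asm Matrix Cfsg.Agent.KZ.Lie Cfsg.Agent.HZ.Gen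
  Cfsg.Agent.ODD.Red Cfsg.Agent.LV.Lift Cfsg.Agent.H593.GlaubermanP Cfsg.Agent.Characters Cfsg.Agent.HZ.L Polynomial
open Cfsg.Agent.HZ.L.X (Isol PE Cen Zc)

section Comb

variable {R : Type} [Fintype R] [DecidableEq R]

/-- a stable set of roots in a proper Levi subsystem is killed by an eigenvector which is not central -/
theorem exists_isE1 {A : Mat R} {Ψ : RS R} {n : ℕ} {t : ℤ} (hn : 0 < n) (ht : t ≠ 0) (hA : A ^ n = t • (1 : Mat R))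
    (h : ∀ b ∈ Ψ, ∃ a ∈ Ψ, ∃ m : ℤ, b.1 ᵥ* A = m • a.1) {lam : Vec R} (h1 : Perp Ψ lam) {a : Vec R}
    (h2 : a ⬝ᵥ lam ≠ 0) : ∃ μ y, IsE A μ y ∧ (∀ b ∈ Ψ, ev b.1 y = 0) ∧ ev a y ≠ 0 := by
  let φ : Mat R →+* Matrix R R ℂ := (Int.castRingHom ℂ).mapMatrix
  have hφ : ∀ X : Mat R, X.map (Int.cast : ℤ → ℂ) = φ X := fun _ => rfl
  let V : Submodule ℂ (R → ℂ) := ⨅ b ∈ Ψ, LinearMap.ker (dotProductBilin ℂ ℂ fun i => (b.1 i : ℂ))
  have hV : ∀ y, y ∈ V ↔ ∀ b ∈ Ψ, ev b.1 y = 0 := fun y => by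
    simp only [V, Submodule.mem_iInf, LinearMap.mem_ker]
    rfl
  have h5 : ∀ y ∈ V, toLin' (φ A) y ∈ V := fun y hy => (hV _).2 fun b hb => by
    obtain ⟨b', hb', m, e⟩ := h b hb
    have h3 := (hV y).1 hy b' hb'
    rw [toLin'_apply, ← hφ, ev_mul, e]
    simp only [ev, dotProduct, Pi.smul_apply, smul_eq_mul, Int.cast_mul, mul_assoc, ← Finset.mul_sum] at h3 ⊢
    rw [h3, mul_zero]
  let f : Module.End ℂ V := (toLin' (φ A)).restrict h5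
  have h6 : f ^ n = algebraMap ℂ _ t := LinearMap.ext fun y => Subtype.ext (by
    rw [Module.End.pow_restrict, LinearMap.coe_restrict_apply, ← toLin'_pow, ← map_pow, hA, map_zsmul, map_one, map_zsmul,
      toLin'_one, Module.algebraMap_end_apply, Int.cast_smul_eq_zsmul]
    rfl)
  have h7 : f.IsSemisimple := Module.End.isSemisimple_of_squarefree_aeval_eq_zero (p := X ^ n - C (t : ℂ))
    (separable_X_pow_sub_C (t : ℂ) (Nat.cast_ne_zero.2 hn.ne') (Int.cast_ne_zero.2 ht)).squarefree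
    (by rw [map_sub, map_pow, aeval_X, aeval_C, h6, sub_self])
  by_contra h8
  push Not at h8
  let l : V →ₗ[ℂ] ℂ := (dotProductBilin ℂ ℂ fun i => (a i : ℂ)).comp V.subtype
  have h9 : ⊤ ≤ LinearMap.ker l := by
    rw [← h7.iSup_eigenspace_eq_top]
    exact iSup_le fun μ y hy => h8 μ y (congrArg Subtype.val (Module.End.mem_eigenspace_iff.1 hy)) ((hV _).1 y.2)
  have h10 : ev a (fun i => (lam i : ℂ)) = 0 :=
    (h9 (Submodule.mem_top (x := ⟨_, (hV _).2 fun b hb => (ev_int _ lam).trans (by rw [h1 b hb, Int.cast_zero])⟩)) :)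
  exact h2 (Int.cast_eq_zero.1 ((ev_int a lam).symm.trans h10))

theorem map_smul_vec (t : ℤ) (A : Mat R) (y : R → ℂ) :
    (t • A).map (Int.cast : ℤ → ℂ) *ᵥ y = (t : ℂ) • A.map (Int.cast : ℤ → ℂ) *ᵥ y := by
  rw [← smul_mulVec]
  congr 1
  ext a b
  rw [map_apply, Matrix.smul_apply, Matrix.smul_apply, map_apply, smul_eq_mul, smul_eq_mul, Int.cast_mul]

end Comb

variable {p : ℕ} [Fact p.Prime] {k : Type} [Field k] [CharP k p] [IsAlgClosed k] {Y : Type} [Group Y] {N : Type}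
  [Fintype N] [DecidableEq N] {ρ : Y →* GL N k} {F : MulAut Y} {G : Subgroup Y} {D : Datum p ρ F G}
  {j : ℕ} {B : Mat D.R} {w : D.W} {c c' : Lbl D} {lam : Vec D.R}

theorem stW (h : St D j B) : StW D j B := ⟨h.mx, h.qs⟩

variable (D) in
theorem stW_zero (hq : D.QS) : StW D 0 D.Mx := ⟨by rw [pow_zero, one_smul], hq⟩

namespace StW

variable (h : StW D j B)
include h

theorem WM (w : D.W) : D.Wm w * D.Mx = ((p : ℤ) ^ j) • (D.Wm w * B) := by rw [h.mx, mul_smul_comm]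

theorem sub {s : Sb D} (hq : s.E.QS) : StW s.E j (D.Wm s.w * B) := ⟨h.WM s.w, hq⟩

theorem pow (f : Fr D) {l i : ℕ} (hl : 0 < l) (e : l = f.d * i + 1) : StW (D.pow hl) (f.e * i + j) B where
  mx := by
    have h1 : D.Mx ^ l = ((p : ℤ) ^ (f.e * i + j)) • B := by
      rw [e, add_comm, LV.One.pow_Mx f.L, h.mx, smul_smul, pow_add]
    exact h1
  qs := LV.One.pow_QS h.qs hl

theorem isE_iff {μ : ℂ} {y : D.R → ℂ} : IsE (D.Wm w * D.Mx) ((p : ℂ) ^ j * μ) y ↔ IsE (D.Wm w * B) μ y := by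
  rw [IsE, h.WM, map_smul_vec, Int.cast_pow, Int.cast_natCast, mul_smul]
  exact (smul_right_injective _ (pow_ne_zero j (Nat.cast_ne_zero.2 (Fact.out : p.Prime).ne_zero))).eq_iff

theorem eig_smul {μ : ℂ} (h0 : μ ≠ 0) {y : D.R → ℂ} (hy : IsE (D.Wm w * B) μ y) :
    ((p : ℂ) ^ j * μ)⁻¹ • (D.Wm w * D.Mx).map (Int.cast : ℤ → ℂ) *ᵥ y = y := by
  rw [h.isE_iff.2 hy, smul_smul,
    inv_mul_cancel₀ (mul_ne_zero (pow_ne_zero j (Nat.cast_ne_zero.2 (Fact.out : p.Prime).ne_zero)) h0), one_smul]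

/-- **the core**: a label which is not isolated has its roots in the proper Levi subsystem of an eigenvector -/
theorem exists_core (hc : Fx D w c) (hn : ¬ Isol (rts D) c) :
    ∃ μ y mu, IsE (D.Wm w * B) μ y ∧ Eig (rts D) (D.Wm w * B) μ ∧ (∀ a ∈ rts D, (a.1 ⬝ᵥ mu = 0 ↔ ev a.1 y = 0)) ∧
      Zc (rts D) c ⊆ _root_.Cfsg.Agent.HZ.L.lev (rts D) mu ∧ lev (rts D) mu ≠ rts D := by
  obtain ⟨d, e, L⟩ := exists_lvl D
  simp only [Isol, not_forall] at hn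
  obtain ⟨lam, h1, h2⟩ := hn
  obtain ⟨a, ha, h5⟩ : ∃ a ∈ rts D, a.1 ⬝ᵥ lam ≠ 0 := by simpa only [Perp, not_forall, exists_prop] using h2
  have hp : (p : ℂ) ^ j ≠ 0 := pow_ne_zero j (Nat.cast_ne_zero.2 (Fact.out : p.Prime).ne_zero)
  obtain ⟨μ, y, h6, h7, h8⟩ := exists_isE1 L.d_pos (pow_ne_zero e (Nat.cast_ne_zero.2 (Fact.out : p.Prime).ne_zero))
    (L.pow w) (Ψ := Zc (rts D) c) (by
      rintro _ ⟨⟨b, hb, rfl⟩, h3⟩
      obtain ⟨a, ha, rfl⟩ := gw_surj w hb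
      refine ⟨_, ⟨rt_mem ha, ?_⟩, _, wt_gw w ha⟩
      rw [← hc (D.cor a), ← mulVec_mulVec, D.Mx_cor ha, mulVec_smul, ← D.cor_act w (D.g_root a ha), chr_zsmul,
        show chr (D.cor (D.act w (D.g a))) c = 1 from h3, _root_.one_zpow]) h1 h5
  obtain ⟨mu, h9⟩ := exists_pat y
  rw [← mul_inv_cancel_left₀ hp μ, h.isE_iff] at h6
  exact ⟨_, y, mu, h6, ⟨y, h6, a, ha, h8⟩, h9, fun b hb => ⟨hb.1, (h9 b hb.1).2 (h7 b hb)⟩,
    lev_ne.2 fun e => h8 ((h9 a ha).1 (e a ha))⟩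

/-- **one prime for every eigenvalue** -/
theorem lg_pr (f : Fr D) (n : ℕ) : Lg fun l => ∀ hl : 0 < l, ∀ w μ, Eig (rts D) (D.Wm w * B) μ →
    ∃ r, r.Prime ∧ r ≠ p ∧ n < r ∧ Pr (D.pow hl) B r μ := by
  classical
  have hp : p.Prime := Fact.out
  have hd := f.L.d_pos
  have he := f.L.e_pos
  have hq : (p : ℂ) ^ j ≠ 0 := pow_ne_zero j (Nat.cast_ne_zero.2 hp.ne_zero)
  have hfin : {μ : ℂ | ((p : ℂ) ^ j * μ) ^ f.d = (p : ℂ) ^ f.e}.Finite := by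
    refine Set.Finite.preimage (f := fun μ => (p : ℂ) ^ j * μ) (s := {ν | ν ^ f.d = (p : ℂ) ^ f.e})
      (mul_right_injective₀ hq).injOn ((nthRoots f.d ((p : ℂ) ^ f.e)).toFinset.finite_toSet.subset fun μ hμ => ?_)
    exact Finset.mem_coe.2 (Multiset.mem_toFinset.2 ((mem_nthRoots hd).2 hμ))
  have hE : ∀ w μ, Eig (rts D) (D.Wm w * B) μ → μ ≠ 0 ∧ ((p : ℂ) ^ j * μ) ^ f.d = (p : ℂ) ^ f.e ∧
      ((p : ℂ) ^ j * μ)⁻¹ ^ f.d * (p : ℂ) ^ f.e = 1 := by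
    rintro w μ ⟨y, hy, a, -, ha⟩
    have h0 : y ≠ 0 := fun e => ha (by rw [e, ev, dotProduct_zero])
    have hy' : _ = _ := h.isE_iff.2 hy
    have h1 : ∀ i : ℕ, ((D.Wm w * D.Mx) ^ i).map (Int.cast : ℤ → ℂ) *ᵥ y = ((p : ℂ) ^ j * μ) ^ i • y := fun i => by
      induction i with
      | zero => simp
      | succ i ih =>
        rw [pow_succ, show ((D.Wm w * D.Mx) ^ i * (D.Wm w * D.Mx)).map (Int.cast : ℤ → ℂ) =
          ((D.Wm w * D.Mx) ^ i).map Int.cast * (D.Wm w * D.Mx).map Int.cast from Matrix.map_mul (f := Int.castRingHom ℂ),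
          ← mulVec_mulVec, hy', mulVec_smul, ih, smul_smul, pow_succ']
    have h2 := h1 f.d
    rw [f.L.pow w, map_smul_vec, Matrix.map_one _ Int.cast_zero Int.cast_one, one_mulVec, ← sub_eq_zero, ← sub_smul,
      smul_eq_zero, sub_eq_zero, Int.cast_pow, Int.cast_natCast] at h2
    have h3 := (h2.resolve_right h0).symm
    have h5 : (p : ℂ) ^ f.e ≠ 0 := pow_ne_zero _ (Nat.cast_ne_zero.2 hp.ne_zero)
    have h4 : μ ≠ 0 := fun e => h5 (by rw [← h3, e, mul_zero, zero_pow hd.ne'])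
    exact ⟨h4, h3, by rw [inv_pow, h3, inv_mul_cancel₀ h5]⟩
  refine (Lg.all hfin (Q := fun μ l => ∀ hl : 0 < l, μ ≠ 0 → ((p : ℂ) ^ j * μ)⁻¹ ^ f.d * (p : ℂ) ^ f.e = 1 →
    ∃ r, r.Prime ∧ r ≠ p ∧ n < r ∧ Pr (D.pow hl) B r μ) fun μ _ => ?_).mono fun l hl h0 w μ hμ =>
      hl μ (hE w μ hμ).2.1 h0 (hE w μ hμ).1 (hE w μ hμ).2.2
  by_cases hν : ((p : ℂ) ^ j * μ)⁻¹ ^ f.d * (p : ℂ) ^ f.e = 1
  swap
  · exact Lg.of_forall fun _ _ _ _ h1 => absurd h1 hν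
  obtain ⟨m, t₀, h1, h2⟩ := Up.exists_pat hd hp he hν (fun w : D.W => D.Wm w * D.Mx)
    ((finite_rts D).toFinset.image Prod.fst) n
  have hm : 0 < m := Nat.pos_of_ne_zero fun e => hp.ne_one (by simpa [e] using h1)
  refine ((Lg.gt (f.d * t₀ + 1)).and (Lg.lvl (mul_pos hd (Nat.totient_pos.2 hm)))).mono fun l ⟨h3, i, hi⟩ hl h0 _ => ?_
  have h7 : l = 1 + f.d * (m.totient * i) := by rw [← mul_assoc]; exact hi
  have h8 : t₀ < m.totient * i := lt_of_mul_lt_mul_left (a := f.d) (by omega) (Nat.zero_le _)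
  obtain ⟨r, hr, h9, h10, h11⟩ := h2 (p ^ (f.e * (m.totient * i))) (dvd_pow_self p (mul_pos he (by omega)).ne')
    (by
      rw [mul_left_comm, pow_mul]
      simpa using (Nat.ModEq.pow_totient h1.symm).pow (f.e * i))
    (h8.trans_le ((Nat.le_mul_of_pos_left _ he).trans (Nat.lt_pow_self hp.one_lt).le))
  have h13 : D.Mx ^ l = ((p : ℤ) ^ (f.e * (m.totient * i))) • D.Mx := h7 ▸ LV.One.pow_Mx f.L _
  refine ⟨r, hr, h10, h9, fun w y hy => ?_⟩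
  obtain ⟨z, h14, h15⟩ := h11 w y (h.eig_smul h0 hy)
  refine ⟨z, fun i => ?_, fun a ha => h15 _ (Finset.mem_image_of_mem _ ((Set.Finite.mem_toFinset _).2 ha))⟩
  show (r : ℤ) ∣ ((D.Wm w * D.Mx ^ l - 1) *ᵥ z) i
  rw [h13, mul_smul_comm]
  exact_mod_cast h14 i

end StW

variable [Fintype ↥(GF F G)] {f : Fr D} {χ : ↥(GF F G) → ℂ}

variable (f B) in
/-- the lift to the level `l` : `χ'` is the Glauberman correspondent of `χ` -/
structure Up1 (l : ℕ) : Prop where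
  lp : Lp f l
  up : ∀ [Fintype ↥(GF (F ^ l) G)], ∃ f' : Fr (D.pow lp.pos), ∀ χ χ', IsIrrCharacter _ χ → IsIrrCharacter _ χ' →
    (∀ g g' : GF (F ^ l) G, (g' : Y) = F g → χ' g' = χ' g) → ∀ a : ℕ, ¬ l ∣ a →
    classInner (χ' ∘ Subgroup.inclusion (le_pow l)) χ = a → Rich1 (D.pow lp.pos) B χ' ∧
      (∀ r, r.Prime → Nat.card (GF F G) < r → RatR r χ') ∧
      ∃ ε : ℂ, (ε = 1 ∨ ε = -1) ∧ ∀ w c, classInner χ' (RW f' w c) = ε * classInner χ (RW f w c)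

/-- **the lift** -/
theorem lg_up (h : StW D j B) (f : Fr D) : Lg (Up1 B f) := by
  refine ((lg_lp f).and (h.lg_pr f (bd (sz1 D) (sz1 D ^ 8) + Nat.card (GF F G)))).mono fun l ⟨hl, k3⟩ => ⟨hl, ?_⟩
  intro _
  have : Fact l.Prime := ⟨hl.prime⟩
  obtain ⟨f', h1, h2⟩ := hl.exists_fr
  obtain ⟨φ, hφ, hU⟩ := exists_setup hl
  refine ⟨f', fun χ χ' hχ hχ' hs a h7 h8 => ?_⟩
  have h9 := fun σ => Up.fix_iff hU ⟨χ', hχ'⟩ ⟨χ, hχ⟩ (inv_zpowers _ fun g => hs _ _ (hφ g)) h7 h8 σ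
  have h10 : ∀ r, r.Prime → Nat.card (GF F G) < r → RatR r χ' := fun r k6 k8 => by
    have : Fact r.Prime := ⟨k6⟩
    refine ratR_of_fix (OddOrderCharacters.VChar.gen_of_irr hχ')
      (Nat.not_dvd_of_pos_of_lt (Nat.card_pos (α := GF F G)) k8) fun σ hσ => (h9 σ).2 fun x => ?_
    rw [GaloisBasic.map_apply_card σ (m := 1) (fun z hz => (hσ z hz).trans (pow_one z).symm) (Core.isIrr_isCharacter hχ), pow_one]
  refine ⟨fun w μ hμ => ?_, h10, lift_of hl h1 h2 hχ hχ' hs h7 h8⟩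
  obtain ⟨r, k6, k7, k8, k9⟩ := k3 hl.pos w μ hμ
  exact ⟨r, ⟨k6, k7, lt_of_le_of_lt (Nat.le_add_right _ _) k8⟩, k9, h10 r k6 (by omega)⟩

/-- the lift of one character -/
theorem exists_rich1 (h : StW D j B) (f : Fr D) (hχ : IsIrrCharacter _ χ) :
    ∃ (l i : ℕ) (hl : 0 < l) (_ : Fintype ↥(GF (F ^ l) G)) (f' : Fr (D.pow hl)) (χ' : ↥(GF (F ^ l) G) → ℂ),
      l = f.d * i + 1 ∧ IsIrrCharacter _ χ' ∧ Rich1 (D.pow hl) B χ' ∧ ∀ w c, Has f' χ' w c ↔ Has f χ w c := by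
  obtain ⟨l, hl, hu⟩ := (lg_up h f).ex
  have : Fact l.Prime := ⟨hl.prime⟩
  have := finite_GF (D.pow hl.pos)
  have := Fintype.ofFinite (GF (F ^ l) G)
  obtain ⟨i, hi⟩ := hl.exists_eq
  obtain ⟨f', h1⟩ := hu
  obtain ⟨φ, hφ, hU⟩ := exists_setup hl
  obtain ⟨e, -, h4, h5⟩ := exists_bij hU
  obtain ⟨a, h7, h8⟩ := h5 ⟨χ, hχ⟩
  obtain ⟨h2, -, ε, h3, h6⟩ := h1 χ _ hχ (e ⟨χ, hχ⟩).2 (fun g g' hg => by
    rw [← (h4 _).2 ⟨_, rfl⟩ g, show g' = φ g from Subtype.ext (hg.trans (hφ g).symm)]) a h7 h8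
  refine ⟨l, i, hl.pos, this, f', _, hi, (e ⟨χ, hχ⟩).2, h2, fun w c => ?_⟩
  rw [Has, h6, mul_ne_zero_iff]
  exact and_iff_right (by rcases h3 with rfl | rfl <;> simp)

open Cr.Grp in
theorem cr_sp (hq : D.QS) (hE : OnS D) (hχ : IsIrrCharacter _ χ) {Ψ₁ Ψ₂ : RS D.R} {A : Mat D.R} (hd : Dec (rts D) Ψ₁ Ψ₂ A)
    (h : _root_.Cfsg.Agent.HZ.L.Cr.Grp.Sp D (rA D Ψ₁) (rA D Ψ₂)) (h0 : Ψ₂.Nonempty) {w w' : D.W} (hc : Has f χ w c) (hc' : Has f χ w' c') :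
    ∃ h ∈ WW Ψ₁, ∀ v, Perp Ψ₂ v → chr (h *ᵥ v) c' = chr v c := by
  obtain ⟨b, hb⟩ := h0
  have e₁ : Ψ₁ ⊆ rts D := hd.union ▸ Set.subset_union_left
  have e₂ : Ψ₂ ⊆ rts D := hd.union ▸ Set.subset_union_right
  obtain ⟨lam, hl⟩ := h.exists_lam
  have e₃ : Ψ₁ = _root_.Cfsg.Agent.HZ.L.lev (rts D) lam := Set.ext fun a => ⟨fun ha => by
    obtain ⟨b, hb, rfl⟩ := (mem_rA e₁).1 ha
    exact ⟨rt_mem hb.1, (hl b hb.1).2 hb⟩, fun ⟨⟨b, hb, e⟩, ha⟩ => by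
    subst e
    exact ((hl b hb).1 ha).2⟩
  have := D.amb.finite_GF (Cc D (rA D Ψ₁) (rA D Ψ₂))
  have := Fintype.ofFinite ↥(GF F (Cc D (rA D Ψ₁) (rA D Ψ₂)))
  have k1 : ∀ {w c}, Has f χ w c → ∃ (y : Y) (hy : y ∈ D.S (rA D Ψ₂)) (hF : y⁻¹ * F y ∈ D.NN)
      (_ : Fintype ↥(GF F (h.sb hl hy hF).K)), h.Lm hl hy hF f χ c := fun {w c} hc => by
    obtain ⟨u, hu, v, hv, rfl⟩ := h.W_dec w
    obtain ⟨y, hy, h1⟩ := h.exists_y hv
    obtain ⟨u, rfl⟩ := h.sw_surj hl hy ⟨v, h1⟩ hu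
    have := D.amb.finite_GF (h.sb hl hy ⟨v, h1⟩).K
    have i := Fintype.ofFinite ↥(GF F (h.sb hl hy ⟨v, h1⟩).K)
    exact ⟨y, hy, ⟨v, h1⟩, i, h.lm_of_has hl hy ⟨v, h1⟩ f hχ (by rwa [show (h.sb hl hy ⟨v, h1⟩).w = v from h1.pr_eq])⟩
  have k2 : ∀ {y : Y} (hy : y ∈ D.S (rA D Ψ₂)) (hF : y⁻¹ * F y ∈ D.NN) [Fintype ↥(GF F (h.sb hl hy hF).K)] {c c'},
      h.Lm hl hy hF f χ c → h.Lm hl hy hF f χ c' → ∃ A ∈ WW Ψ₁, ∀ v, Perp Ψ₂ v → chr (A *ᵥ v) c' = chr v c := by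
    intro y hy hF _ c c' h1 h2
    obtain ⟨ψ, u, u', c'', a1, a2, a3, a4⟩ := h.lm_lm hl hy hF f hχ h1 h2
    have h3 : rts (h.sb hl hy hF).E = Ψ₁ := Set.ext fun a => (h.sb_rts hl hy hF).trans (mem_rA e₁).symm
    obtain ⟨A, hA, h4⟩ := (hE (h.sb hl hy hF) lam (h.sb_qs hl hy hF hq) (h3.trans e₃) fun e => by
        obtain ⟨a, ha, rfl⟩ := (mem_rA e₂).1 hb
        exact h.disj ⟨ha.1, e₃ ▸ e.ge (rt_mem ha.1)⟩ ha).1 _ ψ a1 u c u' c'' a2 a3
    rw [h3] at hA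
    exact ⟨A, hA, fun v hv => (a4 _ ((perp_iff e₂).1 (perp_WW hd hA v hv))).symm.trans (h4 v)⟩
  obtain ⟨y, hy, hF, _, h1⟩ := k1 hc
  obtain ⟨y', hy', hF', _, h2⟩ := k1 hc'
  obtain ⟨u, d, h3, h4⟩ := h.exists_sum hl hy hF f hχ
  obtain ⟨u', e⟩ := h.sw_surj hl hy' hF' (h.sw_mem hl hy hF u)
  obtain ⟨d', h5, h6⟩ := h.res hl hy hF hy' hF' f e h3
  obtain ⟨A, hA, h7⟩ := k2 hy hF h1 (h.lm_of_sum hl hy hF f hχ h4)
  obtain ⟨A', hA', h8⟩ := k2 hy' hF' (h.lm_of_sum hl hy' hF' f hχ (u := u') (c := d') fun e => h4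
    ((Finset.sum_congr rfl fun n _ => congrArg _ (h6 n.1 n.2).symm).trans e)) h2
  refine ⟨A' * A, mul_mem hA' hA, fun v hv => ?_⟩
  rw [← mulVec_mulVec, h8 _ (perp_WW hd hA v hv), h5 _ ((perp_iff e₂).1 (perp_WW hd hA v hv)), h7 v hv]

open Cr.Grp in
/-- **restriction to a factor** -/
theorem cr1 (h : StW D j B) (hE : OnS D) (hχ : IsIrrCharacter _ χ) : Cr1 B f χ := fun Ψ₁ Ψ₂ hd h0 _ _ _ _ hc hc' => by
  have key : ∀ {Ψ : RS D.R}, Ψ ⊆ rts D → Nm B Ψ → ∀ a ∈ rA D Ψ, D.g a ∈ rA D Ψ := fun e h1 a ha => by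
    obtain ⟨b, hb, -, h2⟩ := h1 _ ha.2
    obtain ⟨b, hb', rfl⟩ := e hb
    rw [← D.eq_g_of_ψ ha.1 hb' (c := (p : ℤ) ^ j) (pow_pos (Nat.cast_pos.2 (Fact.out : p.Prime).pos) _)
      (D.wt_injective (by rw [D.wt_ψ, h.mx, vecMul_smul, h2, map_zsmul]))]
    exact ⟨hb', hb⟩
  exact cr_sp h.qs hE hχ hd ⟨fun a => ⟨fun e => (hd.union.le (rt_mem e)).imp (⟨e, ·⟩) (⟨e, ·⟩), fun e => e.elim And.left And.left⟩,
    fun a ha b hb => hd.orth _ ha.2 _ hb.2, key (hd.union ▸ Set.subset_union_left) hd.nm₁,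
    key (hd.union ▸ Set.subset_union_right) hd.nm₂⟩ h0 hc hc'

/-- the labels have one central character -/
theorem pe1 (hq : D.QS) (hE : OnS D) (hχ : IsIrrCharacter _ χ) (h0 : (rts D).Nonempty) {w w' : D.W} (hc : Has f χ w c)
    (hc' : Has f χ w' c') : PE (rts D) c c' := by
  obtain ⟨A, hA, h1⟩ := cr_sp (Ψ₁ := ∅) (A := 1) hq hE hχ ⟨(Set.empty_union _).symm, fun _ e => e.elim, fun _ e => e.elim,
    fun a ha => ⟨a, ha, one_mulVec _, vecMul_one _⟩⟩ ⟨fun a => ⟨fun e => .inr ⟨e, rt_mem e⟩, fun e => e.elim And.left And.left⟩,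
      fun a ha => ha.2.elim, fun a ha => ha.2.elim, fun a ha => ⟨D.g_root a ha.1, rt_mem (D.g_root a ha.1)⟩⟩ h0 hc hc'
  exact fun v hv => by rw [← h1 v hv, Perp.fix (Ψ := ∅) (fun _ e => e.elim) hA]

end Cfsg.Agent.OM.On

private theorem dce_bec6df2d0082 : _root_.True := by
  try have : _root_.True := by simp only [_root_.Cfsg.Agent.HZ.L.IsE.eq_1]
  try have : _root_.True := by simp only [_root_.Cfsg.Agent.HZ.L.X.Isol.eq_1]
  exact _root_.True.intro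
end

-- part: OM/On/Step
section
set_option linter.all false
open scoped Cfsg.Agent.FastGrp

/-!
# OM/On: the induction (helper66)

`exists_cor1`, `one_step`, `on1_of`, `onS_of`, `onS_two`.
-/

set_option autoImplicit false
set_option linter.unusedSectionVars false
set_option maxHeartbeats 400000

namespace Cfsg.Agent.OM.On

open Cfsg Cfsg.Agent.DL Cfsg.Agent.DL.PP Cfsg.Agent.DL.Uni Cfsg.Agent.DL.Asm Matrix Cfsg.Agent.KZ.Lie Cfsg.Agent.HZ.Gen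
  Cfsg.Agent.ODD.Red Cfsg.Agent.Characters Cfsg.Agent.HZ.L
open Cfsg.Agent.HZ.L.X (Isol PE Cen Zc)

variable {p : ℕ} [Fact p.Prime] {k : Type} [Field k] [CharP k p] [IsAlgClosed k] {Y : Type} [Group Y] {N : Type}
  [Fintype N] [DecidableEq N] {ρ : Y →* GL N k} {F : MulAut Y} {G : Subgroup Y} {D : Datum p ρ F G}
  {j : ℕ} {B : Mat D.R} {w w' : D.W} {c c' : Lbl D} {lam : Vec D.R}

/-- the stabiliser lies in a Levi subgroup which contains the roots of the label -/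
theorem stab_sub (hz : Cz p (rts D)) (hc : Fo p c) {s : Sb D} (h : Zc (rts D) c ⊆ rts s.E) (v : D.W) (hv : Rel D v c c) :
    D.Wm v ∈ WW (rts s.E) := WW_mono h ((X.stab_WW hz hc).1 hv)

variable [Fintype ↥(GF F G)] {f : Fr D} {χ : ↥(GF F G) → ℂ}

/-- a label which is not isolated gives a correspondence -/
theorem exists_cor1 (h : StW D j B) (hz : Cz p (rts D)) (ih : OnS D) (hχ : IsIrrCharacter _ χ) (hR : Rich1 D B χ)
    (hc : Has f χ w c) (hC : ¬ Isol (rts D) c) :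
    ∃ (r : ℕ) (_ : Fact r.Prime) (P : Subgroup ↥(GF F G)) (s : Sb D) (_ : Fintype ↥(GF F s.K)) (lam : Vec D.R) (ε : ℂ)
      (η : ↥(GF F s.K) → ℂ), Hu1 D r ∧ RatR r χ ∧ s.For r P ∧ rts s.E = lev (rts D) lam ∧ lev (rts D) lam ≠ rts D ∧
        Zc (rts D) c ⊆ rts s.E ∧ IsIrrCharacter _ η ∧ Cor1 s r P χ ε η ∧
        ∀ u' c', Has (s.fr f) η u' c' → Cj (rts s.E) c c' := by
  obtain ⟨μ, y, lam, h4, h5, h6, h7, h8⟩ := h.exists_core hc.fx hC
  obtain ⟨r, hu, hP, hr⟩ := hR w μ h5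
  have := Fact.mk hu.prime
  obtain ⟨P, s, u, hs, h9, rfl⟩ := exists_sb1 h.qs hu hP h4 h6
  have := D.amb.finite_GF s.K
  have := Fintype.ofFinite ↥(GF F s.K)
  obtain ⟨h1, h2⟩ := ih s lam hs.qs h9 h8
  obtain ⟨ε, η, hη, h10, h11⟩ := iso1 h.qs h1 h2 f hu hs hχ hr hc (stab_sub hz hc.fo (h9 ▸ h7))
  exact ⟨r, inferInstance, P, s, inferInstance, lam, ε, η, hu, hr, hs, h9, h8, h9 ▸ h7, hη, h10, h11⟩

/-- tori -/
theorem on1_empty (h : rts D = ∅) : On1 D := fun f χ hχ w c w' c' hw hw' => by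
  have h0 : ∀ u : D.W, u = 1 := fun u => D.Wm_injective (by
    have h1 := Wm_mem u
    rw [h, WW, Set.image_empty, Submonoid.closure_empty, Submonoid.mem_bot] at h1
    rw [h1, D.Wm_one])
  have := Fintype.ofFinite D.W
  have : Unique D.W := ⟨⟨1⟩, h0⟩
  have h1 : ∀ {w c}, Has f χ w c → 1 ≤ LV.Lab.nr f χ c := fun {w c} hw => by
    obtain ⟨a, ha⟩ := LV.Lab.yv_int f (gen_of_irr hχ) c w
    have h2 : a ≠ 0 := fun e => hw (ha.trans (by rw [e, Int.cast_zero]))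
    rw [LV.Lab.nr_eq, Fintype.sum_subsingleton _ w, ha, Nat.card_unique, Nat.cast_one, inv_one, one_mul,
      Complex.norm_intCast, sq_abs]
    exact_mod_cast (one_le_sq_iff_one_le_abs a).2 (Int.one_le_abs h2)
  by_contra h2
  linarith [LV.Lab.nr_add_le f hχ (mt cj_iff.2 h2), h1 hw, h1 hw']

/-- **the step** -/
theorem one_step (h : StW D j B) (hz : Cz p (rts D)) (ih : OnS D)
    (ih' : ∀ (f : Fr D) (l i : ℕ) (hl : 0 < l), l = f.d * i + 1 → OnS (D.pow hl)) (hb : B0 D B) : On1 D := by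
  rcases (rts D).eq_empty_or_nonempty with h0 | h0
  · exact on1_empty h0
  intro f χ hχ
  obtain ⟨l, i, hl, _, f', χ', hi, hχ', hR, e⟩ := exists_rich1 h f hχ
  have h' := h.pow f hl hi
  by_cases hC : ∃ w c, Has f χ w c ∧ ¬ Isol (rts D) c
  · obtain ⟨w, c, hc, hC⟩ := hC
    obtain ⟨r, _, P, s, _, lam, ε, η, hu, hr, hs, -, -, -, hη, h1, h2⟩ :=
      exists_cor1 (D := D.pow hl) h' hz (ih' f l i hl hi) hχ' hR ((e w c).2 hc) hC
    have h3 : ∀ w' c', Has f χ w' c' → Cj (rts D) c c' := fun w' c' hc' => by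
      obtain ⟨v, u, c'', -, h4, h5⟩ := has1 f' hu hs hχ' hr hη h1 ((e w' c').2 hc')
      exact (cj_sub (h2 u c'' h5)).trans (cj_symm (cj_rel h4))
    exact fun w₁ c₁ w₂ c₂ h4 h5 => (cj_symm (h3 _ _ h4)).trans (h3 _ _ h5)
  · exact fun w c w' c' h1 h2 => hb f χ hχ (fun w c w' c' μ h1 h2 => link1 (D := D.pow hl) h'.qs (ih' f l i hl hi) hχ' hR
      w c w' c' μ ((e _ _).2 h1) ((e _ _).2 h2)) (cr1 h ih hχ) (fun w c h1 => not_not.1 fun h2 => hC ⟨w, c, h1, h2⟩)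
      w c w' c' h1 h2 (pe1 h.qs ih hχ h0 h1 h2)

omit [Fintype ↥(GF F G)] in
theorem cz_sub (hz : Cz p (rts D)) {s : Sb D} (e : rts s.E = lev (rts D) lam) : Cz p (rts s.E) := e ▸ X.Adm.cz lam hz

variable (p) in
/-- the boxes -/
structure Bx : Prop where
  cl : AllD p fun D => BoxCl D
  e : AllD p fun D => BoxE D
  ty : AllD p fun D => Ty (rts D) → ∀ lam, Ty (lev (rts D) lam)

omit [Fintype ↥(GF F G)] in
theorem onS_lt (H : Bx p) {n : ℕ} (ih : AllD p fun D => ∀ j B, St D j B → Cz p (rts D) → Ty (rts D) → nr D < n → On1 D)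
    (h : St D j B) (hz : Cz p (rts D)) (ht : Pre (rts D)) (hn : nr D ≤ n) : OnS D := fun s lam _ hq e e' =>
  have h1 := (s.nr_lt (e ▸ e')).trans_le hn
  have h2 : Ty (rts s.E) := e ▸ ht lam e'
  ⟨ih s.E j _ (h.sub hq) (cz_sub hz e) h2 h1, fun s' mu _ hq' e₁ => ih s'.E j _ ((h.sub hq).sub hq') (cz_sub (cz_sub hz e) e₁)
    (e₁ ▸ H.ty s.E h2 mu) (s'.nr_le.trans_lt h1)⟩

theorem on1_lt (H : Bx p) (n : ℕ) :
    AllD p fun D => ∀ j B, St D j B → Cz p (rts D) → Ty (rts D) → nr D < n → On1 D := by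
  induction n with
  | zero => exact fun D _ _ _ _ _ _ h => absurd h (Nat.not_lt_zero _)
  | succ n ih =>
    intro k _ _ _ Y _ N _ _ ρ F G D _ j B h hz ht hn
    have h1 : Pre (rts D) := fun lam _ => H.ty D ht lam
    exact one_step (stW h) hz (onS_lt H ih h hz h1 (Nat.lt_succ_iff.1 hn))
      (fun f l i hl e => onS_lt H ih (Up.st_pow h f hl e) hz h1 (Nat.lt_succ_iff.1 hn))
      ((ht.elim .inl (H.e D j B h hz)).elim (H.cl D j B h hz) id)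

/-- **the labels are conjugate** -/
theorem on1_of (H : Bx p) (h : St D j B) (hz : Cz p (rts D)) (ht : Ty (rts D)) : On1 D :=
  on1_lt H _ D j B h hz ht (Nat.lt_succ_self _)

omit [Fintype ↥(GF F G)] in
/-- **the proper Levi subgroups** -/
theorem onS_of (H : Bx p) (h : St D j B) (hz : Cz p (rts D)) (ht : Pre (rts D)) : OnS D :=
  onS_lt H (on1_lt H _) h hz ht le_rfl

/-! ### components `A₁` and `B₂` in characteristic two -/

theorem NoA.mono {R : Type} [Fintype R] {Ψ Ψ' : RS R} (h : NoA Ψ) (e : Ψ' ⊆ Ψ) : NoA Ψ' := fun a ha b hb => h a (e ha) b (e hb)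

omit [Fintype ↥(GF F G)] in
theorem onS_lt2 {n : ℕ} (ih : AllD p fun D => D.QS → Cz p (rts D) → NoA (rts D) → nr D < n → On1 D) (hz : Cz p (rts D))
    (ht : ∀ (s : Sb D) lam, s.E.QS → rts s.E = lev (rts D) lam → lev (rts D) lam ≠ rts D → NoA (rts s.E)) (hn : nr D ≤ n) :
    OnS D := fun s lam _ hq e e' =>
  have h1 := (s.nr_lt (e ▸ e')).trans_le hn
  have h2 := ht s lam hq e e'
  ⟨ih s.E hq (cz_sub hz e) h2 h1, fun s' _ _ hq' e₁ => ih s'.E hq' (cz_sub (cz_sub hz e) e₁)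
    (h2.mono s'.rts_sub) (s'.nr_le.trans_lt h1)⟩

theorem on1_lt2 (hp : p = 2) (H : AllD p fun D => BoxTr D) (n : ℕ) :
    AllD p fun D => D.QS → Cz p (rts D) → NoA (rts D) → nr D < n → On1 D := by
  induction n with
  | zero => exact fun D _ _ _ _ h => absurd h (Nat.not_lt_zero _)
  | succ n ih =>
    intro k _ _ _ Y _ N _ _ ρ F G D _ h hz ht hn
    exact one_step (stW_zero D h) hz (onS_lt2 ih hz (fun s _ _ _ _ => ht.mono s.rts_sub) (Nat.lt_succ_iff.1 hn))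
      (fun f l i hl e => onS_lt2 (D := D.pow hl) ih hz (fun s _ _ _ _ => ht.mono s.rts_sub) (Nat.lt_succ_iff.1 hn))
      fun f χ _ _ _ h1 w c w' c' h2 h3 => H D hp ht c c' h2.fo h3.fo (h1 w c h2) (h1 w' c' h3)

omit [Fintype ↥(GF F G)] in
/-- **the proper Levi subgroups of the Ree groups of type `F₄`** -/
theorem onS_two (hp : p = 2) (H : AllD p fun D => BoxTr D) (hz : Cz p (rts D))
    (ht : ∀ (s : Sb D) lam, s.E.QS → rts s.E = lev (rts D) lam → lev (rts D) lam ≠ rts D → NoA (rts s.E)) : OnS D :=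
  onS_lt2 (on1_lt2 hp H _) hz ht le_rfl

end Cfsg.Agent.OM.On

private theorem dce_ae72390604ae : _root_.True := by
  try have : _root_.True := by simp only [_root_.Cfsg.Agent.HZ.L.WW.eq_1]
  exact _root_.True.intro
end

-- part: OM/On/ERed
section
prune_inst 0x4001440100000000018008263007c02920004b200488800c00202040784086009412820400010100a2a80450031000000000000400000000a000000011900808020420013000104040081801002000000000000000000000000000000000004000000000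
set_option linter.all false
open scoped Cfsg.Agent.FastGrp

-- part: OM/On/Cl
section
/-!
# OM/On: the classical types (helper66)

`boxCl_of : BoxPure → BoxCl D`.
-/

set_option autoImplicit false
set_option linter.unusedSectionVars false
set_option maxHeartbeats 400000

namespace Cfsg.Agent.OM.On

open Cfsg Cfsg.Agent.DL Cfsg.Agent.DL.PP Matrix Cfsg.Agent.KZ.Lie Cfsg.Agent.HZ.L Cfsg.Agent.HZ.L.X
open Cfsg.Agent.LV.Cl (SG sm sgn sw tt co_single)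
open Cfsg.Agent.LV.Lab (yv)

namespace ClA

section Comb

open Norm Set

variable {R : Type} [Fintype R] [DecidableEq R]

/-- one classical component -/
def Rk1 (κ : Kd) (n : ℕ) : Prop := κ = .D ∧ 4 ≤ n ∨ κ = .B ∧ 2 ≤ n ∨ κ = .C ∧ 2 ≤ n

theorem Rk1.two {κ : Kd} {n : ℕ} (h : Rk1 κ n) : 2 ≤ n := by rcases h with h | h | h <;> omega

theorem pr_std1 {κ : Kd} {n : ℕ} (h : Rk1 κ n) {a : Vec (Fin n) × Vec (Fin n)} (ha : a ∈ std κ (b0 n)) :
    Norm.Pr (std κ (b0 n)) a := by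
  have ma : ∀ i j : Fin n, i ≠ j → ea i j ∈ std κ (b0 n) := fun i j h => mem_std.2 (.inl ⟨i, j, h, rfl, rfl⟩)
  have md : ∀ i j : Fin n, i ≠ j → ed i j 1 ∈ std κ (b0 n) := fun i j h => mem_std.2 (.inr (.inl ⟨i, j, 1, h, rfl, rfl, rfl⟩))
  have h2 : ∀ i : Fin n, ∃ j, j ≠ i := fun i => by
    have : Nontrivial (Fin n) := Fin.nontrivial_iff_two_le.2 h.two
    exact exists_ne i
  rcases h with ⟨rfl, h4⟩ | ⟨rfl, -⟩ | ⟨rfl, -⟩
  · have k : ∀ i j : Fin n, i ≠ j → (∀ k, k ≠ i → k ≠ j → a.1 k = 0) → a.1 i ≠ 0 → a.1 j ≠ 0 →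
        Norm.Pr (std .D (b0 n)) a := by
      intro i j h h0 hi hj
      obtain ⟨k, k1, k2, -⟩ := exists_ne3 h4 i j j
      obtain ⟨l, l1, l2, l3⟩ := exists_ne3 h4 i j k
      refine .inr ⟨_, ma i k k1.symm, _, md i k k1.symm, _, ma j l l2.symm, ?_, ?_, ?_, ?_, ?_, ?_⟩ <;>
        simp only [ea, ed, h0 k k1 k2, h0 l l1 l2, *, h.symm, k1.symm, k2.symm, l3.symm, _root_.Units.val_one, _root_.dotProduct_add, _root_.dotProduct_single, _root_.Pi.sub_apply, _root_.Pi.single_eq_same, _root_.ne_eq, _root_.not_false_eq_true, _root_.Pi.single_eq_of_ne, _root_.sub_zero, _root_.mul_one, _root_.zero_sub, _root_.Int.reduceNeg, _root_.add_neg_cancel, k1, _root_.dotProduct_sub, _root_.sub_self, l1, l3, _root_.Pi.add_apply, _root_.add_zero, hi, hj]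
    rcases mem_std.1 ha with ⟨i, j, h1, -, rfl⟩ | ⟨i, j, s, h1, -, -, rfl⟩ | ⟨i, s, -, ⟨h2, -⟩ | ⟨h2, -⟩⟩
    · exact k i j h1 (fun k k1 k2 => by simp [ea, k1, k2]) (by simp [ea, h1]) (by simp [ea, h1.symm])
    · exact k i j h1 (fun k k1 k2 => by simp [ed, k1, k2]) (by simp [ed, h1]) (by simp [ed, h1.symm])
    · cases h2
    · cases h2
  · have mb : ∀ i : Fin n, eb i 1 ∈ std .B (b0 n) := fun i => mem_std.2 (.inr (.inr ⟨i, 1, rfl, .inl ⟨rfl, rfl⟩⟩))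
    rcases mem_std.1 ha with ⟨i, j, h1, -, rfl⟩ | ⟨i, j, s, h1, -, -, rfl⟩ | ⟨i, s, -, ⟨-, rfl⟩ | ⟨h2, -⟩⟩
    · exact .inl ⟨_, mb i, by simp only [ea, eb, h1, _root_.Units.val_one, _root_.mul_one, _root_.dotProduct_single, _root_.Pi.sub_apply, _root_.Pi.single_eq_same, _root_.ne_eq, _root_.not_false_eq_true, _root_.Pi.single_eq_of_ne, _root_.sub_zero, _root_.one_mul, _root_.dotProduct_sub, _root_.Pi.single_eq_of_ne', _root_.OfNat.ofNat_ne_one]⟩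
    · exact .inl ⟨_, mb i, by rcases Int.units_eq_one_or s with rfl | rfl <;> simp only [ed, eb, h1, _root_.Units.val_one, _root_.mul_one, _root_.dotProduct_single, _root_.Pi.add_apply, _root_.Pi.single_eq_same, _root_.ne_eq, _root_.not_false_eq_true, _root_.Pi.single_eq_of_ne, _root_.add_zero, _root_.one_mul, _root_.dotProduct_add, _root_.Pi.single_eq_of_ne', _root_.OfNat.ofNat_ne_one, _root_.Units.val_neg, _root_.Int.reduceNeg, _root_.neg_mul, _root_.mul_neg, _root_.neg_zero, _root_.neg_inj]⟩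
    · obtain ⟨j, hj⟩ := h2 i
      exact .inl ⟨_, ma i j hj.symm, by rcases Int.units_eq_one_or s with rfl | rfl <;> simp only [ea, eb, hj.symm, _root_.Units.val_one, _root_.mul_one, _root_.dotProduct_sub, _root_.dotProduct_single, _root_.Pi.single_eq_same, _root_.ne_eq, _root_.not_false_eq_true, _root_.Pi.single_eq_of_ne', _root_.sub_zero, _root_.Pi.sub_apply, _root_.Pi.single_eq_of_ne, _root_.one_mul, _root_.OfNat.one_ne_ofNat, _root_.Units.val_neg, _root_.Int.reduceNeg, _root_.mul_neg, _root_.neg_inj]⟩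
    · cases h2
  · have mc : ∀ i : Fin n, ec i 1 ∈ std .C (b0 n) := fun i => mem_std.2 (.inr (.inr ⟨i, 1, rfl, .inr ⟨rfl, rfl⟩⟩))
    rcases mem_std.1 ha with ⟨i, j, h1, -, rfl⟩ | ⟨i, j, s, h1, -, -, rfl⟩ | ⟨i, s, -, ⟨h2, -⟩ | ⟨-, rfl⟩⟩
    · exact .inl ⟨_, mc i, by simp only [ea, ec, h1, _root_.Units.val_one, _root_.mul_one, _root_.dotProduct_single, _root_.Pi.sub_apply, _root_.Pi.single_eq_same, _root_.ne_eq, _root_.not_false_eq_true, _root_.Pi.single_eq_of_ne, _root_.sub_zero, _root_.dotProduct_sub, _root_.Pi.single_eq_of_ne', _root_.OfNat.one_ne_ofNat]⟩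
    · exact .inl ⟨_, mc i, by rcases Int.units_eq_one_or s with rfl | rfl <;> simp only [ed, ec, h1, _root_.Units.val_one, _root_.mul_one, _root_.dotProduct_single, _root_.Pi.add_apply, _root_.Pi.single_eq_same, _root_.ne_eq, _root_.not_false_eq_true, _root_.Pi.single_eq_of_ne, _root_.add_zero, _root_.dotProduct_add, _root_.Pi.single_eq_of_ne', _root_.OfNat.one_ne_ofNat, _root_.Units.val_neg, _root_.Int.reduceNeg, _root_.mul_neg, _root_.neg_zero, _root_.neg_inj]⟩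
    · cases h2
    · obtain ⟨j, hj⟩ := h2 i
      exact .inl ⟨_, ma i j hj.symm, by rcases Int.units_eq_one_or s with rfl | rfl <;> simp only [ea, ec, hj.symm, _root_.Units.val_one, _root_.mul_one, _root_.dotProduct_sub, _root_.dotProduct_single, _root_.Pi.single_eq_same, _root_.ne_eq, _root_.not_false_eq_true, _root_.Pi.single_eq_of_ne', _root_.sub_zero, _root_.Pi.sub_apply, _root_.Pi.single_eq_of_ne, _root_.OfNat.ofNat_ne_one, _root_.Units.val_neg, _root_.Int.reduceNeg, _root_.mul_neg, _root_.neg_inj]⟩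

theorem dec_of1 {Ψ₁ Ψ₂ : RS R} {B : Mat R} {n : ℕ} (hn : 0 < n) (hB : B ^ n = 1) (h : Nm B (Ψ₁ ∪ Ψ₂)) (o : Ort Ψ₁ Ψ₂)
    (h1 : TyA Ψ₁) (h2 : ∀ a ∈ Ψ₂, Norm.Pr Ψ₂ a) : Dec (Ψ₁ ∪ Ψ₂) Ψ₁ Ψ₂ B := by
  choose! θ t1 t2 t3 using h
  have ct : Ca θ (Ψ₁ ∪ Ψ₂) := fun a ha b hb => by rw [← t2 b hb, dotProduct_mulVec, t3 a ha]
  have n2 : Nm B Ψ₂ := fun a ha => ⟨θ a, (t1 a (.inr ha)).resolve_left fun h => not_pr h1 h
    ((((h2 a ha).mono subset_union_right ha).map t1 ct (.inr ha)).left o h), t2 a (.inr ha), t3 a (.inr ha)⟩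
  refine ⟨rfl, o, fun a ha => ⟨θ a, (t1 a (.inl ha)).resolve_right fun h => ?_, t2 a (.inl ha), t3 a (.inl ha)⟩, n2⟩
  obtain ⟨k, rfl⟩ := Nat.exists_eq_succ_of_ne_zero hn.ne'
  obtain ⟨c, hc, h3, h4⟩ := Norm.nm_pow n2 k _ h
  have e : c = a := Prod.ext (by rw [← t3 a (.inl ha), ← h4, vecMul_vecMul, ← pow_succ, hB, vecMul_one])
    (by rw [← h3, ← t2 a (.inl ha), mulVec_mulVec, ← pow_succ, hB, one_mulVec])
  subst e
  exact not_pr h1 ha (((h2 _ hc).mono subset_union_right hc).left o ha)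

theorem one_block1 (κ : Kd) (m : ℕ) : TyA (std κ (b0 m)) ∨ Rk1 κ m := by
  by_cases hr : Rk1 κ m
  · exact .inr hr
  have hm : m ≤ 3 ∧ (κ ≠ .D → m ≤ 1) := by
    simp only [Rk1, not_or, not_and, not_le] at hr
    cases κ <;> simp_all only [_root_.reduceCtorEq, _root_.IsEmpty.forall_iff, _root_.Order.lt_two_iff, _root_.forall_const, _root_.and_true, _root_.true_and, _root_.ne_eq, _root_.not_false_eq_true, _root_.imp_self, _root_.and_self, _root_.not_true_eq_false] <;> omega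
  refine (one_block (.inl hm.1)).imp_right ?_
  rintro ⟨κ', n, h1, h2⟩
  have h3 : 2 ≤ n := by rcases h1 with h | h | h <;> omega
  obtain ⟨i, j, hij⟩ := (Fin.nontrivial_iff_two_le.2 h3).exists_pair_ne
  obtain ⟨a, ha⟩ := iso_nonempty h2 ⟨_, mem_std.2 (.inl ⟨i, j, hij, rfl, rfl⟩)⟩
  refine (not_pr (Ψ := std κ (b0 m)) ?_ ha (pr_big ⟨κ', n, h1, h2⟩ ha)).elim
  obtain ⟨h4, h5⟩ := hm
  interval_cases m
  · exact tyA_empty (eq_empty_of_forall_notMem fun a ha => by simp only [mem_std, _root_.ne_eq, _root_.true_and, _root_.IsEmpty.exists_iff, _root_.exists_and_left, _root_.or_self] at ha)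
  · cases κ
    · exact ⟨_, _, by decide, iso_B1⟩
    · exact ⟨_, _, by decide, iso_C1⟩
    · exact tyA_empty (eq_empty_of_forall_notMem fun a ha => by simp [mem_std, Subsingleton.elim _ (0 : Fin 1)] at ha)
  · obtain rfl : κ = .D := by_contra fun e => absurd (h5 e) (by decide)
    exact ⟨_, _, by decide, iso_D2⟩
  · obtain rfl : κ = .D := by_contra fun e => absurd (h5 e) (by decide)
    exact ⟨_, _, by decide, iso_D3⟩

/-- **normal form** -/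
theorem norm1 {Ψ : RS R} {B : Mat R} {n : ℕ} (hn : 0 < n) (hB : B ^ n = 1) (hN : Nm B Ψ) (h : Cl Ψ) :
    (∃ Ψ₁ Ψ₂, Dec Ψ Ψ₁ Ψ₂ B ∧ Ψ₁.Nonempty ∧ Ψ₂.Nonempty) ∨ TyA Ψ ∨ ∃ κ n, Rk1 κ n ∧ Iso Ψ (std κ (b0 n)) := by
  obtain ⟨m, κ, blk, h⟩ := h
  obtain ⟨Φ₁, Φ₂, e, o, t, h2⟩ := split_std κ blk
  obtain ⟨Ψ₁, Ψ₂, rfl, o', i1, i2⟩ := iso_split (e ▸ h) o
  have t1 := tyA_iso i1 t
  rcases one_block1 κ (Nat.card {i // blk i = 0}) with h3 | h3
  · exact .inr (.inl (tyA_union t1 (tyA_iso (i2.trans h2) h3) o'))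
  · rcases Ψ₁.eq_empty_or_nonempty with rfl | h4
    · exact .inr (.inr ⟨κ, _, h3, by rw [Set.empty_union]; exact i2.trans h2⟩)
    · obtain ⟨i, j, hij⟩ := (Fin.nontrivial_iff_two_le.2 h3.two).exists_pair_ne
      refine .inl ⟨Ψ₁, Ψ₂, dec_of1 hn hB hN o' t1 fun a ha => ?_, h4,
        iso_nonempty (i2.trans h2) ⟨_, mem_std.2 (.inl ⟨i, j, hij, rfl, rfl⟩)⟩⟩
      obtain ⟨f, hf, cf⟩ := exists_bijOn (i2.trans h2).symm
      obtain ⟨b, hb, rfl⟩ := hf.2.2 ha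
      exact (pr_std1 h3 hb).map hf.1 cf hb

theorem rf_form {n : ℕ} {κ : Kd} {x : Fin n → Bool} {a : Vec (Fin n) × Vec (Fin n)} (ha : a ∈ std κ (b0 n))
    (h : chr a.2 (sx x) = 1) : ∃ g, ((∃ i l e, i ≠ l ∧ x i = x l ∧ g = sw i l e) ∨ ∃ i, g = tt i) ∧
      Ws κ (b0 n) g ∧ rfm a = sm g := by
  rcases ha with ⟨i, j, h1, -, rfl⟩ | ⟨i, j, s, h1, -, -, rfl⟩ | ⟨i, s, -, ⟨rfl, rfl⟩ | ⟨rfl, rfl⟩⟩
  · exact ⟨_, .inl ⟨i, j, 1, h1, Hyp.chr_m.1 h, rfl⟩, Hyp.ws_sw h1 1, rfm_sub h1⟩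
  · exact ⟨_, .inl ⟨i, j, -1, h1, (Hyp.chr_p s).1 h, rfl⟩, Hyp.ws_sw h1 _, rfm_add h1 s⟩
  · exact ⟨_, .inr ⟨i, rfl⟩, Hyp.ws_tt (by simp) i, rfm_single i (by rw [mul_left_comm, Int.units_coe_mul_self, mul_one])⟩
  · exact ⟨_, .inr ⟨i, rfl⟩, Hyp.ws_tt (by simp) i, rfm_single i (by rw [mul_assoc, Int.units_coe_mul_self, mul_one])⟩

theorem eq_D {κ : Kd} {T : Matrix (Fin 4) (Fin 4) ℤ} (h : FrB.Hf κ T) (h1 : ∀ i l, T i l * T i l = 1) : κ = .D := by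
  have h2 : ∀ i, T i 0 = 1 ∨ T i 0 = -1 := fun i => mul_self_eq_one_iff.1 (h1 i 0)
  cases κ
  · obtain ⟨r, hr, h3, -⟩ := h _ (.inr (.inr ⟨0, 1, rfl, .inl ⟨rfl, rfl⟩⟩))
    have h4 : ∀ i, r.2 i ≠ 0 := fun i e => by
      have h4 := congrFun h3 i
      have := h2 i
      simp [e] at h4
      omega
    exfalso
    rcases mem_std.1 hr with ⟨i, j, -, -, rfl⟩ | ⟨i, j, s, -, -, -, rfl⟩ | ⟨i, s, -, ⟨-, rfl⟩ | ⟨-, rfl⟩⟩
    · obtain ⟨l, l1, l2, -⟩ := exists_ne3 le_rfl i j j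
      exact h4 l (by simp [ea, l1, l2])
    · obtain ⟨l, l1, l2, -⟩ := exists_ne3 le_rfl i j j
      exact h4 l (by simp [ed, l1, l2])
    · obtain ⟨l, l1, -⟩ := exists_ne3 le_rfl i i i
      exact h4 l (by simp [eb, l1])
    · obtain ⟨l, l1, -⟩ := exists_ne3 le_rfl i i i
      exact h4 l (by simp [ec, l1])
  · obtain ⟨r, -, h3, -⟩ := h _ (.inr (.inr ⟨0, 1, rfl, .inr ⟨rfl, rfl⟩⟩))
    have h4 := congrFun h3 0
    have := h2 0
    simp at h4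
    omega
  · rfl

end Comb

variable {p : ℕ} [Fact p.Prime] {k : Type} [Field k] [CharP k p] [IsAlgClosed k] {Y : Type} [Group Y] {N : Type}
  [Fintype N] [DecidableEq N] {ρ : Y →* GL N k} {F : MulAut Y} {G : Subgroup Y} {D : Datum p ρ F G}
  {j : ℕ} {B : Mat D.R} {w w' : D.W} {c c' : Lbl D} {κ : Kd} {n : ℕ} {Φ : Fw D κ (b0 n) 2} {τ : SG n} {x x' : Fin n → Bool}

theorem frB1 (h : St D j B) (hr : Rk1 κ n) (Φ : Fw D κ (b0 n) 2) :
    (∃ (Φ : Fw D κ (b0 n) 2) (τ : SG n), _root_.Cfsg.Agent.HZ.L.X.Tw Φ B τ) ∨ ∃ Φ : Fw D .D (b0 4) 2, Cyc Φ B := by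
  obtain ⟨E, T, hE, hT⟩ := FrB.exists_T Φ hr.two h
  rcases (FrB.hf Φ h hE hT).dich hr.two with ⟨τ, rfl⟩ | ⟨rfl, h1⟩
  · rw [Matrix.smul_mul] at hT
    exact .inl ⟨Φ, τ, FrB.tw Φ h hE (smul_right_injective _ two_ne_zero hT).symm⟩
  · obtain rfl := eq_D (FrB.hf Φ h hE hT) h1
    rcases FrB.chk h1 (FrB.orth' (by decide) ((FrB.hf Φ h hE hT).orth hr.two)) with h3 | h3 | h3
    exacts [.inl (FrB.move (boxFw D) Φ h hE hT FrB.tr1 h3), .inl (FrB.move (boxFw D) Φ h hE hT FrB.tr2 h3),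
      .inr ⟨Φ, FrB.cyc Φ hT h3⟩]

theorem pat1 (hn : 2 ≤ n) (Φ : Fw D κ (b0 n) 2) (hc : Isol (rts D) c) : ∃ x, Pat Φ c x ∧ Ok κ x := by
  obtain ⟨y, hy⟩ := PatB.exists_y Φ c
  obtain ⟨x, rfl, hx⟩ := PatB.colour (κ := κ) (y := y) fun z hz => by
    obtain ⟨lam, hl⟩ := PatB.exists_lam Φ hn z
    have h1 := (Φ.perp lam).1 (hc lam fun a ha => by
      have h2 := hz _ (Φ.φ ⟨a, ha.1⟩).2 ((hy ⟨a, ha.1⟩).symm.trans ha.2)
      have h3 := congrArg (· ⬝ᵥ lam) (Φ.h1 ⟨a, ha.1⟩)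
      simp only [← dotProduct_mulVec, hl, dotProduct_smul, h2, smul_dotProduct, smul_eq_mul] at h3
      omega)
    rw [hl] at h1
    exact (smul_eq_zero.1 h1).resolve_left (by norm_num)
  exact ⟨x, hy, hx⟩

open Lab in
theorem two1 (hp : p ≠ 2) (hz : Cz p (rts D)) (hn : 2 ≤ n) (hx : Pat Φ c x) (hx' : Pat Φ c' x') (he : PE (rts D) c c')
    (hc : ¬ Cj (rts D) c c') (hS : St D j B) (hT : _root_.Cfsg.Agent.HZ.L.X.Tw Φ B τ) (h : Fx D w c) (h' : Fx D w' c') (i : Fin n) :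
    x ((Φ.emb w * τ).π i) = x i := by
  have hA := exists_ag hn hx hx' he
  by_contra e
  obtain ⟨y, hy, hA⟩ : ∃ y, Pat Φ c' y ∧ AG Φ c c' x y := hA.elim (fun h => ⟨_, hx', h⟩) fun h => ⟨_, pat_not h.1 hx', h.2⟩
  have h1 : ∀ l, x ((Φ.emb w * τ).π l) ≠ x l := fun l hl => e (fx_const hp hS hT hx h hl)
  have h2 := two_nt h1
  have h3 := two_nt fun l hl => h1 l (fx_two hn hp hz hS hT hx hy hA h h' hl)
  obtain ⟨⟨a, ha⟩, b, hb⟩ : (∃ a, x a = true) ∧ ∃ b, x b = false := by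
    cases h4 : x i
    · exact ⟨⟨_, Bool.ne_false_iff.1 (h4 ▸ e)⟩, i, h4⟩
    · exact ⟨⟨i, h4⟩, _, Bool.eq_false_iff.2 (h4 ▸ e)⟩
  exact hc (cj_of hx hy hA (by omega) hb fun _ => ⟨a, ha⟩)

theorem odd_eq {a b : ℂˣ} {m m' t : ℕ} (hm : ¬ 2 ∣ m) (hm' : ¬ 2 ∣ m') (ha : a ^ m = 1) (hb : b ^ m' = 1)
    (h : a ^ 2 ^ t = b ^ 2 ^ t) : a = b := by
  refine mul_inv_eq_one.1 (orderOf_eq_one_iff.1 (Nat.eq_one_of_dvd_coprimes (k := orderOf (a * b⁻¹))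
    (Nat.Coprime.pow_left t ((Nat.Prime.coprime_iff_not_dvd Nat.prime_two).2 (Nat.prime_two.not_dvd_mul hm hm')))
    (orderOf_dvd_of_pow_eq_one ?_) (orderOf_dvd_of_pow_eq_one ?_)))
  · rw [mul_pow, inv_pow, h, mul_inv_cancel]
  · rw [mul_pow, inv_pow, pow_mul, ha, mul_comm m, pow_mul, hb, one_pow, one_pow, inv_one, mul_one]

/-- characteristic two -/
theorem eq_two (hp : p = 2) (hn : 2 ≤ n) (hx : Pat Φ c x) (hx' : Pat Φ c' x') (h1 : Fo p c) (h2 : Fo p c')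
    (he : PE (rts D) c c') : c = c' := by
  subst hp
  have k1 : ∀ {c : Lbl D} {x}, Pat Φ c x → Fo 2 c → _root_.Cfsg.Agent.HZ.L.X.Cen (rts D) c := fun {c x} hx ⟨m, hm, e⟩ a ha =>
    odd_eq (t := 1) (m' := 1) hm (by decide) (by rw [← map_pow, e, map_one]) (one_pow _) (by
      rw [hx ⟨a, ha⟩, pow_one, sq, Lab.chr_sq, one_pow])
  obtain ⟨m, hm, e⟩ := id h1
  obtain ⟨m', hm', e'⟩ := id h2
  refine eq_of_chr D fun v => odd_eq (t := 2) hm hm' (by rw [← map_pow, e, map_one]) (by rw [← map_pow, e', map_one]) ?_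
  obtain ⟨y, hy, h3, -⟩ := Φ.lift (Hyp.two_mem hn (Φ.P *ᵥ v))
  have h4 := he ((4 : ℤ) • v - y) ((Φ.perp _).2 (by rw [mulVec_sub, mulVec_smul, h3, smul_smul]; exact sub_self _))
  rw [chr_sub, chr_sub, (k1 hx h1).chr hy, (k1 hx' h2).chr hy, chr_zsmul, chr_zsmul, mul_left_inj] at h4
  exact_mod_cast h4.symm

theorem eig_I (hn : 2 ≤ n) (h : St D j B) (hτ : _root_.Cfsg.Agent.HZ.L.X.Tw Φ B τ) (he : ¬ Eig (rts D) (D.Wm w * B) Complex.I) (i : Fin n)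
    (h2 : (Φ.emb w * τ).π ((Φ.emb w * τ).π i) = i) : (Φ.emb w * τ).s i = (Φ.emb w * τ).s ((Φ.emb w * τ).π i) := by
  by_contra h1
  obtain ⟨y, hy, h3, -⟩ := Φ.lift (Hyp.two_mem hn (Pi.single i 1))
  have h4 : (D.Wm w * B) *ᵥ ((D.Wm w * B) *ᵥ y) = -y :=
    Φ.P_ext (Submodule.sub_mem _ (Qv.nm (h.nm w) (Qv.nm (h.nm w) hy)) (neg_mem hy)) (by
      rw [hτ.act, hτ.act, mulVec_neg, h3, mulVec_smul, mulVec_smul, mulVec_smul, mulVec_smul, sm_single, sm_single, h2,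
        ← smul_neg, ← smul_neg, ← Pi.single_neg]
      congr 3
      generalize (Φ.emb w * τ).s i = a at h1
      generalize (Φ.emb w * τ).s ((Φ.emb w * τ).π i) = b at h1
      rcases Int.units_eq_one_or a with rfl | rfl <;> rcases Int.units_eq_one_or b with rfl | rfl <;> simp at h1 ⊢)
  have h5 : ¬ Perp (rts D) y := fun e => by
    have h5 := congrFun (((Φ.perp y).1 e).symm.trans h3) i
    simp at h5
  obtain ⟨a, ha, h6⟩ : ∃ a ∈ rts D, a.1 ⬝ᵥ y ≠ 0 := by simpa only [Perp, not_forall, exists_prop] using h5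
  have h7 : ∀ (A : Mat D.R) (v : Vec D.R), A.map (Int.cast : ℤ → ℂ) *ᵥ (fun i => (v i : ℂ)) = fun i => ((A *ᵥ v) i : ℂ) :=
    fun A v => funext fun i => by simp only [mulVec, dotProduct, _root_.Matrix.map_apply, _root_.Int.cast_sum, _root_.Int.cast_mul]
  refine he ⟨(fun i => (y i : ℂ)) - Complex.I • fun i => (((D.Wm w * B) *ᵥ y) i : ℂ), ?_, a, ha, fun e => h6 ?_⟩
  · rw [IsE, mulVec_sub, mulVec_smul, h7, h7, h4]
    funext l
    simp only [Pi.sub_apply, Pi.smul_apply, smul_eq_mul, Pi.neg_apply, Int.cast_neg]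
    linear_combination (((D.Wm w * B) *ᵥ y) l : ℂ) * Complex.I_mul_I
  · rw [ev, dotProduct_sub, dotProduct_smul, ← ev, ← ev, ev_int, ev_int] at e
    simpa only [_root_.smul_eq_mul, _root_.Complex.sub_re, _root_.Complex.intCast_re, _root_.Complex.mul_re, _root_.Complex.I_re, _root_.MulZeroClass.zero_mul, _root_.Complex.I_im, _root_.Complex.intCast_im, _root_.MulZeroClass.mul_zero, _root_.sub_self, _root_.sub_zero, _root_.Complex.zero_re, _root_.Int.cast_eq_zero] using congrArg Complex.re e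

variable [Fintype ↥(GF F G)] {f : Fr D} {χ : ↥(GF F G) → ℂ}

variable (Φ τ f χ c) in
/-- the multiplicities on the signed permutations -/
noncomputable def yc : SG n → ℂ := Function.extend (fun w => Φ.emb w * τ) (yv f χ c) 0

theorem yc_on (hτ : _root_.Cfsg.Agent.HZ.L.X.Tw Φ B τ) (w : D.W) : yc c Φ τ f χ (Φ.emb w * τ) = yv f χ c w := hτ.inj.extend_apply _ _ w

theorem yc_off {g : SG n} (h : ¬ ∃ w, Φ.emb w * τ = g) : yc c Φ τ f χ g = 0 := Function.extend_apply' _ _ _ h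

theorem yc_ne (hτ : _root_.Cfsg.Agent.HZ.L.X.Tw Φ B τ) {g : SG n} (h : yc c Φ τ f χ g ≠ 0) : ∃ w, Has f χ w c ∧ Φ.emb w * τ = g := by
  obtain ⟨w, rfl⟩ : ∃ w, Φ.emb w * τ = g := by_contra fun e => h (yc_off e)
  exact ⟨w, fun e => h ((yc_on hτ w).trans e), rfl⟩

open Classical in
theorem cy [Fintype D.W] (h : St D j B) (hτ : _root_.Cfsg.Agent.HZ.L.X.Tw Φ B τ) (hχ : IsIrrCharacter _ χ) (hx : Pat Φ c x)
    (hs : ∀ w, Fx D w c → ∀ i, x ((Φ.emb w * τ).π i) = x i) :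
    Cy x ((Finset.univ.filter (· ∈ Cas.Rf D c)).image Φ.emb) (yc c Φ τ f χ) := by
  have h0 : ∀ t, t ∈ (Finset.univ.filter (· ∈ Cas.Rf D c)).image Φ.emb ↔
      ∃ a, D.Rt a ∧ chr (D.cor a) c = 1 ∧ Φ.emb (D.rf a) = t := fun t => by
    simp only [Finset.mem_image, Finset.mem_filter, Finset.mem_univ, true_and]
    exact ⟨fun ⟨_, ⟨a, h1, h2, h3⟩, e⟩ => ⟨a, h1, h3, h2 ▸ e⟩, fun ⟨a, h1, h2, e⟩ => ⟨_, ⟨a, h1, rfl, h2⟩, e⟩⟩
  refine ⟨fun t ht => ?_, fun i l e h1 h2 => ?_, fun t ht g => ?_, fun g hg => ?_, fun g hg => ?_⟩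
  · obtain ⟨a, ha, h1, rfl⟩ := (h0 t).1 ht
    obtain ⟨g, h2, h3, h4⟩ := rf_form (Φ.φ ⟨_, rt_mem ha⟩).2 ((hx ⟨_, rt_mem ha⟩).symm.trans h1)
    rwa [Φ.emb_rf ha h3 h4]
  · obtain ⟨a, ha, h3, h4⟩ := Hyp.ex_sw (κ := κ) h1 e h2
    obtain ⟨⟨_, b, hb, rfl⟩, e'⟩ := Φ.φ.surjective ⟨a, ha⟩
    exact (h0 _).2 ⟨b, hb, by rw [hx ⟨_, rt_mem hb⟩, e']; exact h3, Φ.emb_rf hb (Hyp.ws_sw h1 e) (by rw [e']; exact h4)⟩
  · obtain ⟨a, ha, h1, rfl⟩ := (h0 t).1 ht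
    have h2 : (Φ.emb (D.rf a))⁻¹ = Φ.emb (D.rf a) := by rw [← map_inv, inv_eq_of_mul_eq_one_left (D.rf_mul_self ha)]
    nth_rw 2 [← h2]
    by_cases h3 : ∃ w, Φ.emb w * τ = g
    · obtain ⟨w, rfl⟩ := h3
      rw [← hτ.tc_iff.1 (LV.Lab.tc_self' (D.rf a) w), yc_on hτ, yc_on hτ,
        LV.Lab.yv_conj f χ (LV.Lab.tc_self' (D.rf a) w) (rel_rf ha h1)]
    · rw [yc_off h3, yc_off]
      rintro ⟨w, e⟩
      refine h3 ⟨(D.rf a)⁻¹ * w * D.Fw (D.rf a), ?_⟩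
      rw [hτ.tc_iff.1 (LV.Lab.tc_self (D.rf a) w), mul_left_inj, mul_right_inj] at e
      exact e
  · obtain ⟨w, h1, rfl⟩ := yc_ne hτ hg
    exact hs w h1.fx
  · rw [Finset.sum_image Φ.inj.injOn]
    by_cases h3 : ∃ w, Φ.emb w * τ = g
    · obtain ⟨w, rfl⟩ := h3
      obtain ⟨μ, h1⟩ := Cas.boxCas f h.qs χ hχ c
      rw [yc_on hτ] at hg
      refine Eq.trans ?_ ((h1 w).trans (mul_eq_zero_of_right _ hg))
      rw [Cas.cas, Finset.sum_filter]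
      exact Finset.sum_congr rfl fun t _ => by rw [← mul_assoc, ← map_mul, yc_on hτ]; rfl
    · exact Finset.sum_eq_zero fun t _ => yc_off fun ⟨w, e⟩ => h3 ⟨t⁻¹ * w, by
        rw [map_mul, map_inv, mul_assoc, e, inv_mul_cancel_left]⟩

/-- an isolated label misses at most one of the three eigenvalues -/
theorem no_two (H : BoxPure) (hn : 2 ≤ n) (h : St D j B) (hτ : _root_.Cfsg.Agent.HZ.L.X.Tw Φ B τ) (hχ : IsIrrCharacter _ χ) (hx : Pat Φ c x)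
    (hs : ∀ w, Fx D w c → ∀ i, x ((Φ.emb w * τ).π i) = x i) (hi : Isol (rts D) c) (hw : Has f χ w c) :
    ¬ (Miss B f χ c 1 ∧ Miss B f χ c (-1)) ∧ ¬ (Miss B f χ c 1 ∧ Miss B f χ c Complex.I) ∧
      ¬ (Miss B f χ c (-1) ∧ Miss B f χ c Complex.I) := by
  classical
  have := Fintype.ofFinite D.W
  have h1 := cy (f := f) h hτ hχ hx hs
  have h2 : yc c Φ τ f χ ≠ 0 := fun e => hw ((yc_on hτ w).symm.trans (congrFun e _))
  have h3 : ∀ μ : ℤ, μ * μ = 1 → Miss B f χ c μ → ∀ g, yc c Φ τ f χ g ≠ 0 → XC.NoE μ g := fun μ a b g hg => by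
    obtain ⟨w, h3, rfl⟩ := yc_ne hτ hg
    exact Hyp.eig hn h hτ a (b w h3)
  have h4 : ∀ μ : ℤ, μ * μ = 1 → ¬ (Miss B f χ c μ ∧ Miss B f χ c Complex.I) := fun μ a b => by
    refine h2 (H.im x _ _ μ a ?_ h1 (h3 μ a b.1) fun g hg i _ e => ?_)
    · obtain ⟨i, l, hil⟩ := (Fin.nontrivial_iff_two_le.2 hn).exists_pair_ne
      obtain ⟨a, ha, -⟩ : ∃ a ∈ Zc (rts D) c, True := by
        by_contra e
        have h5 := (Φ.φ.symm ⟨_, FrB.mem_sub hil⟩).2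
        exact two_ne_zero ((rt_two h5).symm.trans (hi _ (fun a ha => absurd ⟨a, ha, trivial⟩ e) _ h5))
      obtain ⟨⟨b, hb, rfl⟩, h5⟩ := ha
      exact ⟨_, Finset.mem_image_of_mem _ (Finset.mem_filter.2 ⟨Finset.mem_univ _, b, hb, rfl, h5⟩)⟩
    · obtain ⟨w, h3, rfl⟩ := yc_ne hτ hg
      exact eig_I hn h hτ (b.2 w h3) i e
  exact ⟨fun e => h2 (H.pm x _ _ (by omega) h1 (h3 1 rfl (by simpa using e.1)) (h3 (-1) rfl (by simpa using e.2))),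
    by simpa using h4 1 rfl, by simpa using h4 (-1) rfl⟩

theorem miss_or1 (hl : Lk B f χ) (h : ¬ Cj (rts D) c c') (μ : ℂ) : Miss B f χ c μ ∨ Miss B f χ c' μ :=
  or_iff_not_imp_left.2 fun h1 w' h2 h3 => h1 fun w h4 h5 => h (hl w c w' c' μ h4 h2 h5 h3)

theorem cj_of_dec (hz : Cz p (rts D)) (hr : Cr1 B f χ) (hw : Has f χ w c) (hw' : Has f χ w' c') {Ψ₁ Ψ₂ : RS D.R}
    (h : Dec (rts D) Ψ₁ Ψ₂ B) (h1 : Ψ₁.Nonempty) (h2 : Ψ₂.Nonempty) : Cj (rts D) c c' :=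
  boxProd D hz Ψ₁ Ψ₂ B h c c' hw.fo hw'.fo (hr _ _ h h2 _ _ _ _ hw hw')
    (hr _ _ ⟨h.union.trans (Set.union_comm _ _), fun a ha b hb => (h.orth b hb a ha).symm, h.nm₂, h.nm₁⟩ h1 _ _ _ _ hw hw')

end ClA

variable {p : ℕ} [Fact p.Prime] {k : Type} [Field k] [CharP k p] [IsAlgClosed k] {Y : Type} [Group Y] {N : Type}
  [Fintype N] [DecidableEq N] {ρ : Y →* GL N k} {F : MulAut Y} {G : Subgroup Y} (D : Datum p ρ F G) [Fintype ↥(GF F G)]

open ClA in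
/-- **the classical types** -/
theorem boxCl_of (H : BoxPure) : BoxCl D := by
  intro j B h hz he f χ hχ hl hr hn w c w' c' hw hw' h4
  by_contra h0
  have h1 := LV.Lab.nr_add_le f hχ (mt cj_iff.2 h0)
  have h2 := nr_pos hw
  have h3 := nr_pos hw'
  have i1 := hn w c hw
  have i2 := hn w' c' hw'
  obtain ⟨n, hn1, hn2⟩ := h.fin
  rcases norm1 hn1 hn2 h.nm' he with ⟨_, _, e, e₁, e₂⟩ | ⟨n, blk, hb, φ, hφ⟩ | ⟨κ, n, hκ, φ, hφ⟩
  · exact h0 (cj_of_dec hz hr hw hw' e e₁ e₂)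
  · obtain ⟨m, Φ, -⟩ := (boxFw D).all _ n blk φ hφ
    obtain ⟨τ, hτ⟩ := boxFrA D j B h n blk m Φ hb
    rcases (boxTA D).orb j B h n blk m Φ hb τ hτ with ⟨_, _, e, e₁, e₂, -⟩ | ⟨μ, e⟩
    · exact h0 (cj_of_dec hz hr hw hw' e e₁ e₂)
    rcases miss_or1 hl h0 μ with e' | e'
    · linarith [one_le_nr h hχ hw ((boxTA D).cen n blk m Φ hb c i1) fun u hu => e _ _ (e' _ hw) (e' _ hu)]
    · linarith [one_le_nr h hχ hw' ((boxTA D).cen n blk m Φ hb c' i2) fun u hu => e _ _ (e' _ hw') (e' _ hu)]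
  obtain ⟨Φ, -⟩ := (boxFw D).two κ n φ hκ.two hφ
  by_cases hp : p = 2
  · obtain ⟨x, hx, -⟩ := pat1 hκ.two Φ i1
    obtain ⟨x', hx', -⟩ := pat1 hκ.two Φ i2
    exact h0 (eq_two hp hκ.two hx hx' hw.fo hw'.fo h4 ▸ Cj.refl _ _)
  rcases frB1 h hκ Φ with ⟨Φ, τ, hτ⟩ | ⟨Φ, hΦ⟩
  · obtain ⟨x, hx, -⟩ := pat1 hκ.two Φ i1
    obtain ⟨x', hx', -⟩ := pat1 hκ.two Φ i2
    have h5 := no_two H hκ.two h hτ hχ hx (fun u hu => two1 hp hz hκ.two hx hx' h4 h0 h hτ hu hw'.fx) i1 hw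
    have h6 := no_two H hκ.two h hτ hχ hx' (fun u hu => two1 hp hz hκ.two hx' hx (fun v hv => (h4 v hv).symm)
      (mt cj_symm h0) h hτ hu hw.fx) i2 hw'
    rcases miss_or1 hl h0 1 with a | a <;> rcases miss_or1 hl h0 (-1) with b | b <;>
      rcases miss_or1 hl h0 Complex.I with e | e
    exacts [h5.1 ⟨a, b⟩, h5.1 ⟨a, b⟩, h5.2.1 ⟨a, e⟩, h6.2.2 ⟨b, e⟩, h5.2.2 ⟨b, e⟩, h6.2.1 ⟨a, e⟩, h6.1 ⟨a, b⟩, h6.1 ⟨a, b⟩]
  obtain ⟨x, hx, ox⟩ := pat1 (by decide) Φ i1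
  obtain ⟨x', hx', ox'⟩ := pat1 (by decide) Φ i2
  by_cases c1 : _root_.Cfsg.Agent.HZ.L.X.Cen (rts D) c
  · by_cases c2 : _root_.Cfsg.Agent.HZ.L.X.Cen (rts D) c'
    · exact h0 ((boxTri D).cen hp j B h Φ hΦ c c' w w' c1 c2 h4 hw.fx hw'.fx ▸ Cj.refl _ _)
    · linarith [(boxTri D).one j B h hz Φ hΦ f χ hχ c' x' hx' ox' c2 w' hw']
  · linarith [(boxTri D).one j B h hz Φ hΦ f χ hχ c x hx ox c1 w hw]

end Cfsg.Agent.OM.On
end

-- part: OM/On/Pure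
section
/-!
# OM/On: the pure box (helper34)

`Pu.Ob` (orbits), `Pu.exists_neg`, `Pu.step`, **`boxPure : BoxPure`**.
-/

set_option autoImplicit false
set_option maxHeartbeats 200000

namespace Cfsg.Agent.OM.On

open Equiv Cfsg.Agent.HZ.L Cfsg.Agent.LV.Cl Cfsg.Agent.LV.Cl.Ey

namespace Pu

variable {n : ℕ} {g h u : SG n} {i l j : Fin n}

theorem sw_sq (i l : Fin n) (e : ℤˣ) : sw i l e * sw i l e = 1 := by
  refine SG.ext (swap_mul_self i l) (funext fun x => ?_)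
  simp only [mul_s, sw_s, sw_π, one_s]
  by_cases h1 : x = i
  · simp [h1]
  by_cases h2 : x = l
  · simp [h2]
  · simp [swap_apply_of_ne_of_ne h1 h2, h1, h2]

/-- the orbit -/
def Ob (g : SG n) (l : Fin n) : Set (Fin n) := {j | ∃ a : ℕ, (g ^ a).π l = j}

theorem ob_self (g : SG n) (l : Fin n) : l ∈ Ob g l := ⟨0, rfl⟩

theorem ob_step (h : j ∈ Ob g l) : g.π j ∈ Ob g l := let ⟨a, e⟩ := h; ⟨a + 1, by rw [pow_succ', mul_π, Perm.mul_apply, e]⟩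

theorem ob_sub {S : Set (Fin n)} (h1 : l ∈ S) (h2 : ∀ j ∈ S, g.π j ∈ S) : Ob g l ⊆ S := by
  rintro _ ⟨a, rfl⟩
  induction a with
  | zero => exact h1
  | succ a ih => rw [pow_succ', mul_π, Perm.mul_apply]; exact h2 _ ih

theorem ob_mul (hu : ∀ j ∈ Ob h l, u.π j = j) : Ob (u * h) l = Ob h l :=
  (ob_sub (ob_self h l) fun j hj => by
    rw [mul_π, Perm.mul_apply, hu _ (ob_step hj)]; exact ob_step hj).antisymm
  ((ob_sub (S := Ob (u * h) l ∩ Ob h l) ⟨ob_self _ l, ob_self _ l⟩ fun j hj => ⟨by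
    rw [← hu _ (ob_step hj.2)]; exact ob_step (g := u * h) hj.1, ob_step hj.2⟩).trans Set.inter_subset_left)

theorem not_ob (h1 : h.π i = i) (h2 : l ≠ i) : i ∉ Ob h l := fun e =>
  ob_sub (S := {j | j ≠ i}) h2 (fun _ hj e => hj (h.π.injective (e.trans h1.symm))) e rfl

theorem ob_ins (h1 : g.π i ≠ i) (e : ℤˣ) : Ob g i = insert i (Ob (sw i (g.π i) e * g) (g.π i)) := by
  have k : (sw i (g.π i) e * g).π i = i := swap_apply_right _ _
  have k1 : ∀ j, g.π j = swap i (g.π i) ((sw i (g.π i) e * g).π j) := fun j => (swap_apply_self _ _ _).symm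
  refine (ob_sub (Set.mem_insert _ _) ?_).antisymm (Set.insert_subset (ob_self g i)
    ((ob_sub (S := Ob g i ∩ {j | j ≠ i}) ⟨ob_step (ob_self g i), h1⟩ fun j hj =>
      ⟨?_, fun e => hj.2 ((sw i (g.π i) _ * g).π.injective (e.trans k.symm))⟩).trans Set.inter_subset_left))
  · rintro j (rfl | hj)
    · exact .inr (ob_self _ _)
    · have h2 := ob_step hj
      rw [k1 j, swap_apply_def]
      split_ifs
      exacts [.inr (ob_self _ _), .inl rfl, .inr h2]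
  · rw [mul_π, Perm.mul_apply, sw_π, swap_apply_def]
    split_ifs
    exacts [ob_step (ob_self g i), ob_self g i, ob_step hj.1]

/-- fixed vectors -/
def Fx (g : SG n) (v : Fin n → ℤ) : Prop := ∀ j, g.s j * v (g.π j) = 1 * v j

theorem Fx.mul {v : Fin n → ℤ} (h1 : Fx g v) (h2 : Fx h v) : Fx (g * h) v := fun j => by
  rw [← h2 j, ← one_mul (v (h.π j)), ← h1 (h.π j), mul_s, mul_π, Perm.mul_apply, Units.val_mul]
  ring

theorem exists_fx (H : ∀ a : ℕ, (h ^ a).π l = l → (h ^ a).s l = 1) : ∃ w, Fx h w ∧ w l = 1 ∧ ∀ j, j ∉ Ob h l → w j = 0 := by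
  classical
  let w : Fin n → ℤ := fun j => if e : j ∈ Ob h l then ((h ^ e.choose).s l : ℤˣ) else 0
  have k : ∀ a : ℕ, w ((h ^ a).π l) = ((h ^ a).s l : ℤˣ) := fun a => by
    have e : (h ^ a).π l ∈ Ob h l := ⟨a, rfl⟩
    obtain ⟨c, hc⟩ := mem_powers_iff_mem_zpowers.2 (mul_mem (inv_mem (Subgroup.npow_mem_zpowers h a))
      (Subgroup.npow_mem_zpowers h e.choose))
    simp only at hc
    have h1 := H c (by rw [hc, mul_π, Perm.mul_apply, e.choose_spec, inv_π, inv_ap])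
    rw [hc, mul_s, e.choose_spec, inv_s, inv_ap, mul_eq_one_iff_eq_inv, Int.units_inv_eq_self] at h1
    simp only [w, dif_pos e, h1]
  refine ⟨w, fun j => ?_, k 0, fun j hj => dif_neg hj⟩
  by_cases e : j ∈ Ob h l
  · obtain ⟨a, rfl⟩ := e
    have h1 := k (a + 1)
    rw [pow_succ', mul_π, Perm.mul_apply, mul_s] at h1
    rw [h1, k, Units.val_mul, ← mul_assoc, ← Units.val_mul, Int.units_mul_self, Units.val_one]
  · have e' : h.π j ∉ Ob h l := fun ⟨a, ha⟩ => e (by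
      obtain ⟨c, hc⟩ := mem_powers_iff_mem_zpowers.2 (mul_mem (inv_mem (Subgroup.mem_zpowers h))
        (Subgroup.npow_mem_zpowers h a))
      exact ⟨c, by simp only at hc; rw [hc, mul_π, Perm.mul_apply, ha, inv_π, inv_ap]⟩)
    simp only [w, dif_neg e, dif_neg e', mul_zero]

theorem not_noE {μ : ℤ} (h1 : g.π i = i) (h2 : (g.s i : ℤ) = μ) : ¬ XC.NoE μ g := fun H => by
  have h3 := congrFun (H (Pi.single i 1) fun j => by
    by_cases e : j = i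
    · rw [e, h1, h2]
    · rw [Pi.single_eq_of_ne e, Pi.single_eq_of_ne fun e' => e (g.π.injective (e'.trans h1.symm)), mul_zero, mul_zero]) i
  simp at h3

/-- both signs occur -/
theorem exists_neg {e : ℤˣ} (h0 : l ≠ i) (h1 : h.π i = i) (h2 : h.s i = 1) (H : XC.NoE 1 (sw i l e * h)) :
    ∃ a : ℕ, (h ^ a).π l = l ∧ (h ^ a).s l = -1 := by
  by_contra! k
  obtain ⟨w, w1, w2, w3⟩ := exists_fx fun a ha => (Int.units_eq_one_or _).resolve_right (k a ha)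
  have w4 := w3 i (not_ob h1 h0)
  have h3 := congrFun (H (w + Pi.single i (e : ℤ)) (Fx.mul (fun j => ?_) fun j => ?_)) l
  · simp [w2, Pi.single_eq_of_ne h0] at h3
  · rw [sw_s, sw_π]
    by_cases e1 : j = i
    · simp [e1, w2, w4, Pi.single_eq_of_ne h0]
    by_cases e2 : j = l
    · simp [e2, w2, w4, Pi.single_eq_of_ne h0, ← Units.val_mul]
    · simp [e1, e2, swap_apply_of_ne_of_ne e1 e2]
  · by_cases e1 : j = i
    · rw [e1, h1, h2, Units.val_one]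
    · rw [Pi.add_apply, Pi.add_apply, Pi.single_eq_of_ne e1,
        Pi.single_eq_of_ne fun e' => e1 (h.π.injective (e'.trans h1.symm)), add_zero, add_zero, w1 j]

theorem sum_zero {A : Type} {R : Finset A} {f : A → ℂ} {c : ℂ} (h1 : ∀ u ∈ R, f u = 0 ∨ f u = c) {t : A} (h2 : t ∈ R)
    (h3 : f t = c) (h4 : ∑ u ∈ R, f u = 0) : c = 0 := by
  classical
  rw [← Finset.sum_filter_add_sum_filter_not R (f · = c), Finset.sum_congr rfl fun u hu => (Finset.mem_filter.1 hu).2,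
    Finset.sum_eq_zero fun u hu => (h1 u (Finset.mem_filter.1 hu).1).resolve_right (Finset.mem_filter.1 hu).2, add_zero,
    Finset.sum_const, nsmul_eq_mul, mul_eq_zero, Nat.cast_eq_zero, Finset.card_eq_zero] at h4
  exact h4.resolve_left (Finset.ne_empty_of_mem (Finset.mem_filter.2 ⟨h2, h3⟩))

variable {x : Fin n → Bool} {R : Finset (SG n)} {y : SG n → ℂ}

theorem sq_of (C : Cy x R y) (hu : u ∈ R) : u * u = 1 := by
  rcases C.mem u hu with ⟨a, b, e, -, -, rfl⟩ | ⟨a, rfl⟩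
  exacts [sw_sq a b e, tt_mul_self a]

/-- no element of the support has an orbit of length `m` -/
def P (y : SG n → ℂ) (m : ℕ) : Prop := ∀ g i, (Ob g i).ncard = m → y g = 0

theorem step (C : Cy x R y) (N : ∀ g, y g ≠ 0 → XC.NoE 1 g) (h0 : g.π i ≠ i) (H : P y ((Ob g i).ncard - 1)) : y g = 0 := by
  by_contra hy
  obtain ⟨l, hl⟩ : ∃ l, l = g.π i := ⟨_, rfl⟩
  obtain ⟨e, he⟩ : ∃ e, e = g.s i := ⟨_, rfl⟩
  obtain ⟨h, hh⟩ : ∃ h, h = sw i l e * g := ⟨_, rfl⟩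
  have k0 : l ≠ i := hl ▸ h0
  have k1 : h.π i = i := by rw [hh, mul_π, Perm.mul_apply, ← hl, sw_π, swap_apply_right]
  have k2 : h.s i = 1 := by rw [hh, mul_s, ← hl, sw_s, if_pos (.inr rfl), he, Int.units_mul_self]
  have k3 : sw i l e * h = g := by rw [hh, ← mul_assoc, sw_sq, one_mul]
  have k4 : x l = x i := hl ▸ C.supp g hy i
  have k5 : (Ob h l).ncard = (Ob g i).ncard - 1 := by
    rw [ob_ins h0 e, ← hl, ← hh, Set.ncard_insert_of_notMem (not_ob k1 k0), Nat.add_sub_cancel]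
  have k6 : ∀ u : SG n, (∀ j ∈ Ob h l, u.π j = j) → y (u * h) = 0 := fun u hu => H _ l (by rw [ob_mul hu, k5])
  have k7 : ∀ j ∈ Ob h l, x j = x i := ob_sub (S := {j | x j = x i}) k4 fun j hj => by
    have h1 : x (g.π j) = x i := (C.supp g hy j).trans hj
    show x (h.π j) = x i
    rw [hh, mul_π, Perm.mul_apply, sw_π, swap_apply_def]
    split_ifs
    exacts [k4, rfl, h1]
  have k8 : ∀ a : ℕ, (h ^ a).π i = i ∧ (h ^ a).s i = 1 := fun a => by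
    induction a with
    | zero => exact ⟨rfl, rfl⟩
    | succ a ih => rw [pow_succ, mul_π, Perm.mul_apply, mul_s, k1, k2, ih.2, mul_one]; exact ⟨ih.1, rfl⟩
  have k9 : ∀ a : ℕ, h ^ a * sw i l e * (h ^ a)⁻¹ = sw i ((h ^ a).π l) (e * (h ^ a).s l) := fun a => by
    rw [conj_sw, (k8 a).1, (k8 a).2, mul_one]
  have k10 : ∀ a : ℕ, y (sw i ((h ^ a).π l) (e * (h ^ a).s l) * h) = y g := fun a => by
    induction a with
    | zero => rw [← k9, pow_zero, one_mul, inv_one, mul_one, k3]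
    | succ a ih =>
      have h1 : (h ^ a).π l ∈ Ob h l := ⟨a, rfl⟩
      rw [← ih, ← C.inv _ (C.sw_mem i _ (e * (h ^ a).s l) (fun e => not_ob k1 k0 (e ▸ h1)) (k7 _ h1).symm)
        (sw i ((h ^ a).π l) (e * (h ^ a).s l) * h), ← mul_assoc, sw_sq, one_mul, ← k9, ← k9, pow_succ']
      congr 1
      group
  have k11 : ∀ b f, b ≠ i → y (sw i b f * h) = 0 ∨ y (sw i b f * h) = y g := fun b f hb => by
    by_cases h1 : b ∈ Ob h l
    · obtain ⟨a, rfl⟩ := h1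
      obtain ⟨c, c1, c2⟩ := exists_neg k0 k1 k2 (k3.symm ▸ N g hy)
      have h2 := k10 (a + c)
      rw [pow_add, mul_π, Perm.mul_apply, mul_s, c1, c2] at h2
      have h3 := k10 a
      rcases Int.units_eq_one_or f with rfl | rfl <;> rcases Int.units_eq_one_or (e * (h ^ a).s l) with h4 | h4 <;>
        simp only [mul_neg, mul_one, h4, neg_neg] at h2 h3 <;> simp only [h2, h3, or_true]
    · exact .inl (k6 _ fun j hj => swap_apply_of_ne_of_ne (fun e => not_ob k1 k0 (e ▸ hj)) fun e => h1 (e ▸ hj))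
  refine hy (sum_zero (f := fun u => y (u * h)) (fun u hu => ?_) (C.sw_mem i l e k0.symm k4.symm) (congrArg y k3)
    (C.cas h (by_contra fun e => not_noE k1 (by rw [k2]; rfl) (N h e))))
  rcases C.mem u hu with ⟨a, b, f, h1, -, rfl⟩ | ⟨a, rfl⟩
  · by_cases e1 : i = a
    · exact e1 ▸ k11 b f (e1 ▸ h1.symm)
    by_cases e2 : i = b
    · exact sw_comm b a f ▸ e2 ▸ k11 a f (e2 ▸ h1)
    · refine .inl (by_contra fun e => not_noE (i := i) ?_ ?_ (N _ e))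
      · rw [mul_π, Perm.mul_apply, k1, sw_π, swap_apply_of_ne_of_ne e1 e2]
      · rw [mul_s, k1, k2, sw_s, if_neg (not_or.2 ⟨e1, e2⟩)]
        rfl
  · exact .inl (k6 _ fun _ _ => rfl)

theorem two_le (h0 : g.π i ≠ i) : 2 ≤ (Ob g i).ncard :=
  (Set.ncard_pair h0).symm.trans_le (Set.ncard_le_ncard (Set.pair_subset (ob_step (ob_self g i)) (ob_self g i)))

theorem all (C : Cy x R y) (N : ∀ g, y g ≠ 0 → XC.NoE 1 g) {m : ℕ} (hm : 1 ≤ m) (H : P y m) (k : ℕ) (hk : m ≤ k) : P y k := by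
  induction k, hk using Nat.le_induction with
  | base => exact H
  | succ k hk ih =>
    refine fun g i e => step C N (i := i) (fun e' => ?_) (by rwa [e, Nat.add_sub_cancel])
    have h1 := Set.ncard_le_ncard (ob_sub (g := g) (S := {i}) rfl fun j hj => by rw [show j = i from hj]; exact e')
    rw [Set.ncard_singleton] at h1
    omega

theorem im1 (hR : R.Nonempty) (C : Cy x R y) (N : ∀ g, y g ≠ 0 → XC.NoE 1 g)
    (H : ∀ g, y g ≠ 0 → ∀ i, g.π i ≠ i → g.π (g.π i) = i → g.s i = g.s (g.π i)) : y = 0 := by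
  have k1 : P y 2 := fun g i e => by_contra fun hy => by
    have h0 : g.π i ≠ i := fun e' => by
      have h1 := Set.ncard_le_ncard (ob_sub (g := g) (S := {i}) rfl fun j hj => by rw [show j = i from hj]; exact e')
      rw [Set.ncard_singleton] at h1
      omega
    have h1 : g.π (g.π i) = i := by_contra fun e' => by
      have h2 := Set.ncard_le_ncard (Set.insert_subset (ob_self g i)
        (Set.pair_subset (ob_step (ob_self g i)) (ob_step (ob_step (ob_self g i)))))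
      rw [Set.ncard_eq_three.2 ⟨_, _, _, h0.symm, Ne.symm e', fun e => h0 (g.π.injective e).symm, rfl⟩] at h2
      omega
    have h2 := congrFun (N g hy (Pi.single i 1 + Pi.single (g.π i) (g.s i : ℤ)) fun j => ?_) i
    · simp [Pi.single_eq_of_ne h0.symm] at h2
    by_cases e1 : j = i
    · simp [e1, h0, h0.symm, ← Units.val_mul]
    by_cases e2 : j = g.π i
    · simp [e2, h1, h0, h0.symm, ← H g hy i h0 h1]
    · simp [e1, e2, show g.π j ≠ i from fun e => e2 (g.π.injective (e.trans h1.symm))]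
  have k2 : ∀ g, g ≠ ⟨1, fun _ => -1⟩ → y g = 0 := fun g hg => by_contra fun hy => by
    have h1 : ∀ i, g.π i = i := fun i => by_contra fun e => hy (all C N one_le_two k1 _ (two_le e) g i rfl)
    exact hg (SG.ext (Perm.ext h1) (funext fun i => (Int.units_eq_one_or _).resolve_left fun e =>
      not_noE (h1 i) (by rw [e]; rfl) (N g hy)))
  obtain ⟨t, ht⟩ := hR
  have k3 : y ⟨1, fun _ => -1⟩ = 0 := by
    refine sum_zero (f := fun u => y (u * (t * ⟨1, fun _ => -1⟩) :)) (fun u _ => or_iff_not_imp_left.2 fun e =>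
      congrArg y (by_contra fun e' => e (k2 _ e'))) ht (by rw [← mul_assoc, sq_of C ht, one_mul]) (C.cas _ (k2 _ fun e => ?_))
    rw [mul_eq_right] at e
    rcases C.mem t ht with ⟨a, b, f, h1, -, rfl⟩ | ⟨a, rfl⟩
    · exact h1 ((swap_apply_right a b).symm.trans (congrArg (fun g : SG n => g.π b) e))
    · simpa [tt_s] using congrArg (fun g : SG n => g.s a) e
  exact funext fun g => (em (g = ⟨1, fun _ => -1⟩)).elim (fun e => e ▸ k3) (k2 g)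

end Pu

open Pu in
/-- **the pure box** -/
theorem boxPure : BoxPure where
  pm x R y hn C N N' := funext fun g => all C N le_rfl (fun g i e => by_contra fun hy => by
      have h1 : g.π i = i := by_contra fun e' => by have := two_le e'; omega
      rcases Int.units_eq_one_or (g.s i) with h2 | h2
      exacts [not_noE h1 (by rw [h2]; rfl) (N g hy), not_noE h1 (by rw [h2]; rfl) (N' g hy)])
    _ ((Set.ncard_pos).2 ⟨_, ob_self g ⟨0, hn⟩⟩) g _ rfl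
  im {n} x R y μ hμ hR C N H := by
    rcases Int.eq_one_or_neg_one_of_mul_eq_one hμ with rfl | rfl
    · exact im1 hR C N H
    let z : SG n := ⟨1, fun _ => -1⟩
    have hz : ∀ g, z * g = g * z := fun g => SG.ext ((one_mul _).trans (mul_one _).symm) (funext fun _ => mul_comm _ _)
    have h1 := im1 (y := fun g => y (z * g)) hR ⟨C.mem, C.sw_mem, fun t ht g => by
        rw [← C.inv t ht (z * g), ← mul_assoc, ← mul_assoc, hz, mul_assoc t], fun g hg => C.supp (z * g) hg, fun g hg => by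
        simpa only [← mul_assoc, hz] using C.cas _ hg⟩
      (fun g hg v hv => N _ hg v fun j => by rw [neg_mul, ← hv j]; simp [z]) fun g hg i e e' =>
        neg_injective (by simpa [z] using H _ hg i e e')
    refine funext fun g => Eq.trans (congrArg y ?_) (congrFun h1 (z * g))
    exact SG.ext (by simp [z]) (funext fun j => by simp [z])

end Cfsg.Agent.OM.On
end

-- part: OM/On/ERed
section
/-!
# OM/On: reduction of `BoxE` to `E₆` and `E₇` (helper66)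
-/

set_option autoImplicit false
set_option linter.unusedSectionVars false
set_option maxRecDepth 100000

namespace Cfsg.Agent.OM.On

open Cfsg Cfsg.Lie Cfsg.Agent.DL Cfsg.Agent.DL.PP Matrix Cfsg.Agent.KZ.Lie Cfsg.Agent.HZ.L Cfsg.Agent.HZ.L.U Cfsg.Agent.KZ.DatX
  Cfsg.Agent.Nodes.RGDChev Cfsg.Agent.ChevalleyStructure.CoxeterGeomTypes
open Cfsg.Agent.HZ.L.U.E8 (K6 K7)

namespace ER

section Comb

variable {R R' : Type} [Fintype R] [DecidableEq R] [Fintype R'] [DecidableEq R'] {Ψ : RS R} {Ψ' : RS R'}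

/-- components `A₁` split off -/
def Sp (Ψ : RS R) : Prop := (∃ a ∈ Ψ, Ev Ψ a) ∧ (∃ a ∈ Ψ, ¬ Ev Ψ a) ∧
  ∀ a ∈ Ψ, ∀ b ∈ Ψ, Ev Ψ a → ¬ Ev Ψ b → a.1 ⬝ᵥ b.2 = 0 ∧ b.1 ⬝ᵥ a.2 = 0

theorem Sp.iso (h : Iso Ψ Ψ') (e : Sp Ψ') : Sp Ψ := by
  obtain ⟨φ, hφ⟩ := h
  have k : ∀ a : Ψ, Ev Ψ a.1 ↔ Ev Ψ' (φ a).1 := fun a => ⟨fun h b hb => by
    obtain ⟨b, e⟩ := φ.surjective ⟨b, hb⟩
    have h1 := hφ a b
    rw [e] at h1
    exact h1 ▸ h _ b.2, fun h b hb => hφ a ⟨b, hb⟩ ▸ h _ (φ ⟨b, hb⟩).2⟩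
  obtain ⟨⟨a, ha, h1⟩, ⟨b, hb, h2⟩, h3⟩ := e
  refine ⟨⟨_, (φ.symm ⟨a, ha⟩).2, (k _).2 (by rwa [Equiv.apply_symm_apply])⟩,
    ⟨_, (φ.symm ⟨b, hb⟩).2, fun e => h2 (by simpa only [Equiv.apply_symm_apply] using (k _).1 e)⟩, fun a ha b hb e e' => ?_⟩
  have h4 := h3 _ (φ ⟨a, ha⟩).2 _ (φ ⟨b, hb⟩).2 ((k ⟨a, ha⟩).1 e) fun e => e' ((k ⟨b, hb⟩).2 e)
  rwa [hφ, hφ] at h4

theorem Sp.dec {B : Mat R} {n : ℕ} (hn : 0 < n) (hB : B ^ n = 1) (h : Nm B Ψ) (e : Sp Ψ) :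
    ∃ Ψ₁ Ψ₂, Dec Ψ Ψ₁ Ψ₂ B ∧ Ψ₁.Nonempty ∧ Ψ₂.Nonempty := by
  have k : ∀ a b : Vec R × Vec R, b.1 ᵥ* B = a.1 → (Ev Ψ a ↔ Ev Ψ b) := fun a b e => ⟨fun h1 b' hb => by
    obtain ⟨a', ha, h2, -⟩ := X.nm_inv hn hB h hb
    rw [← h2, dotProduct_mulVec, e]
    exact h1 _ ha, fun h1 a' ha => by
    obtain ⟨b', hb, h2, -⟩ := h a' ha
    rw [← e, ← dotProduct_mulVec, h2]
    exact h1 _ hb⟩
  obtain ⟨⟨a, h1⟩, ⟨b, h2⟩, h3⟩ := e
  refine ⟨{a | a ∈ Ψ ∧ Ev Ψ a}, {a | a ∈ Ψ ∧ ¬ Ev Ψ a}, ⟨Set.ext fun a => ?_, fun a ha b hb => h3 a ha.1 b hb.1 ha.2 hb.2,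
    fun a ha => ?_, fun a ha => ?_⟩, ⟨a, h1⟩, b, h2⟩
  · exact ⟨fun ha => (em _).imp (fun e => ⟨ha, e⟩) fun e => ⟨ha, e⟩, fun ha => ha.elim And.left And.left⟩
  · obtain ⟨b, hb, h4, h5⟩ := h a ha.1
    exact ⟨b, ⟨hb, (k a b h5).1 ha.2⟩, h4, h5⟩
  · obtain ⟨b, hb, h4, h5⟩ := h a ha.1
    exact ⟨b, ⟨hb, fun e => ha.2 ((k a b h5).2 e)⟩, h4, h5⟩

end Comb

theorem ev7 : ∀ t : Fin chevE8.nroots, _root_.Cfsg.Agent.Nodes.RGDChev.vec chevE8 8 t 6 = 0 → Even (cv (cartanOf chevE8 8) (_root_.Cfsg.Agent.Nodes.RGDChev.vec chevE8 8 t) 7) := by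
  decide +kernel

theorem sp67 : Sp (_root_.Cfsg.Agent.HZ.L.lev PE8 (ind (insert 7 K6))) := by
  have : Fact (Nat.Prime 2) := ⟨Nat.prime_two⟩
  obtain ⟨p, e, _, _, _, he, -, hk⟩ := DL.Ex.exists_closure (ZMod 2)
  have X := xfS hpE8 p hk he
  obtain ⟨lam, h1, -, -, h2⟩ := E8.s68 X boxEx (K := insert 7 K6) (Finset.subset_insert _ _) (by decide)
  obtain ⟨b, hb⟩ := Set.nonempty_of_ncard_ne_zero (h1.trans_ne (by decide))
  refine ⟨⟨_, sr_mem_lev X fb_E8 (Finset.mem_insert_self 7 K6), fun b hb => ?_⟩, ⟨b, hb.1, (h2 b hb.1).1.1 hb.2⟩,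
    fun a ha b hb e e' => (h2 a ha).2 e b ⟨hb, (h2 b hb).1.2 e'⟩⟩
  have h3 := ((mem_lev_ind X).1 hb).2 6 (by decide)
  obtain ⟨⟨t, rfl⟩, -⟩ := hb
  exact (congrArg Even (KM.Ex.sr_dot (7 : Fin 8) _)).mpr (ev7 t h3)

theorem sets : ∀ K : Finset (Fin 8), K6 ⊆ K → K = K6 ∨ K = insert 7 K6 ∨ K = K7 ∨ K = Finset.univ := by decide +kernel

/-- the proper Levi subsystems of `E₈` -/
theorem te_cases {R : Type} [Fintype R] [DecidableEq R] {Ψ : RS R} (h : TE Ψ) :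
    Cl Ψ ∨ Sp Ψ ∨ Iso Ψ (_root_.Cfsg.Agent.HZ.L.lev PE8 (ind K6)) ∨ Iso Ψ (lev PE8 (ind K7)) := by
  obtain ⟨lam, h0, h1⟩ := h
  obtain ⟨K, P, Q, -, h2⟩ := TyP.sp' hpE8 fb_E8 lam
  have h3 := h1.trans h2.iso
  by_cases hK : K6 ⊆ K
  · rcases sets K hK with rfl | rfl | rfl | rfl
    · exact .inr (.inr (.inl h3))
    · exact .inr (.inl (sp67.iso h3))
    · exact .inr (.inr (.inr h3))
    · rw [lev_univ] at h2
      exact absurd (Set.eq_of_subset_of_ncard_le (lev_sub _ _) h2.ncard_eq.ge finite_Ph) h0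
  · exact .inl (TyP.cl_iso h3 (TyP.cl_ex (boxEx.e8 K hK)))

end ER

variable {p : ℕ} [Fact p.Prime] {k : Type} [Field k] [CharP k p] [IsAlgClosed k] {Y : Type} [Group Y] {N : Type}
  [Fintype N] [DecidableEq N] {ρ : Y →* GL N k} {F : MulAut Y} {G : Subgroup Y} (D : Datum p ρ F G) [Fintype ↥(GF F G)]

/-- `E₆` -/
def BoxE6 : Prop := ∀ j B, St D j B → Cz p (rts D) → Iso (rts D) (_root_.Cfsg.Agent.HZ.L.lev PE8 (ind K6)) → B0 D B

/-- `E₇` -/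
def BoxE7 : Prop := ∀ j B, St D j B → Cz p (rts D) → Iso (rts D) (_root_.Cfsg.Agent.HZ.L.lev PE8 (ind K7)) → B0 D B

/-- **reduction to `E₆` and `E₇`** -/
theorem boxE_of (h6 : BoxE6 D) (h7 : BoxE7 D) : BoxE D := fun j B h hz he => by
  rcases ER.te_cases he with e | e | e | e
  · exact .inl e
  · obtain ⟨n, hn, hB⟩ := h.fin
    obtain ⟨_, _, h1, h2, h3⟩ := e.dec hn hB h.nm'
    exact .inr fun _ _ _ _ hr _ _ _ _ _ hw hw' _ => ClA.cj_of_dec hz hr hw hw' h1 h2 h3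
  · exact .inr (h6 j B h hz e)
  · exact .inr (h7 j B h hz e)

/-- **all boxes of the induction** -/
theorem bx_of (h6 : AllD p fun D => BoxE6 D) (h7 : AllD p fun D => BoxE7 D) : Bx p :=
  ⟨fun D _ => boxCl_of D boxPure, fun D _ => boxE_of D (h6 D) (h7 D), fun D _ => (boxTy D).ty⟩

end Cfsg.Agent.OM.On
end

private theorem dce_e6066c1bdde5 : _root_.True := by
  try have : _root_.True := by simp only [_root_.Cfsg.Agent.OM.On.ClA.Rk1.eq_1]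
  try have : _root_.True := by simp only [_root_.Cfsg.Agent.HZ.L.X.Miss.congr_simp]
  exact _root_.True.intro
end

-- part: OM/On/E6/Ax
section
set_option linter.all false
open scoped Cfsg.Agent.FastGrp

/-!
# OM/On/E6 : `alc_ind`, `tr6`, `tr7` (helper63)
-/

set_option autoImplicit false
set_option linter.unusedSectionVars false
set_option maxRecDepth 100000

namespace Cfsg.Agent.OM.On.E6

open Cfsg Cfsg.Lie Matrix Cfsg.Agent.DL Cfsg.Agent.HZ.L Cfsg.Agent.BZ.TA Cfsg.Agent.OM.Cu Cfsg.Agent.KZ.DatX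
  Cfsg.Agent.Nodes.RGDChev Cfsg.Agent.ChevalleyStructure.CoxeterGeomTypes Cfsg.Agent.Tits.Roots

section Alc

open Cu.Sa

variable {I : Type} [Fintype I] [DecidableEq I] {C : Mat I} {d : I → ℤ} {n : ℕ} {P : Vec I → Prop}

/-- induction up to the dominant chamber -/
theorem bdd_ind (R : Rs C d) (h1 : ∀ t, ∀ a ∈ Rc C, P (t ᵥ* rfm a) → P t)
    (h3 : ∀ t, (∀ i, 0 ≤ t i) → (∀ a ∈ Rc C, t ⬝ᵥ a.2 ≤ n) → P t) (τ : Vec I) (hτ : ∀ a ∈ Rc C, τ ⬝ᵥ a.2 ≤ n) : P τ := by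
  classical
  induction h : ((co R).filter fun β => 0 ≤ β ∧ τ ⬝ᵥ β < 0).card using Nat.strong_induction_on generalizing τ with
  | _ k ih =>
    by_cases h0 : ∀ i, 0 ≤ τ i
    · exact h3 τ h0 hτ
    push Not at h0
    obtain ⟨i, hi⟩ := h0
    have h2 := rfm_rfm (R.two _ (R.mem i))
    refine h1 _ _ (R.mem i) (ih _ ?_ _ (fun a ha => ?_) rfl)
    · rw [← h]
      refine (Finset.card_le_card_of_injOn (fun β => rfm (sp C i) *ᵥ β) (fun β hβ => ?_) fun β _ γ _ e => ?_).trans_lt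
        (Finset.card_erase_lt_of_mem (a := (sp C i).2) (Finset.mem_filter.2 ⟨(mem_co R).2 ⟨_, R.mem i, rfl⟩,
          Pi.single_nonneg.2 zero_le_one, by rwa [dot_sp]⟩))
      · obtain ⟨k1, k2, k3⟩ := Finset.mem_filter.1 hβ
        obtain ⟨b, hb, rfl⟩ := (mem_co R).1 k1
        rw [← dotProduct_mulVec] at k3
        have k4 := R.smp i b hb k2 fun e => by
          rw [e, rfm_mulVec, R.two _ (R.mem i), dotProduct_sub, dotProduct_smul, dot_sp, smul_eq_mul] at k3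
          omega
        refine Finset.mem_erase.2 ⟨fun e => ?_, Finset.mem_filter.2 ⟨refl_co R (R.mem i) k1, k4, k3⟩⟩
        have k5 := k2 i
        rw [← h2 b.2, show rfm (sp C i) *ᵥ b.2 = _ from e, rfm_mulVec, R.two _ (R.mem i)] at k5
        simp [sp] at k5
      · rw [← h2 β, ← h2 γ]
        exact congrArg _ e
    · obtain ⟨c, c1, c2⟩ := refl_mem R (R.mem i) ha
      rw [← dotProduct_mulVec, ← c2]
      exact hτ c c1

/-- **induction up to the fundamental alcove** -/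
theorem alc_ind (H : Car C d) (hn : 0 < n) (h1 : ∀ t, ∀ a ∈ Rc C, P (t ᵥ* rfm a) → P t)
    (h2 : ∀ t, ∀ a ∈ Rc C, P (t - (n : ℤ) • a.1) → P t)
    (h3 : ∀ t, (∀ i, 0 ≤ t i) → (∀ a ∈ Rc C, t ⬝ᵥ a.2 ≤ n) → P t) (τ : Vec I) : P τ := by
  have R := boxRs C d H
  induction h : (∑ β ∈ co R, (τ ⬝ᵥ β) ^ 2).toNat using Nat.strong_induction_on generalizing τ with
  | _ k ih =>
    by_cases h0 : ∀ a ∈ Rc C, τ ⬝ᵥ a.2 ≤ n
    · exact bdd_ind R h1 h3 τ h0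
    push Not at h0
    obtain ⟨a, ha, h0⟩ := h0
    have hn0 : (0 : ℤ) < n := Int.natCast_pos.2 hn
    have h3 : 0 < ∑ β ∈ co R, (a.1 ⬝ᵥ β) ^ 2 := Finset.sum_pos' (fun _ _ => sq_nonneg _)
      ⟨a.2, (mem_co R).2 ⟨a, ha, rfl⟩, by rw [R.two a ha]; norm_num⟩
    have h4 : ∑ β ∈ co R, ((τ - (n : ℤ) • a.1) ⬝ᵥ β) ^ 2 = ∑ β ∈ co R, (τ ⬝ᵥ β) ^ 2 -
        n * (2 * ∑ β ∈ co R, τ ⬝ᵥ β * (a.1 ⬝ᵥ β)) + n ^ 2 * ∑ β ∈ co R, (a.1 ⬝ᵥ β) ^ 2 := by
      rw [Finset.mul_sum, Finset.mul_sum, Finset.mul_sum, ← Finset.sum_sub_distrib, ← Finset.sum_add_distrib]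
      refine Finset.sum_congr rfl fun β _ => ?_
      rw [sub_dotProduct, smul_dotProduct, smul_eq_mul]
      ring
    rw [sum_refl R ha] at h4
    have h5 : 0 ≤ ∑ β ∈ co R, ((τ - (n : ℤ) • a.1) ⬝ᵥ β) ^ 2 := Finset.sum_nonneg fun _ _ => sq_nonneg _
    have h6 := mul_pos (mul_pos hn0 h3) (sub_pos.2 h0)
    refine h2 _ a ha (ih _ ?_ _ rfl)
    have h7 : ∑ β ∈ co R, ((τ - (n : ℤ) • a.1) ⬝ᵥ β) ^ 2 < ∑ β ∈ co R, (τ ⬝ᵥ β) ^ 2 := by
      rw [h4]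
      linarith
    omega

end Alc

section Tr

open Cu.BaseA

variable {R I J : Type} [Fintype R] [DecidableEq R] [Fintype I] [DecidableEq I] [Fintype J] [DecidableEq J] {Ψ : RS R}
  {C : Mat I} {d : I → ℤ} {P : Matrix R I ℤ}

theorem tr_two (H : Car C d) (T : Cu.Tr P (Rc C) Ψ) {b : Vec R × Vec R} (hb : b ∈ Ψ) : b.1 ⬝ᵥ b.2 = 2 := by
  obtain ⟨a, ha, h1, h2⟩ := T.dn b hb
  rw [← h1, dotProduct_mulVec, h2, (boxRs C d H).two a ha]

theorem tr_neg (H : Car C d) (T : Cu.Tr P (Rc C) Ψ) {b : Vec R × Vec R} (hb : b ∈ Ψ) : -b ∈ Ψ := by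
  obtain ⟨c, c1, c2, c3⟩ := T.nm b hb b hb
  have h := tr_two H T hb
  have h1 : c.1 = b.1 ᵥ* rfm b := by rw [← c3, vecMul_vecMul, rfm_sq h, vecMul_one]
  rw [rfm, vecMul_sub, vecMul_one, vecMul_vecMulVec, h] at h1
  rw [BaseA.rfm_vec, h] at c2
  exact (Prod.ext (h1.trans (by rw [two_smul]; simp)) (c2.symm.trans (by rw [two_smul]; simp)) : c = -b) ▸ c1

theorem tr_red (H : Car C d) (T : Cu.Tr P (Rc C) Ψ) {b b' : Vec R × Vec R} (hb : b ∈ Ψ) (hb' : b' ∈ Ψ) {m : ℤ}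
    (h : b.2 = m • b'.2) : b' = b ∨ b' = -b := by
  obtain ⟨a, ha, h1, -⟩ := T.dn b hb
  obtain ⟨a', ha', h2, -⟩ := T.dn b' hb'
  have h3 := T.inj (a.2 - m • a'.2) (by rw [mulVec_sub, mulVec_smul, h1, h2, h, sub_self])
  refine ((boxRs C d H).red a ha a' ha' 1 m one_ne_zero (by rw [one_smul, ← sub_eq_zero, h3])).imp (fun e => ?_) fun e => ?_
  · exact T.ext _ hb' _ hb (by rw [← h1, ← h2, e])
  · exact T.ext _ hb' _ (tr_neg H T hb) (by rw [Prod.snd_neg, ← h1, ← h2, e, Prod.snd_neg, mulVec_neg])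

/-- **a base** -/
theorem tr_base (H : Car C d) (T : Cu.Tr P (Rc C) Ψ) {s : J → Vec R × Vec R} {d' : J → ℤ} (car : Car (Cf s) d') (hs : ∀ i, s i ∈ Ψ)
    (sg : ∀ b ∈ Ψ, ∃ c, Pf s *ᵥ c = b.2 ∧ (0 ≤ c ∨ c ≤ 0)) : Cu.Tr (Pf s) (Rc (Cf s)) Ψ := by
  have ind : ∀ v, Pf s *ᵥ v = 0 → v = 0 := fun v hv => by_contra fun h0 => (car.pos v h0).ne'
    (Finset.sum_eq_zero fun i _ => by rw [vecMul_Cf, hv, dotProduct_zero, mul_zero])
  have nz : ∀ b ∈ Ψ, ∀ c, Pf s *ᵥ c = b.2 → c ≠ 0 := fun b hb c e h0 => by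
    have := tr_two H T hb
    rw [← e, h0, mulVec_zero, dotProduct_zero] at this
    omega
  have dn : ∀ (k : ℕ) (b : Vec R × Vec R), b ∈ Ψ → ∀ c, Pf s *ᵥ c = b.2 → 0 ≤ c → ∑ i, c i < k → Dn s b := fun k => by
    induction k with
    | zero => exact fun b _ c _ h0 h1 => absurd (Finset.sum_nonneg fun i _ => h0 i) (not_le.2 h1)
    | succ k ih =>
      intro b hb c c2 c1 h1
      obtain ⟨i, -, h3⟩ := Finset.exists_lt_of_sum_lt (f := fun _ => (0 : ℤ)) (Finset.sum_const_zero.trans_lt (car.pos c (nz b hb c c2)))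
      rw [vecMul_Cf, c2] at h3
      have h4 : 0 < (s i).1 ⬝ᵥ b.2 := pos_of_mul_pos_right h3 (mul_nonneg (c1 i) (car.dpos i).le)
      obtain ⟨b', b1, b2, b3⟩ := T.nm _ (hs i) b hb
      have e := rfm_sq (tr_two H T (hs i))
      obtain ⟨x, x2, x1⟩ := sg b' b1
      have h6 : x = c - ((s i).1 ⬝ᵥ b.2) • Pi.single i 1 := sub_eq_zero.1 (ind _ (by
        rw [mulVec_sub, mulVec_sub, mulVec_smul, Pf_single, c2, x2, ← b2, BaseA.rfm_vec, sub_self]))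
      rcases x1 with x1 | x1
      · refine (ih b' b1 x x2 x1 ?_).step i (by rw [← b2, mulVec_mulVec, e, one_mulVec]) (by rw [← b3, vecMul_vecMul, e, vecMul_one])
        simp only [h6, Pi.sub_apply, Pi.smul_apply, smul_eq_mul, Finset.sum_sub_distrib, ← Finset.mul_sum, Finset.sum_pi_single',
          Finset.mem_univ, if_true]
        omega
      · have h7 : c = c i • Pi.single i 1 := funext fun j => by
          by_cases e : j = i
          · simp [e]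
          · have h9 := c1 j
            have h10 := x1 j
            simp only [h6, Pi.sub_apply, Pi.smul_apply, Pi.single_eq_of_ne e, smul_zero, Pi.zero_apply] at h9 h10 ⊢
            omega
        rcases tr_red H T hb (hs i) (m := c i) (by rw [← c2, ← Pf_single, ← mulVec_smul, ← h7]) with e | e
        · exact e ▸ dn_s s i
        · rw [e, Prod.fst_neg, neg_dotProduct, tr_two H T hb] at h4
          omega
  refine tr_of car hs T.ext T.nm fun b hb => ?_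
  obtain ⟨c, c2, h | h⟩ := sg b hb
  · exact dn _ b hb c c2 h ((Int.self_le_toNat _).trans_lt (Nat.cast_lt.2 (Nat.lt_succ_self _)))
  · obtain ⟨a, a1, a2, a3⟩ := dn _ _ (tr_neg H T hb) (-c) (by rw [mulVec_neg, c2, Prod.snd_neg]) (neg_nonneg.2 h)
      ((Int.self_le_toNat _).trans_lt (Nat.cast_lt.2 (Nat.lt_succ_self _)))
    exact ⟨-a, (boxRs _ _ car).neg a a1, by rw [Prod.snd_neg, mulVec_neg, a2, Prod.snd_neg, neg_neg],
      by rw [Prod.fst_neg, ← a3, Prod.fst_neg, neg_vecMul, neg_neg]⟩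

end Tr

variable {p : ℕ} [Fact p.Prime] {k : Type} [Field k] [CharP k p] [IsAlgClosed k] {Y : Type} [Group Y] {N : Type}
  [Fintype N] [DecidableEq N] {ρ : Y →* GL N k} {F : MulAut Y} {G : Subgroup Y} (D : Datum p ρ F G)

open Cu.BaseA in
/-- a base in a model -/
theorem tr_iso {R' J : Type} [Fintype R'] [DecidableEq R'] [Fintype J] [DecidableEq J] {Ψ' : RS R'} (h : Iso (rts D) Ψ')
    {s' : J → Vec R' × Vec R'} {d : J → ℤ} (car : Car (Cf s') d) (hs : ∀ i, s' i ∈ Ψ')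
    (sg : ∀ b ∈ Ψ', ∃ c, Pf s' *ᵥ c = b.2 ∧ (0 ≤ c ∨ c ≤ 0)) : ∃ P : Matrix D.R J ℤ, Cu.Tr P (Rc (Cf s')) (rts D) := by
  have := D.amb.finite_GF G
  have := Fintype.ofFinite ↥(GF F G)
  obtain ⟨m, C, d', P, H, T⟩ := boxDt p D
  obtain ⟨φ, hφ⟩ := h
  obtain ⟨s, e⟩ : ∃ s : J → rts D, ∀ i, (φ (s i)).1 = s' i := ⟨fun i => φ.symm ⟨_, hs i⟩, fun i => by rw [φ.apply_symm_apply]⟩
  have h1 : Cf (fun i => (s i).1) = Cf s' := Matrix.ext fun i j => (hφ _ _).symm.trans (by rw [e, e]; rfl)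
  rw [← h1] at car ⊢
  refine ⟨_, tr_base H T car (fun i => (s i).2) fun b hb => ?_⟩
  obtain ⟨c, c1, c2⟩ := sg _ (φ ⟨b, hb⟩).2
  have h2 : ∀ {R : Type} [Fintype R] (t : J → Vec R × Vec R), Pf t *ᵥ c = ∑ i, c i • (t i).2 := fun t => funext fun r => by
    rw [Finset.sum_apply]
    exact Finset.sum_congr rfl fun i _ => mul_comm _ _
  refine ⟨c, sub_eq_zero.1 (X.Qv.eq_zero (sub_mem (by
    rw [h2]
    exact sum_mem fun i _ => Submodule.smul_mem _ _ (X.Qv.cor (s i).2)) (X.Qv.cor hb)) fun a ha => ?_), c2⟩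
  rw [dotProduct_sub, ← hφ ⟨a, ha⟩ ⟨b, hb⟩, ← c1, h2, h2, dotProduct_sum, dotProduct_sum, sub_eq_zero]
  exact Finset.sum_congr rfl fun i _ => by rw [dotProduct_smul, dotProduct_smul, ← hφ ⟨a, ha⟩ (s i), e]

/-- the nodes -/
def nd6 : Fin 6 → Fin 8 := ![0, 2, 3, 4, 5, 1]

/-- the nodes -/
def nd7 : Fin 7 → Fin 8 := ![0, 2, 3, 4, 5, 6, 1]

private def Am : Fin 8 → Fin 8 → ℤ :=
  ![![2, 0, -1, 0, 0, 0, 0, 0], ![0, 2, 0, -1, 0, 0, 0, 0], ![-1, 0, 2, -1, 0, 0, 0, 0], ![0, -1, -1, 2, -1, 0, 0, 0],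
    ![0, 0, 0, -1, 2, -1, 0, 0], ![0, 0, 0, 0, -1, 2, -1, 0], ![0, 0, 0, 0, 0, -1, 2, -1], ![0, 0, 0, 0, 0, 0, -1, 2]]

private theorem hA : ∀ i j, cartanOf chevE8 8 i j = Am i j := by decide +kernel

private theorem hS (i j : Fin 8) : cartanOf chevE8 8 i j = cartanOf chevE8 8 j i := by
  rw [hA, hA]
  revert i j
  decide +kernel

private def nm (a : Fin 8 → ℤ) : ℤ :=
  a 0 * (a 0 - a 2) + a 1 * (a 1 - a 3) + a 2 * (a 2 - a 3) + a 3 * (a 3 - a 4) + a 4 * (a 4 - a 5) + a 5 * (a 5 - a 6) +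
    a 6 * (a 6 - a 7) + a 7 * a 7

private theorem cv_eq {a : Fin 8 → ℤ} (h : nm a = 1) (j : Fin 8) :
    U.cv (cartanOf chevE8 8) a j = ∑ k, cartanOf chevE8 8 k j * a k := by
  have h1 : H92.NE.bl (cartanOf chevE8 8) a a = 2 * nm a := by
    rw [H92.NE.bl_apply]
    simp only [hA, Fin.sum_univ_eight]
    show a 0 * 2 * a 0 + a 0 * 0 * a 1 + a 0 * (-1) * a 2 + a 0 * 0 * a 3 + a 0 * 0 * a 4 + a 0 * 0 * a 5 + a 0 * 0 * a 6 + a 0 * 0 * a 7 + 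
      (a 1 * 0 * a 0 + a 1 * 2 * a 1 + a 1 * 0 * a 2 + a 1 * (-1) * a 3 + a 1 * 0 * a 4 + a 1 * 0 * a 5 + a 1 * 0 * a 6 + a 1 * 0 * a 7) +
      (a 2 * (-1) * a 0 + a 2 * 0 * a 1 + a 2 * 2 * a 2 + a 2 * (-1) * a 3 + a 2 * 0 * a 4 + a 2 * 0 * a 5 + a 2 * 0 * a 6 + a 2 * 0 * a 7) +
      (a 3 * 0 * a 0 + a 3 * (-1) * a 1 + a 3 * (-1) * a 2 + a 3 * 2 * a 3 + a 3 * (-1) * a 4 + a 3 * 0 * a 5 + a 3 * 0 * a 6 + a 3 * 0 * a 7) +
      (a 4 * 0 * a 0 + a 4 * 0 * a 1 + a 4 * 0 * a 2 + a 4 * (-1) * a 3 + a 4 * 2 * a 4 + a 4 * (-1) * a 5 + a 4 * 0 * a 6 + a 4 * 0 * a 7) +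
      (a 5 * 0 * a 0 + a 5 * 0 * a 1 + a 5 * 0 * a 2 + a 5 * 0 * a 3 + a 5 * (-1) * a 4 + a 5 * 2 * a 5 + a 5 * (-1) * a 6 + a 5 * 0 * a 7) +
      (a 6 * 0 * a 0 + a 6 * 0 * a 1 + a 6 * 0 * a 2 + a 6 * 0 * a 3 + a 6 * 0 * a 4 + a 6 * (-1) * a 5 + a 6 * 2 * a 6 + a 6 * (-1) * a 7) +
      (a 7 * 0 * a 0 + a 7 * 0 * a 1 + a 7 * 0 * a 2 + a 7 * 0 * a 3 + a 7 * 0 * a 4 + a 7 * 0 * a 5 + a 7 * (-1) * a 6 + a 7 * 2 * a 7) = _
    delta nm
    ring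
  delta U.cv
  rw [h1, h, mul_one, H92.NE.bl_sr, Int.mul_ediv_cancel_left _ two_ne_zero]
  exact Finset.sum_congr rfl fun k _ => by rw [hS]

private theorem rt8 : ∀ t : Fin chevE8.nroots, nm (vec chevE8 8 t) = 1 ∧
    (vec chevE8 8 t 6 + vec chevE8 8 t 7 = 0 → vec chevE8 8 t 6 = 0 ∧ vec chevE8 8 t 7 = 0) ∧
    ((∀ i, 0 ≤ vec chevE8 8 t i) ∨ ∀ i, vec chevE8 8 t i ≤ 0) := by decide +kernel

theorem tab6 : ∀ t : Fin chevE8.nroots, vec chevE8 8 t ⬝ᵥ U.ind U.E8.K6 = 0 →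
    (∀ j, ∑ i, cartanOf chevE8 8 (nd6 i) j * vec chevE8 8 t (nd6 i) = U.cv (cartanOf chevE8 8) (vec chevE8 8 t) j) ∧
      ((∀ i, 0 ≤ vec chevE8 8 t (nd6 i)) ∨ ∀ i, vec chevE8 8 t (nd6 i) ≤ 0) := by
  intro t h
  obtain ⟨h1, h2, h3⟩ := rt8 t
  generalize vec chevE8 8 t = a at h h1 h2 h3 ⊢
  rw [dotProduct, Fin.sum_univ_eight] at h
  replace h : a 0 * 0 + a 1 * 0 + a 2 * 0 + a 3 * 0 + a 4 * 0 + a 5 * 0 + a 6 * 1 + a 7 * 1 = 0 := h
  obtain ⟨h4, h5⟩ := h2 (by omega)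
  refine ⟨fun j => ?_, h3.imp (fun h i => h _) fun h i => h _⟩
  rw [cv_eq h1, Fin.sum_univ_eight, Fin.sum_univ_six, h4, h5]
  generalize cartanOf chevE8 8 = B
  show B 0 j * a 0 + B 2 j * a 2 + B 3 j * a 3 + B 4 j * a 4 + B 5 j * a 5 + B 1 j * a 1 = _
  ring

theorem tab7 : ∀ t : Fin chevE8.nroots, vec chevE8 8 t ⬝ᵥ U.ind U.E8.K7 = 0 →
    (∀ j, ∑ i, cartanOf chevE8 8 (nd7 i) j * vec chevE8 8 t (nd7 i) = U.cv (cartanOf chevE8 8) (vec chevE8 8 t) j) ∧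
      ((∀ i, 0 ≤ vec chevE8 8 t (nd7 i)) ∨ ∀ i, vec chevE8 8 t (nd7 i) ≤ 0) := by
  intro t h
  obtain ⟨h1, -, h3⟩ := rt8 t
  generalize vec chevE8 8 t = a at h h1 h3 ⊢
  rw [dotProduct, Fin.sum_univ_eight] at h
  replace h : a 0 * 0 + a 1 * 0 + a 2 * 0 + a 3 * 0 + a 4 * 0 + a 5 * 0 + a 6 * 0 + a 7 * 1 = 0 := h
  have h5 : a 7 = 0 := by omega
  refine ⟨fun j => ?_, h3.imp (fun h i => h _) fun h i => h _⟩
  rw [cv_eq h1, Fin.sum_univ_eight, Fin.sum_univ_seven, h5]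
  generalize cartanOf chevE8 8 = B
  show B 0 j * a 0 + B 2 j * a 2 + B 3 j * a 3 + B 4 j * a 4 + B 5 j * a 5 + B 6 j * a 6 + B 1 j * a 1 = _
  ring

open Cu.BaseA in
theorem tr8 {n : ℕ} {K : Finset (Fin 8)} (h : Iso (rts D) (lev U.PE8 (U.ind K))) (ν : Fin n → Fin 8) {c : ℕ → ℕ → ℤ} {d : Fin n → ℤ}
    (car : Car (cm n c) d) (h1 : ∀ i, ν i ∈ K) (h2 : ∀ i j, cartanOf chevE8 8 (ν i) (ν j) = c i j)
    (h3 : ∀ t : Fin chevE8.nroots, vec chevE8 8 t ⬝ᵥ U.ind K = 0 →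
      (∀ j, ∑ i, cartanOf chevE8 8 (ν i) j * vec chevE8 8 t (ν i) = U.cv (cartanOf chevE8 8) (vec chevE8 8 t) j) ∧
        ((∀ i, 0 ≤ vec chevE8 8 t (ν i)) ∨ ∀ i, vec chevE8 8 t (ν i) ≤ 0)) :
    ∃ P : Matrix D.R (Fin n) ℤ, Cu.Tr P (Rc (cm n c)) (rts D) := by
  have : Fact (Nat.Prime 2) := ⟨Nat.prime_two⟩
  obtain ⟨p, e, _, _, _, he, -, hk⟩ := DL.Ex.exists_closure (ZMod 2)
  have X := xfS hpE8 p hk he
  have h4 : Cf (fun i => ((sr (ν i), cartanOf chevE8 8 (ν i)) : Vec (Fin 8) × Vec (Fin 8))) = cm n c :=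
    Matrix.ext fun i j => (KM.Ex.sr_dot _ _).trans (h2 i j)
  rw [← h4] at car ⊢
  refine tr_iso D h car (fun i => U.sr_mem_lev X U.fb_E8 (h1 i)) ?_
  rintro _ ⟨⟨t, rfl⟩, ht⟩
  exact ⟨fun i => vec chevE8 8 t (ν i), funext (h3 t ht).1, (h3 t ht).2⟩

/-- **`E₆`** -/
theorem tr6 (h : Iso (rts D) (lev U.PE8 (U.ind U.E8.K6))) : ∃ P : Matrix D.R (Fin 6) ℤ, Cu.Tr P (Rc (cm 6 (cT 2 6))) (rts D) :=
  tr8 D h nd6 Eng.carE6 (by decide) (by decide +kernel) tab6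

/-- **`E₇`** -/
theorem tr7 (h : Iso (rts D) (lev U.PE8 (U.ind U.E8.K7))) : ∃ P : Matrix D.R (Fin 7) ℤ, Cu.Tr P (Rc (cm 7 (cT 2 7))) (rts D) :=
  tr8 D h nd7 Eng.carE7 (by decide) (by decide +kernel) tab7

end Cfsg.Agent.OM.On.E6
end
end
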