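import Cfsg.Agent.OM.Cu.TbE7a_m3
import Cfsg.Agent.Prune
set_option linter.all false
prune_inst 0x7f00000000000000000000000000000000000000000000000000000000000000000000000000000000000000000000000000000000000000000000000000000000000000000000000000000000000000003fffffffffffffffffffffffffffbeffbdffffffff
open scoped Cfsg.Agent.FastGrp

/-- decoders of the packed data (elaboration time only) -/
private noncomputable def pk61d (b S i : Nat) : Nat := Nat.mod (Nat.shiftRight S (Nat.mul b i)) (Nat.shiftLeft (nat_lit 1) b)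
private noncomputable def pk61c {α : Type} (t : Nat) (a : α) (f : Nat → α) : α := Nat.rec a (fun k _ => f k) t
private noncomputable def pk61f {α : Type} (t : Nat) (f : Nat → α) : α := Nat.rec (f Nat.zero) (fun k _ => f (Nat.succ k)) t
private noncomputable def pk61l {α : Type} (f : Nat → α) (s e : Nat) (tl : List α) : List α :=
  pk61f e fun e => Nat.rec tl (fun k ih => List.cons (pk61f (Nat.sub e (Nat.succ k)) f) ih) (Nat.sub e s)
private noncomputable def pk61o {α : Type} (O : (n : Nat) → OfNat α n → α) (I : (n : Nat) → OfNat α n) (t : Nat) : α :=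
  pk61c t (O (nat_lit 0) (I (nat_lit 0))) fun k => O (Nat.succ k) (I (Nat.succ k))
private noncomputable def pk61y (O : (n : Nat) → OfNat Int n → Int) (I : (n : Nat) → OfNat Int n) (G : Int → Int) (t : Nat) : Int := pk61f t fun t =>
  pk61c (Nat.mod t (nat_lit 2)) (pk61o O I (Nat.div t (nat_lit 2))) fun _ => G (pk61o O I (Nat.succ (Nat.div t (nat_lit 2))))

private noncomputable def lq261f0d4473 {T : Sort _} (f :
    type_of% (@_root_.List.cons.{0}) →
    type_of% (@_root_.List.cons.{0} (Nat)) →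
    type_of% (@_root_.List.nil.{0}) →
    type_of% (@_root_.Prod.mk.{0, 0}) →
    type_of% (@_root_.List.cons.{0} (List Nat)) →
    type_of% (@_root_.Cfsg.Agent.OM.On.E6.Tb.mk) →
    type_of% (@_root_.Nat.mod) →
    type_of% (@_root_.Nat.shiftRight) →
    type_of% (@_root_.Nat.mul) →
    type_of% (@_root_.Cfsg.Agent.OM.On.E6.Nd.mk) →
    type_of% (@_root_.Nat.div) →
    type_of% (@_root_.Nat.ble) →
    type_of% (@_root_.Nat.succ) → T) : T :=
  f (@_root_.List.cons.{0}) (@_root_.List.cons.{0} (Nat)) (@_root_.List.nil.{0}) (@_root_.Prod.mk.{0, 0}) (@_root_.List.cons.{0} (List Nat)) (@_root_.Cfsg.Agent.OM.On.E6.Tb.mk) (@_root_.Nat.mod) (@_root_.Nat.shiftRight) (@_root_.Nat.mul) (@_root_.Cfsg.Agent.OM.On.E6.Nd.mk) (@_root_.Nat.div) (@_root_.Nat.ble) (@_root_.Nat.succ)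

/-!
# OM/On/E6: the tables (helper66; generated)
-/

set_option autoImplicit false
set_option maxRecDepth 100000

namespace Cfsg.Agent.OM.On.E6

open Cfsg Matrix Cfsg.Agent.HZ.L Cfsg.Agent.BZ.TA Cfsg.Agent.OM.Cu

namespace TabK15

/-- the row of a letter -/
def rw1 (t : ℕ) : ℕ := Nat.shiftRight RT (Nat.mul 576 (Nat.mod t 36))

theorem a1_eq (t u : ℕ) : Nat.mod (Nat.shiftRight (rw1 t) (Nat.mul 8 u)) 256 = a1 t u := by
  show (RT >>> (576 * (t % 36))) >>> (8 * u) % 256 = RT >>> (8 * (72 * (t % 36) + u)) % 256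
  rw [← Nat.shiftRight_add, show 576 * (t % 36) + 8 * u = 8 * (72 * (t % 36) + u) by ring]

abbrev K6 : Type := ℕ → ℕ → ℕ → ℕ → ℕ → ℕ → Bool

/-- one letter on six roots -/
def st (r : ℕ) (k : K6) : K6 := (beta% delta% lq261f0d4473 fun _ _ _ _ _ _ t u v _ _ _ _ =>
 fun a b c d e g =>
 k (t (u r (v 8 a)) 256) (t (u r (v 8 b)) 256)
 (t (u r (v 8 c)) 256) (t (u r (v 8 d)) 256)
 (t (u r (v 8 e)) 256) (t (u r (v 8 g)) 256))

theorem st_eq (t : ℕ) (k : K6) (a b c d e g : ℕ) :
    st (rw1 t) k a b c d e g = k (a1 t a) (a1 t b) (a1 t c) (a1 t d) (a1 t e) (a1 t g) := by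
  simp only [st, a1_eq]

theorem dec_succ (f w : ℕ) : dec (f + 1) w = if w = 0 then [] else (w % 64 - 1) :: dec f (w / 64) := rfl

/-- a coded word on six roots -/
def run (f : ℕ) : ℕ → K6 → K6 :=
  Nat.rec (motive := fun _ => ℕ → K6 → K6) (fun _ k => k)
    (fun _ ih w k => Bool.rec (motive := fun _ => K6) (ih (Nat.div w 64) (st (rw1 (Nat.sub (Nat.mod w 64) 1)) k)) k (Nat.beq w 0)) f

theorem run_eq (f : ℕ) : ∀ (w : ℕ) (k : K6) (a b c d e g : ℕ), run f w k a b c d e g =
    k (ac (dec f w) a) (ac (dec f w) b) (ac (dec f w) c) (ac (dec f w) d) (ac (dec f w) e) (ac (dec f w) g) := by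
  induction f with
  | zero => intro w k a b c d e g; rfl
  | succ f ih =>
    intro w k a b c d e g
    show Bool.rec (motive := fun _ => K6) (run f (w / 64) (st (rw1 (w % 64 - 1)) k)) k (Nat.beq w 0) a b c d e g = _
    by_cases h : w = 0
    · subst h; rfl
    · rw [show Nat.beq w 0 = false from Bool.eq_false_iff.2 fun e => h (Nat.eq_of_beq_eq_true e), dec_succ, if_neg h]
      show run f (w / 64) (st (rw1 (w % 64 - 1)) k) a b c d e g = _
      rw [ih, st_eq]
      rfl

def an (x y : Bool) : Bool := Bool.rec false y x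

theorem an_eq (x y : Bool) : an x y = true ↔ x = true ∧ y = true := by cases x <;> simp [an]

/-- equality of six roots -/
def eq6 (a b c d e g : ℕ) : K6 := fun a' b' c' d' e' g' =>
  an (Nat.beq a a') (an (Nat.beq b b') (an (Nat.beq c c') (an (Nat.beq d d') (an (Nat.beq e e') (Nat.beq g g')))))

theorem eq6_spec {p q : ℕ → ℕ} (h : eq6 (p 0) (p 1) (p 2) (p 3) (p 4) (p 5) (q 0) (q 1) (q 2) (q 3) (q 4) (q 5) = true) :
    ∀ i < 6, p i = q i := by
  simp only [eq6, an_eq, Nat.beq_eq] at h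
  obtain ⟨h0, h1, h2, h3, h4, h5⟩ := h
  intro i hi
  interval_cases i <;> assumption

/-- the mask of a list -/
def msk (l : List ℕ) : ℕ := List.rec 0 (fun t _ ih => Nat.lor (Nat.shiftLeft 1 t) ih) l

def tb (m s : ℕ) : Bool := Nat.beq (Nat.mod (Nat.shiftRight m s) 2) 1

theorem tb_eq (m s : ℕ) : tb m s = m.testBit s := by
  show Nat.beq ((m >>> s) % 2) 1 = _
  rw [Nat.testBit_eq_decide_div_mod_eq, Nat.shiftRight_eq_div_pow, Bool.eq_iff_iff, Nat.beq_eq, decide_eq_true_iff]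

theorem tb_msk (l : List ℕ) (s : ℕ) : tb (msk l) s = true ↔ s ∈ l := by
  rw [tb_eq]
  induction l with
  | nil => exact ⟨fun h => absurd h (by simp [msk]), fun h => absurd h (by simp)⟩
  | cons t l ih =>
    show (1 <<< t ||| msk l).testBit s = true ↔ _
    rw [Nat.testBit_or, Bool.or_eq_true, ih, Nat.one_shiftLeft, Nat.testBit_two_pow, decide_eq_true_iff, List.mem_cons, eq_comm]

/-- the letters of a coded word are in the mask -/
def inM (m f : ℕ) : ℕ → Bool :=
  Nat.rec (motive := fun _ => ℕ → Bool) (fun _ => true)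
    (fun _ ih w => Bool.rec (motive := fun _ => Bool) (an (tb m (Nat.sub (Nat.mod w 64) 1)) (ih (Nat.div w 64))) true (Nat.beq w 0)) f

theorem inM_spec (l : List ℕ) (f : ℕ) : ∀ w, inM (msk l) f w = true → ∀ s ∈ dec f w, s ∈ l := by
  induction f with
  | zero => intro w _ s hs; exact absurd hs List.not_mem_nil
  | succ f ih =>
    intro w h s hs
    by_cases h0 : w = 0
    · subst h0; exact absurd hs List.not_mem_nil
    · rw [dec_succ, if_neg h0] at hs
      change Bool.rec (motive := fun _ => Bool) (an (tb (msk l) (w % 64 - 1)) (inM (msk l) f (w / 64))) true (Nat.beq w 0) = true at h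
      rw [show Nat.beq w 0 = false from Bool.eq_false_iff.2 fun e => h0 (Nat.eq_of_beq_eq_true e)] at h
      have h1 := (an_eq _ _).1 h
      rcases List.mem_cons.1 hs with rfl | hs
      · exact (tb_msk _ _).1 h1.1
      · exact ih _ h1.2 s hs

def fa (n : ℕ) (p : ℕ → Bool) : Bool := Nat.rec (motive := fun _ => Bool) true (fun k ih => an (p k) ih) n

theorem fa_spec {p : ℕ → Bool} (n : ℕ) (h : fa n p = true) : ∀ k < n, p k = true := by
  induction n with
  | zero => intro k hk; exact absurd hk (Nat.not_lt_zero _)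
  | succ n ih =>
    have h1 := (an_eq _ _).1 (show an (p n) (fa n p) = true from h)
    intro k hk
    rcases Nat.lt_succ_iff_lt_or_eq.1 hk with h2 | rfl
    · exact ih h1.2 k h2
    · exact h1.1

def la (l : List ℕ) (p : ℕ → Bool) : Bool := List.rec (motive := fun _ => Bool) true (fun k _ ih => an (p k) ih) l

theorem la_spec {p : ℕ → Bool} (l : List ℕ) : la l p = true ↔ ∀ k ∈ l, p k = true := by
  induction l with
  | nil => exact ⟨fun _ k hk => absurd hk (by simp), fun _ => rfl⟩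
  | cons a l ih => exact (an_eq (p a) (la l p)).trans (by rw [ih, List.forall_mem_cons])

def f2 (p : ℕ → ℕ → Bool) (l : List ℕ) : List ℕ → Bool :=
  List.rec (motive := fun _ => List ℕ → Bool) (fun l' => List.rec true (fun _ _ _ => false) l')
    (fun a _ ih l' => List.rec false (fun b l'' _ => an (p a b) (ih l'')) l') l

theorem f2_spec {p : ℕ → ℕ → Bool} {P : ℕ → ℕ → Prop} (hp : ∀ a b, p a b = true → P a b) (l : List ℕ) :
    ∀ l', f2 p l l' = true → List.Forall₂ P l l' := by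
  induction l with
  | nil =>
    intro l' h
    cases l' with
    | nil => exact .nil
    | cons b l' => exact absurd h Bool.false_ne_true
  | cons a l ih =>
    intro l' h
    cases l' with
    | nil => exact absurd h Bool.false_ne_true
    | cons b l' =>
      have h1 := (an_eq _ _).1 (show an (p a b) (f2 p l l') = true from h)
      exact .cons (hp _ _ h1.1) (ih _ h1.2)

/-- evaluation -/
def frc (x : ℕ) (k : ℕ → Bool) : Bool := Nat.rec (motive := fun _ => Bool) (k 0) (fun n _ => k (Nat.succ n)) x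

theorem frc_eq (x : ℕ) (k : ℕ → Bool) : frc x k = k x := by cases x <;> rfl

/-- a list in one number -/
def pk (l : List ℕ) : ℕ := List.rec 0 (fun a _ ih => Nat.add a (Nat.mul 1099511627776 ih)) l

def gt (p k : ℕ) : ℕ := Nat.mod (Nat.shiftRight p (Nat.mul 40 k)) 1099511627776

theorem gt_pk (l : List ℕ) (h : la l (fun a => Nat.ble (Nat.succ a) 1099511627776) = true) (k : ℕ) : gt (pk l) k = l.getD k 0 := by
  rw [la_spec] at h
  show pk l >>> (40 * k) % 1099511627776 = _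
  induction l generalizing k with
  | nil => simp [pk]
  | cons a l ih =>
    have ha : a < 1099511627776 := Nat.le_of_ble_eq_true (h a List.mem_cons_self)
    show (a + 1099511627776 * pk l) >>> (40 * k) % 1099511627776 = _
    cases k with
    | zero => rw [Nat.mul_zero, Nat.shiftRight_zero, Nat.add_mul_mod_self_left, Nat.mod_eq_of_lt ha]; rfl
    | succ k =>
      rw [Nat.mul_succ, Nat.add_comm (40 * k), Nat.shiftRight_add, Nat.shiftRight_eq_div_pow _ 40,
        show 2 ^ 40 = 1099511627776 from rfl, Nat.add_mul_div_left _ _ (by decide), Nat.div_eq_of_lt ha, Nat.zero_add,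
        ih (fun b hb => h b (List.mem_cons_of_mem _ hb))]
      rfl

theorem ac_append (w w' : List ℕ) (u : ℕ) : ac (w ++ w') u = ac w (ac w' u) := List.foldr_append

/-- the rows of a table -/
def rowsB (T : Tb) (zl : List ℕ) : Bool :=
  an (la T.cw fun a => Nat.ble (Nat.succ a) 1099511627776) <| frc (msk zl) fun m => frc (pk T.cw) fun p => frc T.K fun n =>
    fa n fun i => run 12 (gt p i) (fun a b c d e g => frc a fun a => frc b fun b => frc c fun c => frc d fun d => frc e fun e =>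
      frc g fun g => f2 (fun t x => frc (Nat.div x 32) fun y => an (Nat.ble (Nat.succ (Nat.mod x 32)) n) <| an (inM m 12 y) <|
        st (rw1 t) (run 12 y fun a b c d e g => run 12 y (run 12 (gt p (Nat.mod x 32)) (eq6 a b c d e g)) 0 1 2 3 4 5) a b c d e g)
          zl (T.rows.getD i [])) 0 1 2 3 4 5

theorem rowsB_spec {T : Tb} {zl : List ℕ} (h : rowsB T zl = true) :
    ∀ i < T.K, List.Forall₂ (T.ent zl i) zl (T.rows.getD i []) := by
  obtain ⟨h1, h2⟩ := (an_eq _ _).1 h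
  simp only [frc_eq] at h2
  intro i hi
  have h3 := fa_spec _ h2 i hi
  simp only [run_eq, gt_pk _ h1] at h3
  refine f2_spec (fun t x h4 => ?_) _ _ h3
  simp only [an_eq, st_eq, run_eq] at h4
  refine ⟨Nat.le_of_ble_eq_true h4.1, inM_spec _ _ _ h4.2.1, fun j hj => ?_⟩
  rw [ac_append, ac_append]
  exact eq6_spec (p := fun j => ac (dc (x / 32)) (a1 t (ac (T.a i) j))) (q := fun j => ac (T.a (x % 32)) (ac (dc (x / 32)) j))
    h4.2.2 j hj

theorem tb_ok {T : Tb} {zl : List ℕ} (h : rowsB T zl = true)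
    (h' : 0 < T.K ∧ (∀ k < 3, ∀ i < T.K, T.w k i = 0 ∨ Wit k (T.a i) (vx (T.w k i))) ∧ ∀ m < 3, T.CeOk m) : T.Ok zl :=
  ⟨h'.1, rowsB_spec h, h'.2⟩

/-- a closed list -/
def zB (zl : List ℕ) : Bool := frc (msk zl) fun m => la zl fun t => an (Nat.ble (Nat.succ t) 36) <| frc (rw1 t) fun r =>
  fa 72 fun u => Bool.rec true (tb m (Nat.mod (Nat.mod (Nat.shiftRight r (Nat.mul 8 u)) 256) 36)) (tb m (Nat.mod u 36))

theorem zB_spec {zl : List ℕ} (h : zB zl = true) : ∀ t ∈ zl, t < 36 ∧ ∀ u < 72, u % 36 ∈ zl → a1 t u % 36 ∈ zl := by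
  simp only [zB, frc_eq, la_spec, an_eq, a1_eq] at h
  intro t ht
  refine ⟨Nat.le_of_ble_eq_true (h t ht).1, fun u hu h1 => ?_⟩
  have h2 := fa_spec _ (h t ht).2 u hu
  rw [show tb (msk zl) (Nat.mod u 36) = true from (tb_msk _ _).2 h1] at h2
  exact (tb_msk _ _).1 h2

/-- the cosets -/
def ndB (N : Nd) : Bool :=
  an (la N.gw fun a => Nat.ble (Nat.succ a) 1099511627776) <| frc (msk N.zl) fun m => frc (pk N.gw) fun p => frc N.M fun n =>
    fa n fun k => frc (gt p k) fun w => an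
      ((beta% delta% lq261f0d4473 fun f _ j _ _ _ t _ _ _ z A B =>
 f2 (fun i x => an (A (B (t x 256)) n) <| an (inM m 12 (z x 256)) <|
 st (rw1 i) (run 12 w fun a b c d e g => run 12 (gt p (t x 256)) (run 12 (z x 256) (eq6 a b c d e g)) 0 1 2 3 4 5)
 0 1 2 3 4 5) (f 0<|f 1<|f 2<|f 3<|f 4<|f 5<|j) (N.ge.getD k j)))
      (Bool.rec true (decide (∃ T ∈ N.tabs, T.cw.getD 0 0 = w))
        (la N.zl fun t => run 12 w (fun a _ _ _ _ _ => tb m (Nat.mod a 36)) t 0 0 0 0 0))

theorem nd_ok {N : Nd} (h : an (zB N.zl) (ndB N) = true) (h' : N.zl.Nodup ∧ 0 < N.M ∧ N.g 0 = []) : N.Ok := by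
  obtain ⟨h0, h⟩ := (an_eq _ _).1 h
  obtain ⟨h1, h2⟩ := (an_eq _ _).1 h
  simp only [frc_eq] at h2
  have h3 := fun k hk => (an_eq _ _).1 (fa_spec _ h2 k hk)
  simp only [gt_pk _ h1] at h3
  refine ⟨⟨h'.1, zB_spec h0⟩, h'.2.1, h'.2.2, fun k hk i hi => ?_, fun k hk => ?_⟩
  · have h4 : List.Forall₂ (N.ent k) [0, 1, 2, 3, 4, 5] (N.ge.getD k []) := by
      refine f2_spec (fun t x h4 => ?_) _ _ (h3 k hk).1
      simp only [an_eq, st_eq, run_eq] at h4
      refine ⟨Nat.le_of_ble_eq_true h4.1, inM_spec _ _ _ h4.2.1, fun j hj => ?_⟩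
      rw [ac_append, ac_append]
      exact eq6_spec (p := fun j => ac (N.g k) (a1 t j)) (q := fun j => ac (dc (x / 256)) (ac (N.g (x % 256)) j)) h4.2.2 j hj
    generalize N.ge.getD k [] = l at h4
    rcases h4 with _ | ⟨k0, _ | ⟨k1, _ | ⟨k2, _ | ⟨k3, _ | ⟨k4, _ | ⟨k5, _⟩⟩⟩⟩⟩⟩
    interval_cases i <;> assumption
  · have h4 := (h3 k hk).2
    by_cases h5 : ∀ t ∈ N.zl, ac (N.g k) t % 36 ∈ N.zl
    · rw [(la_spec _).2 fun t ht => by rw [run_eq]; exact (tb_msk _ _).2 (h5 t ht)] at h4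
      obtain ⟨T, h6, h7⟩ := of_decide_eq_true h4
      exact Or.inr ⟨T, h6, congrArg dc h7⟩
    · push Not at h5
      exact Or.inl h5

end TabK15

def za : List ℕ := (beta% delta% lq261f0d4473 fun f h j _ _ _ _ _ _ _ _ _ _ =>
 (let l:=(let l:=(let l:=(h 31<|h 32<|h 33<|h 34<|h 35<|j);
 (h 27<|h 28<|h 29<|h 30<|l));
 (let l:=(h 22<|h 23<|h 24<|h 25<|h 26<|l);
 (h 18<|h 19<|h 20<|h 21<|l)));
 (let l:=(let l:=(h 13<|h 14<|h 15<|h 16<|h 17<|l);
 (h 9<|h 10<|h 11<|h 12<|l));
 (let l:=(h 4<|h 5<|h 6<|h 7<|h 8<|l);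
 (f 0<|f 1<|f 2<|f 3<|l)))))

noncomputable def ta0 : Tb :=
  (by
  refine (?fq9001 : (fun (On : (n : Nat) → OfNat Nat n → Nat) (In : (n : Nat) → OfNat Nat n) (Oz : (n : Nat) → OfNat Int n → Int) (Iz : (n : Nat) → OfNat Int n) (Gz : Int → Int) => ((_root_.Cfsg.Agent.OM.On.E6.Tb.mk (pk61o On In (nat_lit 25)) (pk61l (fun i1 => (pk61o On In (pk61d (nat_lit 31) 
    (nat_lit 0x421051a3841882c90831054a10620a4420c41460210828c0420c5900841892010831080210620c0420c41400218b2000421060008420a001083480021066000420c500084188000043140000842000010830000008600000108000000080000000) i1))) (nat_lit 0) (nat_lit 25) List.nil) (pk61l (fun i1 => (pk61l (fun i2 => (pk61o On In (pk61d (nat_lit 35) (Nat.add (Nat.add 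
    (nat_lit 0xa98680007592580000005200000000400032786800050a1d800002a9a0001038760000000030000193d000001a20c0000003400000c9e30000008d800000123000008c4380000046700002324e0000463a000230813800011a070008c70d0000d8e32000232c1380000c8e80002c604e000cae3a00007183400000582700001418e00000e1a0000608138000038c800000040e00000409c000030638000000e800000018e00001648c0000009380000000700000610e00000022c0000000600000000b00000000400000021c0000009180000784300001c49004288609c001b68a380000048900001e58e0000482a4000002450003cb0870000004940000362a40000445480000c8a7000000612000000624000000550000002a700071210e000c8a09c000000050000000a900000040400002a09c0000712380000288700000001200000050c0000000180000008700055220e00000029c07cc0c1380000000800000000e0000000080000003100000502200001f30c000f2c494001b68928000003e600044904a0000010980000441200000892500000c048000001090000001120001a28250000007c80000006100000841200000482500001f24a00001a29400007c12000000186000000048000000494001f241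28003250a500000044c0000005100000000200000a94500061724a0009a0294001c48928000000060000103ca0000000040000003200000804102134804a042886094000002320000118840000230c800004639000231032000011a040008c70c8000d8e3100023544200000c8e4000606108000cae3900007183200000a88400001418800000e190000610320000038c4000000408000008190000018320000000e40000061080000005840000003200000008400000018800000029407cc0c128000000e500000000a0000000100000000080000004100002218600000110c0000023180001188300000088400004638c000002110000110220000007c40000220880000841100000682200000c04400003e08800000111000004822000008044000000688000000c10000038c3000003044000000488000000810000000e30000061060000000880000003100000008300000018600000068c0000008180000688300000024600000000c0000000100000000000001d38200003a5040000742080000d04100000074200002e104000001a08000004010000005c2000000b04000001e0800000261000000482000000e04000001b08000001e1000000382000000c840000018080000d841000000282000000a840000014080000c8410000180820000001040000010080000a841000014082000032504000050a080000c9e1000015282000020104000000b0800000001)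 (Nat.shiftLeft 
    (nat_lit 0x880eb0385100000b05e00111a1480848141880000a88f00001419e04090e0c40000081780f1c287100000041e00001023c000024678111858f100000001e000d96398000000c78000000cf00000011e00000024c0000000280000001301f30304a00000c23c000044730002c38460000008e600000124c00231c4700046288e00061621c0000011b800008cd7000011a0e0008c205c00058c0b8001b38c700000582e0008605dc0011960b80006081700026102e00001419c0000040b8000044670000000ce00000041c0000006b8002271a700000000e00018511c000c94494000b281700000288e0001c611c0000003940000000980000000500000014a00000e23800103cd28002a986502268d0a003cb2a0c0002464580004099d002144f0e0000ea0390002268d800a26885000000048804099c0c0081338280003cb2b00003ce048000308190088f344800000a9100000080a0048c8a0c0000000020101e28900005540480000081c00000008801228289000088d08800003011000007c120003070300000154a0048b102c0001548180113468300000183a0000cae390000920320004098440204c60de036d120bc079654678113c684f00001e5a000002e898000081380003cb08f0007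5904800102623c00204c678003cb0cf00000060800000089800204c4800000a8cf00001411e000f2c240000920320112a684f0004061080000081bc0000183780b28688f000000008000036518000000c200000008f00000019e036d100bc0000004801026206f00000002000000c210002234220000102640000000240428860c4001b68a88113c686f00001e5a2eb240613c001d64f80003cb09101d64f06004098813e03c6141780000c8ae02254d05e04098c0bc089a34180000002ae0007121220000123b8088f344801026206f0000101ca000aa60b80000712880000388e02254d09e000000518000000030000000ee00055222200000003807cc0c1880000000400000015c0000003940000343280014382500000002200000123c000002480000120cf00060e3600000287bc0000908800001228f00001222000121833c0000918800000032e00000062000001833c002448880000002a400000051e0000320b80000008800048a1ef00000040a000020794000060e800000288e00000019e000014494000000928000000050000000200000002b80000000780000000e0000000080000002100000243200000782400000001a0010aa530002140f600c9e40ec00044905802a9903b0000c141480000892c0000110520000225a4000030548001238280004430520000008a4001108148001a20280002070580000123a00000443480040992c00000005000001a220000020760002)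 (nat_lit 8000))) (Nat.shiftLeft (Nat.add 
    (nat_lit 0x1f79d600044e34c000000010000e123dc0000595b8113c686c00000072e03ac860b00000012400000b0f700000059000119e3b00023587600000c8b70008d31d80010260b0000001c40000002b700001c1ee0000123dc000001e40112a686c0007501d8000aa60dc0000016b80000389702240d058000000534000000068000000f700001522e00000005c00224c6b80000e24800000016e0000463b00022343601014382c00000000e03e6060d000172c5a810b0403400071222a000614350001e488a811a4103400001222a03e6860d0001f30aa80000033701a65206a000c100d00024488a8003891088cf1820680000320dc0000788a80c2e403400001d4180008a07b0085d344a8000028970006ca1a8000d944b00000849600000046c0000194aa0000002dc0019389a00000001700001c490000e1c22007cc181400c2e40280005cb16a00089e2d40000652a80000f97500001622c044a1a0a00000788b0000088b500001c214000d8c25400005cba80000033500000060e000ca27a00000008b0000091070000172ce000cb00d8000000838000000b500050308e00003e59c000060e38000e309500055220e0366942200015301380000308700000000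e00000c25400000044800000015000000012000e1c19c0000008500000704a01f303068000c9c4d00855201a80000c9d401958806a0000185300019383a80036683401d6c6050000d8a2559588101a8000003340000181120000006300019201a80024402700000050e03250c1540813442400000289400000041800003e79c0000246380000289500000001803679a0a0084d10240000000c700070e0ce0000002d00000000380000001401f30304e0000002240000203480024202900000002e0000012500000024a800010b1500001622a0000483500000012b0000088d400002422a0164060d40000918a80000032700000062a00102c4540000008a8000002a800000052800002a9a00000000b0000000d40000004160000006ac0014282a80000000b00018512a0005123a0000024740000000e800000002a0000000200000000a00000000700000014e00000e21c000d081380000982700000000c000040a4800205039000000372000023224000000c480000012300046403200000058c000000b980000018300012383200000068c000000d98000001c30001a20320008860640000123c8000001e300000035200000006400001a248000088690002a98720000005e40000005480000000900032787200074e0e400002a9c8000074e900000f9860000193e40000443180000003900000e9c601f30306603e4900cc00008c488000004710000232620000463c800230818800011a1100075906403c70a14400232c1)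 (Nat.shiftLeft 
    (nat_lit 0x92600000004c0000683980000b9330000212a600003a6cc00007cf980000f2130000224e6000dae4cc000054898000071330009180e600003264c001c4c3980000b07300091436600003844c001e3cd98003e81b300001236600002284c0020289980000a1f300064e2660349081cc000080c980000d9530008950e60446980cc0000023980f9240330214430660000309cc081a303980fac787300000001c0000227cc000089288003ee8d100001e162000ea06cc0000012700000a2330000007a2000f0e244001e4c188000003310004d206200090e244000001288000002b20000233e600002a9c8000001e700000a1f300001d42600003e6cc000048588000004730008d4462000fba348000024790000000f2000019222000000048001f40d980000001100000016200000e244000d081880000983100000049c00089e338000091980003a811000001622000003a838000001e70000088ce00079222003648a1c0001e4c1800000c9100004d2060030b0e0c00000008800d0e185000050d19c00040e1c0000000070002480ce0000143dc00001a33809162058000011a0e01e74c060000c0a14008585c180004681100000224a004479a24000007cf70004891100006ce16000102c44000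0914380004898300000224a2044d0e24400006488800010b0e00001621cb2a6840c4002464880004258b10004cc160000d100bc0022692880000033000000061c0010b0bb80000008700000911100050711e0000182c0000089280002a911100050309c00102c438000914378000e308e00000016004471a24400213837811ae486f00000001c0409881bc0616341780000001001b68805e00000e23c071330580122640300000113e6000fa06cc06081c488003248d10008d726200003e84c0012346700000023301a1c3062000f309bc08870c1880000032f00058d05e00109c344001e613880024403100000051c00040e23c0000346700000001300000042600003e7b8000084e78000000ce01e3850e20389a22440616341880046b92f00000711e03e6060c40000000700000000f00000015e030b1a0bc07de746781134902f0000001b000000006000231c4b80046289700061622e0000011dc00008cdb80000f9f70008c206e0000160d0001b38cb8001630340180c20680011960dc0000081a0002c10340000141a80003040d00000346a0000000140000004280000008d001c4081a0000000d40000051280010c0bb0000b281a0003658340000071280000003b00000000580000000c0000001580001840d000) (nat_lit 8000)))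 (nat_lit 16000))) i2))) (Nat.mul (nat_lit 36) i1) (Nat.mul (nat_lit 36) (Nat.succ i1)) List.nil)) (nat_lit 0) (nat_lit 25) List.nil) (pk61l (fun i1 => (pk61l (fun i2 => (pk61o On In (pk61d (nat_lit 48) 
    (nat_lit 0x838485868482838284868482828182838281808584838281808284838281808281808080808182838281808084838281808083868482808081808081808080838281808080818281808080808281808080808081000000000000) (pk61d (nat_lit 4) 
    (nat_lit 0x1000000000000000000000155051000050110000010010000000dabeec398aaab3673421) i2)))) (Nat.mul (nat_lit 25) i1) (Nat.mul (nat_lit 25) (Nat.succ i1)) List.nil)) (nat_lit 0) (nat_lit 3) List.nil) (pk61l (fun i1 => (pk61l (fun i2 => ((fun g2 : Nat → Nat => pk61l (fun i3 => (_root_.Prod.mk (pk61o On In (pk61d (nat_lit 5) 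
    (nat_lit 0x3a707ba0f741ea4a0e31014938c0a101491820f718a47b8a483dc5241ee2920f714831004083dc52020f71481) i3)) (pk61y Oz Iz Gz (pk61d (nat_lit 13) 
    (nat_lit 0x8008012009008c006005004000800457c5100a2287e5e703c012816616714402d001203600b800802204801180081d00780a980e00780ad00580300060060038018008003003005c02e0440058048030018013803002206c0178004030001023811c04801401b00082d0168059818c21a038) i3)))) (g2 i2) (g2 (Nat.succ i2)) List.nil) fun j => (pk61d (nat_lit 7) 
    (nat_lit 0x8f1e3c78d1a3468d1a3468d1a3468d1a3468d1a3468d1a13f7cf9ebd7af5ebd7af5ebd7af5ebd7af5ebd7af5ebd7af5ebd7ad98ae54a92244880d96223870c0e1c300) j))) (Nat.mul (nat_lit 25) i1) (Nat.mul (nat_lit 25) (Nat.succ i1)) List.nil)) (nat_lit 0) (nat_lit 3) List.nil)) : Tb))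
    = ?xq9001 → (Tb)) ?hq9001; (case hq9001 => (set_option maxRecDepth 1000000 in conv => lhs; reduce)); intro _; exact ?xq9001 (@OfNat.ofNat Nat) instOfNatNat (@OfNat.ofNat Int) (@instOfNat) (@Neg.neg Int Int.instNegInt) : Tb)

theorem ta0_ok : ta0.Ok za := TabK15.tb_ok (by decide +kernel) (by decide +kernel)

noncomputable def na : Nd := (beta% delta% lq261f0d4473 fun f _ j _ _ _ _ _ _ y _ _ _ =>
 (y za 1 (f 0<|j)
 (f (f 256<|f 512<|f 768<|f 1024<|f 1280<|f 1536<|j)<|j)
 (f ta0<|j)))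

theorem na_ok : na.Ok := TabK15.nd_ok (by decide +kernel) (by decide +kernel)

def zb : List ℕ := (beta% delta% lq261f0d4473 fun f _ j _ _ _ _ _ _ _ _ _ _ =>
 (f 0<|f 2<|f 3<|f 4<|f 5<|f 6<|f 7<|f 8<|f 11<|f 12<|f 16<|f 30<|f 32<|f 33<|f 34<|f 35<|j))

noncomputable def tb0 : Tb :=
  (by
  refine (?fq9002 : (fun (On : (n : Nat) → OfNat Nat n → Nat) (In : (n : Nat) → OfNat Nat n) (Oz : (n : Nat) → OfNat Int n → Int) (Iz : (n : Nat) → OfNat Int n) (Gz : Int → Int) => ((_root_.Cfsg.Agent.OM.On.E6.Tb.mk (pk61o On In (nat_lit 22)) (pk61l (fun i1 => (pk61o On In (pk61d (nat_lit 31) 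
    (nat_lit 0x218828cf8310519f021888be0431059008620a3000c445f001882c80031051800218b2000431110008620a0000c5900001888800031050000218a000043100000062800000c4000000860000000c000000080000000) i1))) (nat_lit 0) (nat_lit 22) List.nil) (pk61l (fun i1 => (pk61l (fun i2 => (pk61o On In (pk61d (nat_lit 23) (Nat.add 
    (nat_lit 0x2202234c000694460720001a710c1c5f30490120d10007e20422c4088390000140008de0011b8030380068cf00001c02234000067c4606f0001a110c1b9f30478120ce0007dc0422b8088378000150009180181d40306a804095000018000fb00346a8000d58c81586081d62343a80f9b58cc0eb08e332234c600001000001604635408c3a8088d50241aa00035408cd64660750001db18c1d4000068004750007d80422b221c3600000f0231aa0011d407c5a8003f500002a0006b0000658040ac00019800042c0303600000b00d19601822c01c3600000e0009120181d00306a004094000012000fa40346a0000d48c81526081d22343a00f9b48cc0e908e326234c480001300001004635008c3a0088d40241a800035008cd4c660740001d518c1d0000050004740007d20422a621c348000120231a80011d007c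5a0003f40000280006a4000640040a90001920004200303480000800d19001822001c3480001100000ef981c807cc94430b20221a4046448000394640b20001e40428c80000942887201f30e0002c80886380000a00046603e6c807c590003f2000026000018030388000d100718e6081c4034388001b100812200061c0204380000900002400124409088c840910241a2000344000d30040910001ce0004440000380001100000c00029801c3300000800000af981bc07cc7c430af02219e04643c00037c640af0001de0428bc00007c2886f01f30a0002bc0886280000d00046003e6bc07c578003ef000020000010030370000ce00718a6081b8034370001ae00811c0006140204280000c00001e0012380908748408e02419c000338000d200408e0001ca0004380000280000e00000800029001c3200000b00001b2181b0090c64838cc90d21801a430000358038cc0001d60006300000580606c0000060002ac034418000050007d803e6ac07c558003eb000918000030000d580022b0002460222ac000558068cb00001600000c000418000040000152181a4090c4c838c990d21201a424000340038c90001d0000624000040060690000040002a0034410000070007d203e6a007c540003e8000912000024000d40002280002440222a0000540068c80000100000080004100000601f30e042198002130003e700084e00061c014330002270000cc0006180005300606600000e0000180000080000201f30a042190002120003e500084a000614014320002250000c80006100005200606400000a0000100000000000302218600110c002318118830231c600e30c0007180308300010600030c000d180010300d10600048c00001800000022184001108002310118820231c400e30800071003082000104000308000d100010200d10400048800001000001)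 (Nat.shiftLeft 
    (nat_lit 0x8e40011c4030398068d20) (nat_lit 8000))) i2))) (Nat.mul (nat_lit 16) i1) (Nat.mul (nat_lit 16) (Nat.succ i1)) List.nil)) (nat_lit 0) (nat_lit 22) List.nil) (pk61l (fun i1 => (pk61l (fun i2 => (pk61o On In (pk61d (nat_lit 48) 
    (nat_lit 0x8684888c8a85808282828281808281838281808182838482808082848683808080818281808080818080808080808281808080808081000000000000) (pk61d (nat_lit 4) 
    (nat_lit 0x77300300030030030300000186911148611145114121) i2)))) (Nat.mul (nat_lit 22) i1) (Nat.mul (nat_lit 22) (Nat.succ i1)) List.nil)) (nat_lit 0) (nat_lit 3) List.nil) (pk61l (fun i1 => (pk61l (fun i2 => ((fun g2 : Nat → Nat => pk61l (fun i3 => (_root_.Prod.mk (pk61o On In (pk61d (nat_lit 5) 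
    (nat_lit 0x116b16520c0d62ca41814941cc20a92839841525073082a4a0e6105ac594830358b290606b1651814941c4152507105ac594606b1651814941c41) i3)) (pk61y Oz Iz Gz (pk61d (nat_lit 9) 
    (nat_lit 0x22d17c9059100140c1247b60220f02818b45f241644005030491ed80883c0a061b47db0ea3f8180a060f8600a20030146d1f6c3a8fe06028183e18028800c0514b814e2a0301452e0538a80c05028802e06028180a200b8180a060f27cf01d0f0083c9f3c0743c02) i3)))) (g2 i2) (g2 (Nat.succ i2)) List.nil) fun j => (pk61d (nat_lit 7) 
    (nat_lit 0x176eddbb76eddbb76eddbb76eddbb76eddbb76eddb972e5cb972e5cb972e5cb972e5cb972e5cb972e5cb95674e8f01cb964ad5a43c78c182430300) j))) (Nat.mul (nat_lit 22) i1) (Nat.mul (nat_lit 22) (Nat.succ i1)) List.nil)) (nat_lit 0) (nat_lit 3) List.nil)) : Tb))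
    = ?xq9002 → (Tb)) ?hq9002; (case hq9002 => (set_option maxRecDepth 1000000 in conv => lhs; reduce)); intro _; exact ?xq9002 (@OfNat.ofNat Nat) instOfNatNat (@OfNat.ofNat Int) (@instOfNat) (@Neg.neg Int Int.instNegInt) : Tb)

theorem tb0_ok : tb0.Ok zb := TabK15.tb_ok (by decide +kernel) (by decide +kernel)

noncomputable def nb : Nd := (beta% delta% lq261f0d4473 fun f h j _ q _ _ _ _ y _ _ _ =>
 (y zb 36 (let l:=(let l:=(let l:=(h 985<|h 32<|h 157<|h 669<|h 925<|j);
 (h 155<|h 30<|h 154<|h 29<|l));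
 (let l:=(h 27<|h 28<|h 26<|h 151<|h 665<|l);
 (h 661<|h 153<|h 152<|h 660<|l)));
 (let l:=(let l:=(h 148<|h 25<|h 24<|h 22<|h 23<|l);
 (h 20<|h 19<|h 18<|h 149<|l));
 (let l:=(h 16<|h 15<|h 14<|h 144<|h 21<|l);
 (f 0<|f 2<|f 11<|f 10<|l))))
 (let l:=(let l:=(let l:=(q (f 1311<|f 2335<|f 799<|f 1050<|f 287<|f 8735<|j)<|
 q (f 286<|f 8736<|f 800<|f 1052<|f 1312<|f 1568<|j)<|
 q (f 8737<|f 30<|f 802<|f 1053<|f 1313<|f 1569<|j)<|
 q (f 8994<|f 802<|f 801<|f 4386<|f 1314<|f 1571<|j)<|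
 q (f 9251<|f 2083<|f 803<|f 3363<|f 1315<|f 1570<|j)<|j);
 (q (f 4379<|f 22<|f 8475<|f 1051<|f 1300<|f 1555<|j)<|
 q (f 280<|f 8476<|f 790<|f 1056<|f 1303<|f 1564<|j)<|
 q (f 8477<|f 24<|f 4381<|f 1057<|f 1305<|f 1565<|j)<|
 q (f 288<|f 33<|f 798<|f 1048<|f 1310<|f 1566<|j)<|
 l));
 (let l:=(q (f 272<|f 27<|f 796<|f 1046<|f 1295<|f 1550<|j)<|
 q (f 273<|f 7959<|f 783<|f 1047<|f 1308<|f 1559<|j)<|
 q (f 284<|f 29<|f 784<|f 1054<|f 1297<|f 1560<|j)<|
 q (f 7961<|f 17<|f 3097<|f 1049<|f 1309<|f 1561<|j)<|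
 q (f 1818<|f 794<|f 787<|f 1055<|f 1298<|f 8474<|j)<|
 l);
 (q (f 1042<|f 786<|f 780<|f 274<|f 1306<|f 7954<|j)<|
 q (f 3347<|f 14<|f 794<|f 1043<|f 1292<|f 1563<|j)<|
 q (f 3092<|f 15<|f 7956<|f 1037<|f 1307<|f 1548<|j)<|
 q (f 1557<|f 789<|f 781<|f 7957<|f 1301<|f 277<|j)<|
 l)));
 (let l:=(let l:=(q (f 2061<|f 9<|f 789<|f 1044<|f 1293<|f 1543<|j)<|
 q (f 266<|f 19<|f 782<|f 1038<|f 1288<|f 1558<|j)<|
 q (f 267<|f 20<|f 791<|f 1033<|f 1302<|f 1544<|j)<|
 q (f 278<|f 4368<|f 792<|f 1040<|f 1291<|f 1546<|j)<|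
 q (f 279<|f 25<|f 779<|f 1041<|f 1304<|f 1553<|j)<|
 l);
 (q (f 262<|f 13<|f 777<|f 1039<|f 1289<|f 1540<|j)<|
 q (f 270<|f 3338<|f 778<|f 1034<|f 1285<|f 1552<|j)<|
 q (f 271<|f 3083<|f 785<|f 1030<|f 1296<|f 1541<|j)<|
 q (f 2316<|f 8<|f 786<|f 1031<|f 1299<|f 1556<|j)<|
 l));
 (let l:=(q (f 259<|f 7<|f 770<|f 1032<|f 1284<|f 1545<|j)<|
 q (f 264<|f 2309<|f 773<|f 1027<|f 1290<|f 1547<|j)<|
 q (f 265<|f 2054<|f 774<|f 1035<|f 1286<|f 1539<|j)<|
 q (f 775<|f 4<|f 263<|f 1036<|f 1287<|f 1549<|j)<|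
 q (f 261<|f 12<|f 776<|f 1028<|f 1294<|f 1551<|j)<|
 l);
 (f (f 256<|f 1<|f 768<|f 1024<|f 1280<|f 1536<|j)<|
 f (f 258<|f 0<|f 771<|f 1025<|f 1281<|f 1537<|j)<|
 f (f 257<|f 258<|f 772<|f 1026<|f 1282<|f 1538<|j)<|
 f (f 260<|f 771<|f 769<|f 1029<|f 1283<|f 1542<|j)<|
 l))))
 (f tb0<|j)))

theorem nb_ok : nb.Ok := TabK15.nd_ok (by decide +kernel) (by decide +kernel)

def zc : List ℕ := [0, 1, 3, 4, 5, 6, 10, 34, 35]

noncomputable def tc0 : Tb :=
  (by
  refine (?fq9003 : (fun (On : (n : Nat) → OfNat Nat n → Nat) (In : (n : Nat) → OfNat Nat n) (Oz : (n : Nat) → OfNat Int n → Int) (Iz : (n : Nat) → OfNat Int n) (Gz : Int → Int) => ((_root_.Cfsg.Agent.OM.On.E6.Tb.mk (pk61o On In (nat_lit 27)) (pk61l (fun i1 => (pk61o On In (pk61d (nat_lit 31) 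
    (nat_lit 0x10841468c08828d1810841a30210828c0041468c00220d18004414600084346001084180021082800041a30000828c0000468c0000883000011050000210c0000421000000d1800001060000020a000001180000022000000420000000c00000010000000080000000) i1))) (nat_lit 0) (nat_lit 27) List.nil) (pk61l (fun i1 => (pk61l (fun i2 => (pk61o On In (pk61d (nat_lit 11) 
    (nat_lit 0x125c0b9791f11dc0c0b80321664a0140743d63a01516a0680b4920245d44d47203404c0a8551b4068ba0f2022048590140a923c078591e11bc080b02f20664680d0702663681901c060080d90320dc7680c01a2b40b80f91602cb70b88d63e00c00e09c3600c16d12e0280b80b01a1363bc972d83a80b80a154030264880101544b46802c024ba8151ac0582a0e800e020541740292180303316b1987a8150260246a8150642500281400c048044749280c47281400a294088071a604cb30b20083c80900608d1ca491651220480880400a1164180309c2c2318f00205b8070d00201344780201e00cb680d8df23c260e201e0085116c0183380702b15a0047680d01600e36c8d0542300680c0020280146b9165845500b1d402800841192024230a80003a00416600d1a24404510e020038002ca01633486048294030e500a01000463906104510031c4008b0801)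 i2))) (Nat.mul (nat_lit 9) i1) (Nat.mul (nat_lit 9) (Nat.succ i1)) List.nil)) (nat_lit 0) (nat_lit 27) List.nil) (pk61l (fun i1 => (pk61l (fun i2 => (pk61o On In (pk61d (nat_lit 48) 
    (nat_lit 0x838284868482808281808080808182838281808083868482808081808080808080838281808080808281808080808081000000000000) (pk61d (nat_lit 4) 
    (nat_lit 0x131136411164604116040010000027812247611222451112231121) i2)))) (Nat.mul (nat_lit 27) i1) (Nat.mul (nat_lit 27) (Nat.succ i1)) List.nil)) (nat_lit 0) (nat_lit 3) List.nil) (pk61l (fun i1 => (pk61l (fun i2 => ((fun g2 : Nat → Nat => pk61l (fun i3 => (_root_.Prod.mk (pk61o On In (pk61d (nat_lit 5) 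
    (nat_lit 0x173148050c2a18946290062900450c41) i3)) (pk61y Oz Iz Gz (pk61d (nat_lit 3) 
    (nat_lit 0x2d8948a456a55c52652) i3)))) (g2 i2) (g2 (Nat.succ i2)) List.nil) fun j => (pk61d (nat_lit 5) 
    (nat_lit 0x339ce739ce739ce739ce739ce739ce739ce718c6318c6318c6318c6318c6318c6318c6318c6318c6318c6294a52918b9ad49480) j))) (Nat.mul (nat_lit 27) i1) (Nat.mul (nat_lit 27) (Nat.succ i1)) List.nil)) (nat_lit 0) (nat_lit 3) List.nil)) : Tb))
    = ?xq9003 → (Tb)) ?hq9003; (case hq9003 => (set_option maxRecDepth 1000000 in conv => lhs; reduce)); intro _; exact ?xq9003 (@OfNat.ofNat Nat) instOfNatNat (@OfNat.ofNat Int) (@instOfNat) (@Neg.neg Int Int.instNegInt) : Tb)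

theorem tc0_ok : tc0.Ok zc := TabK15.tb_ok (by decide +kernel) (by decide +kernel)

noncomputable def tc1 : Tb :=
  (by
  refine (?fq9004 : (fun (On : (n : Nat) → OfNat Nat n → Nat) (In : (n : Nat) → OfNat Nat n) (Oz : (n : Nat) → OfNat Int n → Int) (Iz : (n : Nat) → OfNat Int n) (Gz : Int → Int) => ((_root_.Cfsg.Agent.OM.On.E6.Tb.mk (pk61o On In (nat_lit 9)) (pk61l (fun i1 => (pk61o On In (pk61d (nat_lit 31) 
    (nat_lit 0x4219a7e08431c8b00434d59008632cc0108a3550019ecc80031926c0021a6a800033d9) i1))) (nat_lit 0) (nat_lit 9) List.nil) (pk61l (fun i1 => (pk61l (fun i2 => (pk61o On In (pk61d (nat_lit 21) 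
    (nat_lit 0x400062016398001cc00464b10130001180000c02046000620011900b1ca000e5000025880940008a000050102280000400182028280007400118400046000480000400000c00182004610141380039c00002000220002380001c000040000800063816384001c200007b10108001040000202041000000003000408c810260023000009ac704c058e600003000300008c002045408128000000004b6382502c728000140000c000c5014120003900000a0002000022000010000000000300061008105020420000200010d8e0840b1c200001) i2))) (Nat.mul (nat_lit 9) i1) (Nat.mul (nat_lit 9) (Nat.succ i1)) List.nil)) (nat_lit 0) (nat_lit 9) List.nil) (pk61l (fun i1 => (pk61l (fun i2 => (pk61o On In (pk61d (nat_lit 48) 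
    (nat_lit 0x828182838281808182807e7f808081808181808081807f80000000000000) (pk61d (nat_lit 3) 
    (nat_lit 0x120100000dc259) i2)))) (Nat.mul (nat_lit 9) i1) (Nat.mul (nat_lit 9) (Nat.succ i1)) List.nil)) (nat_lit 0) (nat_lit 3) List.nil) (pk61l (fun i1 => (pk61l (fun i2 => ((fun g2 : Nat → Nat => pk61l (fun i3 => (_root_.Prod.mk (pk61o On In (pk61d (nat_lit 3) 
    (nat_lit 0x2cad168d82c8d1) i3)) (pk61y Oz Iz Gz (pk61d (nat_lit 4) 
    (nat_lit 0x14222526b31441213c) i3)))) (g2 i2) (g2 (Nat.succ i2)) List.nil) fun j => (pk61d (nat_lit 5) 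
    (nat_lit 0x94a5294a5294a0f7bdef7bdef7b12931060) j))) (Nat.mul (nat_lit 9) i1) (Nat.mul (nat_lit 9) (Nat.succ i1)) List.nil)) (nat_lit 0) (nat_lit 3) List.nil)) : Tb))
    = ?xq9004 → (Tb)) ?hq9004; (case hq9004 => (set_option maxRecDepth 1000000 in conv => lhs; reduce)); intro _; exact ?xq9004 (@OfNat.ofNat Nat) instOfNatNat (@OfNat.ofNat Int) (@instOfNat) (@Neg.neg Int Int.instNegInt) : Tb)

theorem tc1_ok : tc1.Ok zc := TabK15.tb_ok (by decide +kernel) (by decide +kernel)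

def tc2 : Tb := (beta% delta% lq261f0d4473 fun f _ j o _ s _ _ _ _ _ _ _ =>
 (s 3 (f 836827<|f 17614233<|f 1109988505<|j)
 (f (f 1<|f 4610209<|f 129<|f 302915649<|f 33<|f 295053441<|f 4732993<|f 302911521<|f 295053345<|j)<|
 f (f 0<|f 2<|f 128<|f 162<|f 32<|f 73794<|f 794658<|f 71842<|f 66<|j)<|
 f (f 4732993<|f 1<|f 295057537<|f 161<|f 303446049<|f 73793<|f 4610209<|f 71841<|f 65<|j)<|j)
 (f (f 141289416917377<|f 142388928610945<|f 0<|j)<|
 f (f 141289400139904<|f 141298006786689<|f 0<|j)<|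
 f (f 0<|f 0<|f 141289400074369<|j)<|j)
 (f (f j<|f j<|f j<|j)<|
 f (f j<|f j<|f j<|j)<|
 f (f j<|f j<|f (f (o 1 1)<|j)<|j)<|j)))

theorem tc2_ok : tc2.Ok zc := TabK15.tb_ok (by decide +kernel) (by decide +kernel)

def tc3 : Tb := (beta% delta% lq261f0d4473 fun f _ j o _ s _ _ _ _ _ _ _ =>
 (s 3 (f 845147<|f 17626527<|f 1109697628<|j)
 (f (f 1<|f 4741249<|f 50991137<|f 303439905<|f 295055489<|f 33<|f 796737<|f 1121<|f 302786625<|j)<|
 f (f 0<|f 2<|f 73858<|f 66<|f 10306<|f 32<|f 4601890<|f 1120<|f 1154<|j)<|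
 f (f 796737<|f 1<|f 73857<|f 65<|f 10305<|f 93071393<|f 4741249<|f 303444097<|f 1153<|j)<|j)
 (f (f 141293711884672<|f 142388928544896<|f 0<|j)<|
 f (f 141289400139904<|f 141293678263935<|f 0<|j)<|
 f (f 0<|f 0<|f 141289400074369<|j)<|j)
 (f (f j<|f j<|f j<|j)<|
 f (f j<|f j<|f j<|j)<|
 f (f j<|f j<|f (f (o 1 1)<|j)<|j)<|j)))

theorem tc3_ok : tc3.Ok zc := TabK15.tb_ok (by decide +kernel) (by decide +kernel)

noncomputable def tc4 : Tb :=
  (by
  refine (?fq9005 : (fun (On : (n : Nat) → OfNat Nat n → Nat) (In : (n : Nat) → OfNat Nat n) (Oz : (n : Nat) → OfNat Int n → Int) (Iz : (n : Nat) → OfNat Int n) (Gz : Int → Int) => ((_root_.Cfsg.Agent.OM.On.E6.Tb.mk (pk61o On In (nat_lit 9)) (pk61l (fun i1 => (pk61o On In (pk61d (nat_lit 31) 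
    (nat_lit 0x4415465a8620a4420c414884088a2ab810c421f0018843e00141760002198f8000331f) i1))) (nat_lit 0) (nat_lit 9) List.nil) (pk61l (fun i1 => (pk61l (fun i2 => (pk61o On In (pk61d (nat_lit 23) 
    (nat_lit 0xa50008ca00059808c72c8388500000a04829400003000046000148001190000230118e49071080000100905200016600000c00028c002318000280231c720e20c000018120a300001000001c000540004680002c600c2200004100000800000400000c000218000a70008ce00010c0184380008100000e000004000b180000300014c001198000128030860001000000180000000000500000918e2164144280016002414a00021408c7280000500000000010231c42482884000080048290000420118e400000800058000000463883905106000088090518000830231c600000c00001000001) i2))) (Nat.mul (nat_lit 9) i1) (Nat.mul (nat_lit 9) (Nat.succ i1)) List.nil)) (nat_lit 0) (nat_lit 9) List.nil) (pk61l (fun i1 => (pk61l (fun i2 => (pk61o On In (pk61d (nat_lit 48) 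
    (nat_lit 0x838485868482808284838281808281838281808080808081000000000000) (pk61d (nat_lit 3) 
    (nat_lit 0x124000000642d9) i2)))) (Nat.mul (nat_lit 9) i1) (Nat.mul (nat_lit 9) (Nat.succ i1)) List.nil)) (nat_lit 0) (nat_lit 3) List.nil) (pk61l (fun i1 => (pk61l (fun i2 => ((fun g2 : Nat → Nat => pk61l (fun i3 => (_root_.Prod.mk (pk61o On In (pk61d (nat_lit 3) 
    (nat_lit 0xb1a2d1b0582c0d1) i3)) (pk61y Oz Iz Gz (pk61d (nat_lit 4) 
    (nat_lit 0x22b62522314623221c31) i3)))) (g2 i2) (g2 (Nat.succ i2)) List.nil) fun j => (pk61d (nat_lit 5) 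
    (nat_lit 0xa5294a5294a527294a5294a52949ec49860) j))) (Nat.mul (nat_lit 9) i1) (Nat.mul (nat_lit 9) (Nat.succ i1)) List.nil)) (nat_lit 0) (nat_lit 3) List.nil)) : Tb))
    = ?xq9005 → (Tb)) ?hq9005; (case hq9005 => (set_option maxRecDepth 1000000 in conv => lhs; reduce)); intro _; exact ?xq9005 (@OfNat.ofNat Nat) instOfNatNat (@OfNat.ofNat Int) (@instOfNat) (@Neg.neg Int Int.instNegInt) : Tb)

theorem tc4_ok : tc4.Ok zc := TabK15.tb_ok (by decide +kernel) (by decide +kernel)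

noncomputable def tc5 : Tb :=
  (by
  refine (?fq9006 : (fun (On : (n : Nat) → OfNat Nat n → Nat) (In : (n : Nat) → OfNat Nat n) (Oz : (n : Nat) → OfNat Int n → Int) (Iz : (n : Nat) → OfNat Int n) (Gz : Int → Int) => ((_root_.Cfsg.Agent.OM.On.E6.Tb.mk (pk61o On In (nat_lit 9)) (pk61l (fun i1 => (pk61o On In (pk61d (nat_lit 31) 
    (nat_lit 0x421136df8421ec4204315480086230f0108a5220018a73a003112680021a900000339d) i1))) (nat_lit 0) (nat_lit 9) List.nil) (pk61l (fun i1 => (pk61l (fun i2 => (pk61o On In (pk61d (nat_lit 23) 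
    (nat_lit 0x1630260008cc04659800042000046000008000390000030030462c604a00119408cb28000e400008a0002100000200000500608a00008c00234012028000102000120000008000e100001000000c0001100046702404e0003840002380008100000200001c000011630210008c20465840004380004100001000001c0000080304100004c304098018230000808cb04c0000000007001196600000c000094608128030450001c1196094000400000000232ca000014000100004640240480002140002200000600000a0000100000000002118204200c1040004146582100000600000808cb0800001) i2))) (Nat.mul (nat_lit 9) i1) (Nat.mul (nat_lit 9) (Nat.succ i1)) List.nil)) (nat_lit 0) (nat_lit 9) List.nil) (pk61l (fun i1 => (pk61l (fun i2 => (pk61o On In (pk61d (nat_lit 48) 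
    (nat_lit 0x80818283848280818283817f808180808080808082838482000000000000) (pk61d (nat_lit 3) 
    (nat_lit 0x1b018000122909) i2)))) (Nat.mul (nat_lit 9) i1) (Nat.mul (nat_lit 9) (Nat.succ i1)) List.nil)) (nat_lit 0) (nat_lit 3) List.nil) (pk61l (fun i1 => (pk61l (fun i2 => ((fun g2 : Nat → Nat => pk61l (fun i3 => (_root_.Prod.mk (pk61o On In (pk61d (nat_lit 3) 
    (nat_lit 0x2cad168d82c8d1) i3)) (pk61y Oz Iz Gz (pk61d (nat_lit 4) 
    (nat_lit 0x14222526b31441213c) i3)))) (g2 i2) (g2 (Nat.succ i2)) List.nil) fun j => (pk61d (nat_lit 5) 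
    (nat_lit 0x94a5294a5294a0f7bdef7bdef7b12931060) j))) (Nat.mul (nat_lit 9) i1) (Nat.mul (nat_lit 9) (Nat.succ i1)) List.nil)) (nat_lit 0) (nat_lit 3) List.nil)) : Tb))
    = ?xq9006 → (Tb)) ?hq9006; (case hq9006 => (set_option maxRecDepth 1000000 in conv => lhs; reduce)); intro _; exact ?xq9006 (@OfNat.ofNat Nat) instOfNatNat (@OfNat.ofNat Int) (@instOfNat) (@Neg.neg Int Int.instNegInt) : Tb)

theorem tc5_ok : tc5.Ok zc := TabK15.tb_ok (by decide +kernel) (by decide +kernel)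

noncomputable def nc : Nd := (beta% delta% lq261f0d4473 fun f h j _ q _ _ _ _ y _ _ _ =>
 (y zc 240 (let l:=(let l:=(let l:=(let l:=(let l:=(let l:=(h 925<|h 544<|h 13087<|h 13213<|j);
 (h 42145<|h 799<|h 545<|h 1502<|l));
 (h 38048<|h 669<|h 1178<|h 224<|h 798<|h 541<|h 34<|l));
 (let l:=(let l:=(h 543<|h 926<|h 1504<|h 1505<|l);
 (h 845147<|h 607<|h 1180<|h 225<|l));
 (h 221<|h 794<|h 33<|h 32<|h 42146<|h 58594<|h 13086<|l)));
 (let l:=(let l:=(let l:=(h 986<|h 1431<|h 606<|h 1116<|l);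
 (h 38050<|h 13214<|h 50530<|h 836827<|l));
 (h 223<|h 670<|h 924<|h 1306<|h 1696<|h 1506<|h 1825<|l));
 (let l:=(let l:=(h 58715<|h 988<|h 1496<|h 994<|l);
 (h 42326<|h 13088<|h 33632<|h 13082<|l));
 (h 860<|h 608<|h 602<|h 1111<|h 31<|h 30<|h 29<|l))));
 (let l:=(let l:=(let l:=(let l:=(h 33825<|h 50395<|h 1239<|h 50077<|l);
 (h 1826<|h 13217<|h 13212<|h 38104<|l));
 (h 1378<|h 668<|h 673<|h 1050<|h 1303<|h 1698<|h 1186<|l));
 (let l:=(let l:=(h 33948<|h 1367<|h 33624<|h 1250<|l);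
 (h 33629<|h 42331<|h 34139<|h 33814<|l));
 (h 605<|h 28<|h 222<|h 26<|h 13408<|h 800<|h 13085<|l)));
 (let l:=(let l:=(let l:=(h 58321<|h 33618<|h 864<|h 855<|l);
 (h 13524<|h 33823<|h 38107<|h 34011<|l));
 (h 1047<|h 1057<|h 1366<|h 1954<|h 1240<|h 13215<|h 929<|l));
 (let l:=(let l:=(h 1249<|h 1177<|h 1109<|h 671<|l);
 (h 33435<|h 33810<|h 50132<|h 33371<|l));
 (h 218<|h 1120<|h 13265<|h 797<|h 542<|h 13659<|h 33750<|l)))));
 (let l:=(let l:=(let l:=(let l:=(let l:=(h 861<|h 989<|h 220<|h 23<|l);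
 (h 33752<|h 42066<|h 33366<|h 862<|l));
 (h 1046<|h 987<|h 856<|h 927<|h 13268<|h 1236<|h 13531<|l));
 (let l:=(let l:=(h 793<|h 991<|h 1055<|h 1054<|l);
 (h 33432<|h 37784<|h 13083<|h 921<|l));
 (h 540<|h 538<|h 1371<|h 13270<|h 13273<|h 1179<|h 13211<|l)));
 (let l:=(let l:=(let l:=(h 666<|h 1041<|h 977<|h 850<|l);
 (h 858<|h 787<|h 604<|h 215<|l));
 (h 603<|h 1042<|h 980<|h 852<|h 13272<|h 1243<|h 13078<|l));
 (let l:=(let l:=(h 537<|h 917<|h 784<|h 667<|l);
 (h 985<|h 923<|h 13208<|h 795<|l));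
 (h 657<|h 598<|h 796<|h 535<|h 846<|h 1051<|h 982<|l))));
 (let l:=(let l:=(let l:=(let l:=(h 790<|h 531<|h 599<|h 663<|l);
 (h 664<|h 596<|h 984<|h 859<|l));
 (h 1048<|h 665<|h 920<|h 601<|h 539<|h 533<|h 219<|l));
 (let l:=(let l:=(h 590<|h 854<|h 662<|h 593<|l);
 (h 534<|h 527<|h 214<|h 652<|l));
 (h 217<|h 536<|h 27<|h 216<|h 660<|h 600<|h 595<|l)));
 (let l:=(let l:=(let l:=(h 594<|h 209<|h 658<|h 661<|l);
 (h 211<|h 530<|h 22<|h 210<|l));
 (h 206<|h 17<|h 204<|h 213<|h 25<|h 24<|h 212<|l));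
 (let l:=(let l:=(h 20<|h 207<|h 19<|h 18<|l);
 (h 14<|h 13<|h 12<|h 21<|l));
 (f 0<|f 3<|f 10<|f 9<|f 8<|f 16<|f 15<|l))))))
 (let l:=(let l:=(let l:=(let l:=(let l:=(let l:=(q (f 9452<|f 742<|f 239<|f 1251<|f 1516<|f 1762<|j)<|
 q (f 486<|f 9453<|f 1773<|f 1253<|f 1517<|f 1764<|j)<|
 q (f 494<|f 3054<|f 233<|f 1774<|f 9454<|f 1262<|j)<|
 q (f 9455<|f 1775<|f 236<|f 2031<|f 1519<|f 751<|j)<|j);
 (q (f 1512<|f 728<|f 9448<|f 1768<|f 4294615<|f 1238<|j)<|
 q (f 489<|f 731<|f 238<|f 1245<|f 9449<|f 1754<|j)<|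
 q (f 490<|f 734<|f 1770<|f 9450<|f 1501<|f 1756<|j)<|
 q (f 1515<|f 736<|f 9451<|f 1247<|f 491<|f 1771<|j)<|
 l));
 (q (f 1083084<|f 1761<|f 9441<|f 1227<|f 481<|f 714<|j)<|
 q (f 9186<|f 722<|f 738<|f 1230<|f 1506<|f 1772<|j)<|
 q (f 9443<|f 723<|f 1507<|f 1260<|f 1487<|f 1742<|j)<|
 q (f 466<|f 9188<|f 213<|f 1232<|f 1508<|f 1773<|j)<|
 q (f 467<|f 9445<|f 216<|f 1261<|f 1489<|f 1744<|j)<|
 q (f 493<|f 748<|f 1766<|f 1235<|f 1510<|f 1746<|j)<|
 q (f 487<|f 725<|f 9191<|f 1236<|f 1511<|f 1767<|j)<|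
 l));
 (let l:=(let l:=(q (f 477<|f 709<|f 1757<|f 1257<|f 1514<|f 1731<|j)<|
 q (f 454<|f 746<|f 203<|f 9438<|f 1477<|f 1732<|j)<|
 q (f 2015<|f 712<|f 41942<|f 1259<|f 1479<|f 1759<|j)<|
 q (f 457<|f 747<|f 74698<|f 1224<|f 3040<|f 1760<|j)<|
 l);
 (q (f 2009<|f 1497<|f 191<|f 9433<|f 1753<|f 729<|j)<|
 q (f 474<|f 704<|f 1242<|f 1219<|f 9178<|f 1769<|j)<|
 q (f 449<|f 745<|f 475<|f 1221<|f 9435<|f 1728<|j)<|
 q (f 476<|f 708<|f 212<|f 9180<|f 1475<|f 1770<|j)<|
 l));
 (q (f 484<|f 738<|f 186<|f 1206<|f 1490<|f 1766<|j)<|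
 q (f 485<|f 739<|f 190<|f 1254<|f 1463<|f 1718<|j)<|
 q (f 468<|f 697<|f 220<|f 1255<|f 1464<|f 1748<|j)<|
 q (f 442<|f 743<|f 228<|f 1209<|f 1493<|f 1749<|j)<|
 q (f 2006<|f 700<|f 41951<|f 1750<|f 1467<|f 1256<|j)<|
 q (f 1239<|f 701<|f 9175<|f 1132223<|f 4277992<|f 1723<|j)<|
 q (f 446<|f 744<|f 229<|f 1752<|f 4294589<|f 1212<|j)<|
 l)));
 (let l:=(let l:=(let l:=(q (f 9166<|f 694<|f 138495667<|f 1250<|f 1458<|f 1763<|j)<|
 q (f 9423<|f 695<|f 1487<|f 1231<|f 1507<|f 1714<|j)<|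
 q (f 438<|f 9168<|f 1205<|f 1252<|f 1460<|f 1765<|j)<|
 q (f 439<|f 9425<|f 100285<|f 1233<|f 1509<|f 1716<|j)<|
 l);
 (q (f 431<|f 1738<|f 74720<|f 1197<|f 3018<|f 737<|j)<|
 q (f 1083056<|f 1739<|f 222<|f 1249<|f 1454<|f 685<|j)<|
 q (f 1149921<|f 1132209<|f 9164<|f 1200<|f 716<|f 1711<|j)<|
 q (f 1741<|f 9421<|f 177<|f 461<|f 3021<|f 1229<|j)<|
 l));
 (q (f 451<|f 678<|f 184<|f 1242<|f 1500<|f 1757<|j)<|
 q (f 424<|f 732<|f 679<|f 9156<|f 1446<|f 1758<|j)<|
 q (f 425<|f 733<|f 174<|f 1243<|f 1502<|f 1702<|j)<|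
 q (f 478<|f 710<|f 101296<|f 9414<|f 1449<|f 1704<|j)<|
 q (f 1223<|f 682<|f 41915<|f 455<|f 1503<|f 1735<|j)<|
 q (f 428<|f 735<|f 9131<|f 1248<|f 1450<|f 1736<|j)<|
 q (f 480<|f 1481<|f 74671<|f 1196<|f 713<|f 1737<|j)<|
 l));
 (let l:=(let l:=(q (f 1983<|f 671<|f 217<|f 1132247<|f 1727<|f 1438<|j)<|
 q (f 418<|f 730<|f 18081<|f 1190<|f 9152<|f 1755<|j)<|
 q (f 475<|f 705<|f 449<|f 1193<|f 9409<|f 1698<|j)<|
 q (f 421<|f 693<|f 9154<|f 1191<|f 1444<|f 1707<|j)<|
 l);
 (q (f 1211<|f 666<|f 41927<|f 414<|f 1494<|f 1751<|j)<|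
 q (f 412<|f 726<|f 155<|f 1724<|f 1434<|f 1240<|j)<|
 q (f 413<|f 727<|f 100305<|f 5344159<|f 4277976<|f 1690<|j)<|
 q (f 472<|f 1470<|f 211<|f 1726<|f 4294557<|f 1180<|j)<|
 l));
 (q (f 405<|f 9140<|f 1940<|f 1204<|f 1488<|f 1745<|j)<|
 q (f 406<|f 706<|f 1232<|f 1176<|f 1428<|f 1691<|j)<|
 q (f 464<|f 718<|f 1174<|f 1234<|f 1429<|f 1747<|j)<|
 q (f 465<|f 719<|f 100253<|f 1207<|f 1491<|f 1685<|j)<|
 q (f 440<|f 663<|f 195<|f 1208<|f 1492<|f 1720<|j)<|
 q (f 409<|f 724<|f 152<|f 1237<|f 1431<|f 1721<|j)<|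
 q (f 469<|f 698<|f 210<|f 1177<|f 1466<|f 1722<|j)<|
 l))));
 (let l:=(let l:=(let l:=(let l:=(q (f 1149899<|f 1148817<|f 101318<|f 1228<|f 1423<|f 1678<|j)<|
 q (f 1713<|f 1132236<|f 205<|f 1169<|f 2993<|f 400<|j)<|
 q (f 9138<|f 661<|f 138512274<|f 1202<|f 1486<|f 1743<|j)<|
 q (f 9395<|f 659<|f 138512334<|f 691<|f 1426<|f 1971<|j)<|
 l);
 (q (f 456<|f 1964<|f 9099<|f 1225<|f 1418<|f 1708<|j)<|
 q (f 398<|f 1709<|f 141<|f 1226<|f 1420<|f 715<|j)<|
 q (f 1083023<|f 1710<|f 197<|f 430<|f 1483<|f 652<|j)<|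
 q (f 458<|f 1424<|f 74697<|f 1166<|f 687<|f 1740<|j)<|
 l));
 (q (f 450<|f 645<|f 9125<|f 1160<|f 1412<|f 1675<|j)<|
 q (f 391<|f 707<|f 646<|f 1216<|f 1476<|f 1733<|j)<|
 q (f 392<|f 664<|f 708<|f 1218<|f 1414<|f 1677<|j)<|
 q (f 452<|f 680<|f 2952<|f 9128<|f 1415<|f 1734<|j)<|
 q (f 453<|f 681<|f 101263<|f 1217<|f 1478<|f 1671<|j)<|
 q (f 394<|f 711<|f 9097<|f 2986<|f 1480<|f 1706<|j)<|
 q (f 395<|f 667<|f 9160<|f 1165<|f 1417<|f 1730<|j)<|
 l));
 (let l:=(let l:=(q (f 1082497<|f 1185<|f 18112<|f 640<|f 9377<|f 417<|j)<|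
 q (f 448<|f 674<|f 69273217<|f 1159<|f 9122<|f 1729<|j)<|
 q (f 403<|f 9379<|f 100229<|f 2979<|f 1410<|f 1955<|j)<|
 q (f 388<|f 660<|f 9124<|f 1155<|f 1474<|f 1673<|j)<|
 l);
 (q (f 445<|f 1181<|f 100279<|f 2180734<|f 4277950<|f 1658<|j)<|
 q (f 1182<|f 637<|f 670<|f 443<|f 1694<|f 1471<|j)<|
 q (f 382<|f 703<|f 1439<|f 5344189<|f 1695<|f 1405<|j)<|
 q (f 383<|f 1952<|f 101251<|f 9376<|f 1408<|f 2976<|j)<|
 l));
 (q (f 437<|f 629<|f 1206<|f 1144<|f 1396<|f 1659<|j)<|
 q (f 375<|f 696<|f 118<|f 1175<|f 1465<|f 1687<|j)<|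
 q (f 376<|f 679<|f 185<|f 1205<|f 1398<|f 1660<|j)<|
 q (f 441<|f 665<|f 120<|f 1210<|f 1399<|f 1689<|j)<|
 q (f 378<|f 699<|f 121<|f 2941<|f 1468<|f 1725<|j)<|
 q (f 379<|f 683<|f 188<|f 1148<|f 1401<|f 1717<|j)<|
 q (f 444<|f 1948<|f 123<|f 1692<|f 1402<|f 1214<|j)<|
 l)));
 (let l:=(let l:=(let l:=(q (f 9362<|f 626<|f 138495666<|f 1137<|f 1459<|f 1170<|j)<|
 q (f 419<|f 691<|f 100213<|f 659<|f 1394<|f 1939<|j)<|
 q (f 372<|f 676<|f 1972<|f 1139<|f 1461<|f 1657<|j)<|
 q (f 436<|f 690<|f 1908<|f 1173<|f 1462<|f 1719<|j)<|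
 l);
 (q (f 429<|f 1903<|f 110<|f 1199<|f 1389<|f 1712<|j)<|
 q (f 1149870<|f 1115760<|f 101289<|f 655<|f 1456<|f 1645<|j)<|
 q (f 1680<|f 1455<|f 1168<|f 1135<|f 656<|f 433<|j)<|
 q (f 1681<|f 1148848<|f 401<|f 1201<|f 1392<|f 367<|j)<|
 l));
 (q (f 422<|f 647<|f 2919<|f 1186<|f 1448<|f 1705<|j)<|
 q (f 423<|f 616<|f 2984<|f 1189<|f 1383<|f 1646<|j)<|
 q (f 362<|f 633<|f 9130<|f 1129<|f 1451<|f 1700<|j)<|
 q (f 426<|f 1162<|f 9066<|f 650<|f 1452<|f 1674<|j)<|
 q (f 427<|f 619<|f 9132<|f 1134<|f 1386<|f 1701<|j)<|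
 q (f 365<|f 1676<|f 108<|f 2956<|f 1453<|f 686<|j)<|
 q (f 366<|f 636<|f 173<|f 1195<|f 1388<|f 1703<|j)<|
 l));
 (let l:=(let l:=(q (f 356<|f 627<|f 101280<|f 1188<|f 1382<|f 1641<|j)<|
 q (f 420<|f 613<|f 9092<|f 1124<|f 1445<|f 1642<|j)<|
 q (f 373<|f 677<|f 100259<|f 1128<|f 1381<|f 1643<|j)<|
 q (f 359<|f 630<|f 678<|f 1126<|f 1447<|f 1644<|j)<|
 l);
 (q (f 416<|f 608<|f 34404<|f 9343<|f 1377<|f 639<|j)<|
 q (f 353<|f 1152<|f 101222<|f 673<|f 1440<|f 2944<|j)<|
 q (f 1117089<|f 1082466<|f 71404450<|f 1121<|f 9345<|f 641<|j)<|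
 q (f 370<|f 9346<|f 67173<|f 1123<|f 1443<|f 1154<|j)<|
 l));
 (q (f 408<|f 598<|f 153<|f 1174<|f 1365<|f 1627<|j)<|
 q (f 344<|f 649<|f 154<|f 1111<|f 1435<|f 1684<|j)<|
 q (f 410<|f 1146<|f 88<|f 605<|f 1436<|f 1693<|j)<|
 q (f 411<|f 601<|f 156<|f 1115<|f 1368<|f 1686<|j)<|
 q (f 347<|f 653<|f 1660<|f 1179<|f 1370<|f 1688<|j)<|
 q (f 349<|f 670<|f 92<|f 2970<|f 1661<|f 1439<|j)<|
 q (f 415<|f 1918<|f 1406<|f 2180765<|f 1662<|f 1373<|j)<|
 l)))));
 (let l:=(let l:=(let l:=(let l:=(let l:=(q (f 404<|f 595<|f 1941<|f 1106<|f 1430<|f 1624<|j)<|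
 q (f 389<|f 662<|f 100243<|f 1110<|f 1363<|f 1625<|j)<|
 q (f 341<|f 646<|f 151<|f 1108<|f 1432<|f 1626<|j)<|
 q (f 407<|f 631<|f 85<|f 1143<|f 1433<|f 1655<|j)<|
 l);
 (q (f 1648<|f 1115791<|f 368<|f 2928<|f 1425<|f 335<|j)<|
 q (f 9329<|f 593<|f 1393<|f 1170<|f 625<|f 1137<|j)<|
 q (f 386<|f 658<|f 67155<|f 1105<|f 1427<|f 1138<|j)<|
 q (f 338<|f 643<|f 1907<|f 1172<|f 1364<|f 1623<|j)<|
 l));
 (q (f 330<|f 599<|f 2921<|f 1161<|f 1356<|f 1667<|j)<|
 q (f 393<|f 587<|f 9098<|f 1098<|f 1419<|f 1668<|j)<|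
 q (f 345<|f 651<|f 1899<|f 1102<|f 1355<|f 1669<|j)<|
 q (f 333<|f 602<|f 140<|f 1100<|f 1421<|f 1670<|j)<|
 q (f 396<|f 1103<|f 77<|f 621<|f 1422<|f 1679<|j)<|
 q (f 397<|f 590<|f 142<|f 1163<|f 1357<|f 1672<|j)<|
 q (f 1647<|f 1934<|f 80<|f 1168<|f 1359<|f 401<|j)<|
 l));
 (let l:=(let l:=(q (f 339<|f 644<|f 67202<|f 1095<|f 1413<|f 1611<|j)<|
 q (f 328<|f 596<|f 101248<|f 1158<|f 1411<|f 1612<|j)<|
 q (f 390<|f 585<|f 2951<|f 1096<|f 1416<|f 1613<|j)<|
 q (f 342<|f 648<|f 2920<|f 1157<|f 1353<|f 1614<|j)<|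
 l);
 (q (f 384<|f 581<|f 34376<|f 1153<|f 1407<|f 609<|j)<|
 q (f 1122<|f 1117057<|f 354<|f 325<|f 9314<|f 2914<|j)<|
 q (f 337<|f 9315<|f 70<|f 1154<|f 2915<|f 1123<|j)<|
 q (f 387<|f 583<|f 34431<|f 1156<|f 1352<|f 1610<|j)<|
 l));
 (q (f 319<|f 620<|f 1626<|f 1086<|f 1404<|f 1654<|j)<|
 q (f 380<|f 576<|f 1627<|f 1147<|f 1343<|f 1656<|j)<|
 q (f 322<|f 604<|f 125<|f 1089<|f 1628<|f 1372<|j)<|
 q (f 381<|f 1117<|f 66<|f 634<|f 1629<|f 1406<|j)<|
 q (f 1374<|f 1118<|f 67<|f 606<|f 350<|f 9054<|j)<|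
 q (f 1375<|f 582<|f 9311<|f 1092<|f 351<|f 1603<|j)<|
 q (f 1888<|f 639<|f 68<|f 9312<|f 1349<|f 608<|j)<|
 l)));
 (let l:=(let l:=(let l:=(q (f 360<|f 632<|f 598<|f 1141<|f 1339<|f 1600<|j)<|
 q (f 316<|f 617<|f 2881<|f 1145<|f 1342<|f 1651<|j)<|
 q (f 377<|f 573<|f 122<|f 1084<|f 1403<|f 1652<|j)<|
 q (f 363<|f 635<|f 1881<|f 1088<|f 1341<|f 1653<|j)<|
 l);
 (q (f 371<|f 569<|f 1874<|f 1140<|f 1338<|f 1596<|j)<|
 q (f 357<|f 628<|f 67186<|f 1081<|f 1397<|f 1597<|j)<|
 q (f 314<|f 614<|f 1108<|f 1142<|f 1395<|f 1598<|j)<|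
 q (f 374<|f 571<|f 119<|f 1082<|f 1400<|f 1599<|j)<|
 l));
 (q (f 317<|f 618<|f 1099<|f 1075<|f 1387<|f 1637<|j)<|
 q (f 308<|f 574<|f 2892<|f 1132<|f 1385<|f 1638<|j)<|
 q (f 364<|f 565<|f 109<|f 1076<|f 1390<|f 1639<|j)<|
 q (f 320<|f 622<|f 1847<|f 1131<|f 1333<|f 1640<|j)<|
 q (f 1615<|f 1133<|f 54<|f 591<|f 1391<|f 368<|j)<|
 q (f 1616<|f 567<|f 111<|f 1104<|f 1334<|f 336<|j)<|
 q (f 355<|f 625<|f 56<|f 1138<|f 593<|f 1105<|j)<|
 l));
 (let l:=(let l:=(q (f 313<|f 612<|f 1585<|f 1125<|f 1330<|f 1587<|j)<|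
 q (f 358<|f 562<|f 34401<|f 1127<|f 1380<|f 1588<|j)<|
 q (f 315<|f 615<|f 2889<|f 1074<|f 1384<|f 1589<|j)<|
 q (f 361<|f 563<|f 586<|f 1130<|f 1332<|f 1636<|j)<|
 l);
 (q (f 1347<|f 560<|f 94<|f 1070<|f 323<|f 1631<|j)<|
 q (f 1860<|f 561<|f 96<|f 1119<|f 1327<|f 1582<|j)<|
 q (f 1093<|f 609<|f 47<|f 354<|f 1376<|f 581<|j)<|
 q (f 312<|f 607<|f 99<|f 1073<|f 2886<|f 1584<|j)<|
 l));
 (q (f 343<|f 551<|f 555<|f 1112<|f 1320<|f 1618<|j)<|
 q (f 331<|f 600<|f 1085<|f 1063<|f 1369<|f 1619<|j)<|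
 q (f 296<|f 588<|f 2861<|f 1114<|f 1367<|f 1620<|j)<|
 q (f 346<|f 553<|f 1599<|f 1064<|f 1371<|f 1621<|j)<|
 q (f 334<|f 603<|f 1834<|f 1113<|f 1321<|f 1622<|j)<|
 q (f 299<|f 577<|f 2903<|f 1116<|f 1325<|f 1857<|j)<|
 q (f 348<|f 556<|f 93<|f 1067<|f 1602<|f 1346<|j)<|
 l))));
 (let l:=(let l:=(let l:=(let l:=(q (f 326<|f 1336<|f 81<|f 1061<|f 568<|f 1572<|j)<|
 q (f 327<|f 594<|f 1573<|f 1107<|f 1318<|f 1575<|j)<|
 q (f 340<|f 550<|f 1082<|f 1109<|f 1362<|f 1576<|j)<|
 q (f 329<|f 597<|f 571<|f 1062<|f 1366<|f 1577<|j)<|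
 l);
 (q (f 332<|f 545<|f 564<|f 1101<|f 1354<|f 1608<|j)<|
 q (f 297<|f 589<|f 1059<|f 1057<|f 1358<|f 1609<|j)<|
 q (f 1590<|f 547<|f 79<|f 1058<|f 1360<|f 310<|j)<|
 q (f 298<|f 592<|f 1870<|f 1079<|f 1315<|f 2871<|j)<|
 l));
 (q (f 284<|f 557<|f 2878<|f 1581<|f 1345<|f 1069<|j)<|
 q (f 1838<|f 542<|f 558<|f 1091<|f 1309<|f 1604<|j)<|
 q (f 1071<|f 543<|f 69<|f 303<|f 1348<|f 1565<|j)<|
 q (f 292<|f 579<|f 1072<|f 1054<|f 2864<|f 1606<|j)<|
 q (f 293<|f 580<|f 1607<|f 1094<|f 1311<|f 1566<|j)<|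
 q (f 294<|f 584<|f 1567<|f 1097<|f 1351<|f 1569<|j)<|
 q (f 295<|f 586<|f 32<|f 1099<|f 1313<|f 1607<|j)<|
 l));
 (let l:=(let l:=(q (f 309<|f 575<|f 1050<|f 1049<|f 1344<|f 1595<|j)<|
 q (f 311<|f 1578<|f 1856<|f 1066<|f 1306<|f 554<|j)<|
 q (f 321<|f 539<|f 572<|f 1090<|f 1308<|f 1835<|j)<|
 q (f 300<|f 578<|f 1068<|f 1051<|f 1580<|f 1324<|j)<|
 l);
 (q (f 305<|f 1829<|f 1593<|f 1080<|f 1303<|f 1558<|j)<|
 q (f 306<|f 570<|f 1559<|f 1083<|f 1337<|f 1561<|j)<|
 q (f 307<|f 572<|f 24<|f 1085<|f 1305<|f 1593<|j)<|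
 q (f 318<|f 537<|f 540<|f 1087<|f 1340<|f 1594<|j)<|
 l));
 (q (f 278<|f 558<|f 19<|f 1072<|f 1298<|f 1585<|j)<|
 q (f 279<|f 559<|f 1586<|f 2847<|f 1329<|f 1554<|j)<|
 q (f 280<|f 544<|f 51<|f 1056<|f 1300<|f 1555<|j)<|
 q (f 281<|f 564<|f 20<|f 1077<|f 1331<|f 1586<|j)<|
 q (f 1570<|f 533<|f 546<|f 1078<|f 1314<|f 290<|j)<|
 q (f 282<|f 566<|f 1077<|f 1045<|f 1335<|f 2851<|j)<|
 q (f 304<|f 1316<|f 1060<|f 1046<|f 548<|f 1592<|j)<|
 l)));
 (let l:=(let l:=(let l:=(q (f 291<|f 1562<|f 1065<|f 1039<|f 1322<|f 538<|j)<|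
 q (f 283<|f 555<|f 16<|f 1068<|f 1297<|f 1819<|j)<|
 q (f 301<|f 529<|f 552<|f 1564<|f 1323<|f 1052<|j)<|
 q (f 1053<|f 530<|f 541<|f 285<|f 1326<|f 1583<|j)<|
 l);
 (q (f 286<|f 1814<|f 13<|f 1060<|f 1292<|f 1573<|j)<|
 q (f 287<|f 1047<|f 1574<|f 535<|f 1317<|f 1548<|j)<|
 q (f 288<|f 528<|f 39<|f 1048<|f 1294<|f 1549<|j)<|
 q (f 289<|f 552<|f 14<|f 1065<|f 1319<|f 1574<|j)<|
 l));
 (q (f 277<|f 1551<|f 7<|f 1050<|f 1295<|f 527<|j)<|
 q (f 272<|f 536<|f 27<|f 1040<|f 1289<|f 1544<|j)<|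
 q (f 273<|f 540<|f 9<|f 1553<|f 1307<|f 1041<|j)<|
 q (f 268<|f 541<|f 10<|f 2834<|f 1310<|f 1567<|j)<|
 q (f 269<|f 531<|f 30<|f 1043<|f 1290<|f 1568<|j)<|
 q (f 270<|f 532<|f 33<|f 1035<|f 1312<|f 1546<|j)<|
 q (f 271<|f 546<|f 11<|f 1059<|f 1301<|f 2837<|j)<|
 l));
 (let l:=(let l:=(q (f 263<|f 523<|f 21<|f 1044<|f 1291<|f 1541<|j)<|
 q (f 274<|f 1036<|f 6<|f 524<|f 1302<|f 1559<|j)<|
 q (f 275<|f 520<|f 22<|f 1037<|f 1286<|f 1560<|j)<|
 q (f 276<|f 521<|f 25<|f 1031<|f 1304<|f 1542<|j)<|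
 l);
 (q (f 267<|f 516<|f 15<|f 1038<|f 1287<|f 1538<|j)<|
 q (f 264<|f 525<|f 1800<|f 1032<|f 1283<|f 1552<|j)<|
 q (f 265<|f 526<|f 17<|f 1028<|f 1296<|f 1539<|j)<|
 q (f 262<|f 522<|f 18<|f 1029<|f 1299<|f 1556<|j)<|
 l));
 (f (f 256<|f 512<|f 1<|f 1024<|f 1280<|f 1536<|j)<|
 f (f 257<|f 514<|f 0<|f 1027<|f 1281<|f 1540<|j)<|
 f (f 261<|f 513<|f 514<|f 1030<|f 1282<|f 1543<|j)<|
 f (f 259<|f 518<|f 1027<|f 1025<|f 1288<|f 1545<|j)<|
 f (f 260<|f 519<|f 1540<|f 1033<|f 1284<|f 1537<|j)<|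
 f (f 258<|f 517<|f 2821<|f 1034<|f 1285<|f 1547<|j)<|
 f (f 266<|f 515<|f 12<|f 1026<|f 1293<|f 1550<|j)<|
 l))))))
 (f tc0<|f tc1<|f tc2<|f tc3<|f tc4<|f tc5<|j)))

theorem nc_ok : nc.Ok := TabK15.nd_ok (by decide +kernel) (by decide +kernel)

def zd : List ℕ := (beta% delta% lq261f0d4473 fun f _ j _ _ _ _ _ _ _ _ _ _ =>
 (f 0<|f 1<|f 2<|f 4<|f 5<|f 7<|f 9<|f 10<|f 13<|f 15<|f 19<|f 28<|f 31<|f 33<|f 34<|f 35<|j))

noncomputable def td0 : Tb :=
  (by
  refine (?fq9007 : (fun (On : (n : Nat) → OfNat Nat n → Nat) (In : (n : Nat) → OfNat Nat n) (Oz : (n : Nat) → OfNat Int n → Int) (Iz : (n : Nat) → OfNat Int n) (Gz : Int → Int) => ((_root_.Cfsg.Agent.OM.On.E6.Tb.mk (pk61o On In (nat_lit 22)) (pk61l (fun i1 => (pk61o On In (pk61d (nat_lit 31) 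
    (nat_lit 0x210628ce810851a30210633a0420c59008418a30004316400084346001085180021072000420c60008418a000043900000862800010860000210a0000420c0000022800000430000008400000014000000080000000) i1))) (nat_lit 0) (nat_lit 22) List.nil) (pk61l (fun i1 => (pk61l (fun i2 => (pk61o On In (pk61d (nat_lit 23) (Nat.add 
    (nat_lit 0x22000ec4001d90081d401d1a910c14808d090122910000271861440882880703200091c0000380746a96503500042b1060d62181a8081d574e0dc0404540754a80046e00001e03a856250a740810e00051a00083e2381680040c000018000eb0001d68081cf01d19f10c13408d0681228c00002b1861300882600702d000016000ed62501ac8a03500052a048a540750700a0350002a00000400750a80ea9500001a0011b80883740502e00076a03aa540802a80041500002a000a2c001070081ce00a21c0004380000700000b00001800032c0203580702b000012040a4a050390119128c806510c0c8000190110d20002a4000049d383900e9d20000140443240003900e9c9000910000020074699650330004271060ce218198081d374e0d004044c0754980046800002803a84e250a44081080001a8000050002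390118720234240160c40010880103100b212000444000088000070000100003440008480704900000c000ece25019c8a033000526048a4c0750400a0330002940000280750980ea930000240011a00883440502800076603aa4c08029800413000026000a18001040081c800a210000420000040000060000220003180203300702600002400124409068c8a031024522000a440010380a0310002920000240006880001100000c00001c00033805027000008040a360503681190d8c805b10c0b4000168110cd00029a000035d383680e9cd0000200443100003680e9c400002122073a450a701210e90805c0100b80001580010e00029600002c050a70081ce0000080000140003580804500019e00003c0023681186d02341a0160b00010600102c00b2080004300000600000300001c000330000820070440008dc0012380023581186b02341602832c0010580306b0002ca0001ac0006580000e00000600002c0000280004500001a0012300906648a02c024518000a300010180a02c0002880000100006600000c00001600000c000318050230221920011240023480044702204e01009c00c1380010700004e00019c0006480010900000200002400003800002000015220722450a40121089080500100a00001300010800028c000018050a40081c8000012000004000330080410008d00012200023301186602340c028318001030030660002c20001980006300000800000e0000180000080004101d38a03a514074228003a500080a000714000a280028500008a0008140502280a145000000020114000b28000050221880011100023200044302204601008c00c1180010300004600018c0006200010400000a0000100000180000001d38203a504074208003a1000802000704000a08002810000820008040502080a141000004020104000b0800001)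 (Nat.shiftLeft 
    (nat_lit 0x524000852238190004110) (nat_lit 8000))) i2))) (Nat.mul (nat_lit 16) i1) (Nat.mul (nat_lit 16) (Nat.succ i1)) List.nil)) (nat_lit 0) (nat_lit 22) List.nil) (pk61l (fun i1 => (pk61l (fun i2 => (pk61o On In (pk61d (nat_lit 48) 
    (nat_lit 0x86858a8c888480828483828180818280817f808182808080808180808080808084838281808081808080808080838281808080818281808080808281808080808081000000000000) (pk61d (nat_lit 4) 
    (nat_lit 0x9190001100000110001000087ab35867a33546234121) i2)))) (Nat.mul (nat_lit 22) i1) (Nat.mul (nat_lit 22) (Nat.succ i1)) List.nil)) (nat_lit 0) (nat_lit 3) List.nil) (pk61l (fun i1 => (pk61l (fun i2 => ((fun g2 : Nat → Nat => pk61l (fun i3 => (_root_.Prod.mk (pk61o On In (pk61d (nat_lit 5) 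
    (nat_lit 0x8b58b290606b16520c0a4a0e61054941cc20a92839841525073082d62ca4181ac594830358b290605250610549418416b16520c0d62ca41814941841) i3)) (pk61y Oz Iz Gz (pk61d (nat_lit 12) 
    (nat_lit 0x23baaaf1560cc7738b00cb05924005a03b0b418f03c0360ea11f07f0d800500605a05905f02004800600501201108f00f0d800600500600501f02001800500601209001100b06c07f00c07d3ef07e0840fc1c008301209001100c02305000b00500602001700600502902a0e00a700500605a2d005903c0b313f05401108f01200b02404000c01e01d09f07800201e) i3)))) (g2 i2) (g2 (Nat.succ i2)) List.nil) fun j => (pk61d (nat_lit 7) 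
    (nat_lit 0x183060c183060c183060c183060c183060c183060bf7efdfbf7efdfbf7efdfbf7efdfbf7efdfbf7efdfbf628ca952a1bc6ab93a74e80d142834300) j))) (Nat.mul (nat_lit 22) i1) (Nat.mul (nat_lit 22) (Nat.succ i1)) List.nil)) (nat_lit 0) (nat_lit 3) List.nil)) : Tb))
    = ?xq9007 → (Tb)) ?hq9007; (case hq9007 => (set_option maxRecDepth 1000000 in conv => lhs; reduce)); intro _; exact ?xq9007 (@OfNat.ofNat Nat) instOfNatNat (@OfNat.ofNat Int) (@instOfNat) (@Neg.neg Int Int.instNegInt) : Tb)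

theorem td0_ok : td0.Ok zd := TabK15.tb_ok (by decide +kernel) (by decide +kernel)

noncomputable def nd : Nd := (beta% delta% lq261f0d4473 fun f h j _ q _ _ _ _ y _ _ _ =>
 (y zd 36 (let l:=(let l:=(let l:=(h 985<|h 33<|h 287<|h 607<|h 799<|j);
 (h 283<|h 30<|h 31<|h 284<|l));
 (let l:=(h 278<|h 26<|h 279<|h 593<|h 601<|l);
 (h 281<|h 27<|h 28<|h 595<|l)));
 (let l:=(let l:=(h 24<|h 275<|h 22<|h 23<|h 273<|l);
 (h 18<|h 269<|h 17<|h 25<|l));
 (let l:=(h 15<|h 13<|h 12<|h 21<|h 19<|l);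
 (f 0<|f 4<|f 9<|f 7<|l))))
 (let l:=(let l:=(let l:=(q (f 1311<|f 538<|f 799<|f 2591<|f 287<|f 8735<|j)<|
 q (f 288<|f 540<|f 800<|f 8736<|f 1309<|f 1568<|j)<|
 q (f 289<|f 542<|f 802<|f 29<|f 8737<|f 1569<|j)<|
 q (f 290<|f 5154<|f 801<|f 802<|f 8994<|f 1571<|j)<|
 q (f 291<|f 4131<|f 803<|f 2083<|f 9251<|f 1570<|j)<|j);
 (q (f 278<|f 539<|f 8219<|f 19<|f 5147<|f 1554<|j)<|
 q (f 279<|f 544<|f 787<|f 8220<|f 1300<|f 1564<|j)<|
 q (f 285<|f 532<|f 797<|f 33<|f 1312<|f 1565<|j)<|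
 q (f 280<|f 545<|f 5150<|f 20<|f 8222<|f 1566<|j)<|
 l));
 (let l:=(q (f 283<|f 529<|f 7446<|f 15<|f 3606<|f 1550<|j)<|
 q (f 284<|f 535<|f 783<|f 7447<|f 1296<|f 1559<|j)<|
 q (f 286<|f 536<|f 3608<|f 16<|f 7448<|f 1560<|j)<|
 q (f 281<|f 7449<|f 785<|f 793<|f 1561<|f 1305<|j)<|
 q (f 277<|f 543<|f 786<|f 794<|f 2842<|f 8218<|j)<|
 l);
 (q (f 270<|f 530<|f 794<|f 12<|f 4114<|f 1563<|j)<|
 q (f 271<|f 531<|f 796<|f 27<|f 1293<|f 1548<|j)<|
 q (f 272<|f 541<|f 781<|f 30<|f 1308<|f 1556<|j)<|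
 q (f 282<|f 1301<|f 782<|f 789<|f 533<|f 7445<|j)<|
 l)));
 (let l:=(let l:=(q (f 265<|f 525<|f 788<|f 5133<|f 1299<|f 1543<|j)<|
 q (f 274<|f 522<|f 789<|f 8<|f 2574<|f 1558<|j)<|
 q (f 275<|f 523<|f 791<|f 22<|f 1289<|f 1544<|j)<|
 q (f 276<|f 528<|f 777<|f 24<|f 1303<|f 1552<|j)<|
 q (f 273<|f 534<|f 793<|f 11<|f 2065<|f 1546<|j)<|
 l);
 (q (f 269<|f 518<|f 784<|f 3593<|f 1295<|f 1540<|j)<|
 q (f 266<|f 526<|f 1290<|f 5<|f 778<|f 1553<|j)<|
 q (f 267<|f 527<|f 779<|f 17<|f 1286<|f 1541<|j)<|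
 q (f 264<|f 524<|f 780<|f 18<|f 1287<|f 1555<|j)<|
 l));
 (let l:=(q (f 263<|f 514<|f 772<|f 2564<|f 1288<|f 1545<|j)<|
 q (f 261<|f 520<|f 771<|f 10<|f 1282<|f 1547<|j)<|
 q (f 262<|f 521<|f 774<|f 2054<|f 1291<|f 1538<|j)<|
 q (f 260<|f 519<|f 775<|f 4103<|f 1292<|f 1549<|j)<|
 q (f 268<|f 517<|f 776<|f 14<|f 1284<|f 1551<|j)<|
 l);
 (f (f 256<|f 512<|f 768<|f 1<|f 1280<|f 1536<|j)<|
 f (f 257<|f 513<|f 770<|f 0<|f 1283<|f 1537<|j)<|
 f (f 258<|f 516<|f 769<|f 770<|f 1285<|f 1542<|j)<|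
 f (f 259<|f 515<|f 773<|f 1283<|f 1281<|f 1539<|j)<|
 l))))
 (f td0<|j)))

theorem nd_ok : nd.Ok := TabK15.nd_ok (by decide +kernel) (by decide +kernel)

def ze : List ℕ := (beta% delta% lq261f0d4473 fun f _ j _ _ _ _ _ _ _ _ _ _ =>
 (f 0<|f 1<|f 2<|f 3<|f 4<|f 6<|f 8<|f 9<|f 10<|f 12<|f 14<|f 15<|f 18<|f 20<|f 24<|f 35<|j))

noncomputable def te0 : Tb :=
  (by
  refine (?fq9008 : (fun (On : (n : Nat) → OfNat Nat n → Nat) (In : (n : Nat) → OfNat Nat n) (Oz : (n : Nat) → OfNat Int n → Int) (Iz : (n : Nat) → OfNat Int n) (Gz : Int → Int) => ((_root_.Cfsg.Agent.OM.On.E6.Tb.mk (pk61o On In (nat_lit 22)) (pk61l (fun i1 => (pk61o On In (pk61d (nat_lit 31) 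
    (nat_lit 0x210620b201084164021062c80420c49008418828004316400084248001084140021072000420c500084188000043900000862800010a4000021080000420c0000032000000430000008400000090000000080000000) i1))) (nat_lit 0) (nat_lit 22) List.nil) (pk61l (fun i1 => (pk61l (fun i2 => (pk61o On In (pk61d (nat_lit 22) 
    (nat_lit 0x4400332000acc0aa73000850001b4000051448f30123cc000f300004c000120002c8038926840c809832000038058359840d401035000854001b50000572512f5940d4028950003bc0000f0002bc0389581e6bea986f0000300c8b5000ad4048f50203bea983500e25400150000040000f50000540000d0002d4000ef01a1bd4382f00002c00335000ab40c83500083c081ef00a2540512f0004bc0000f0002d4000150000340008d0121b40782d0000540032b000ab00aa6c000838001ae000039448ec0123b0000ec0000300000b0002ac0388b6840ac0982b000025238336880cc048f30000cc06893aa61cc0015300004f2787302a9cc0000a0327cc0688a0001cc0c9ea00001c0c8f30160c803873000848010320003cc0592a0004c80001200025000014000020000920004a80784a000050058319840c4010310008440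01b1000047251275940c40289100039c0000700029c0389181e69ea98670000180c8b2000acb228320008200a83200a2480014a000028000920002c800013000048000080001a00502800004c0c8b1000ac4048f102039ea983100e24400149000024000f1000044000060002c4000e701a19d4382700004800331000a980c83100081c081e700a2440512700049c000070002c4000110000180008601219807826000011a282f0120bc068af0000b40012fc942bc0014d0000340a94f9a02bc000100207bc000050001b4080450000412382c6880b0048ec0000b00688caa61b00014c0000332786c02a9b0000040327b0068840001b00c9e400000c0c8ed02a2340386d0008340206d0003b4001650001b40008d0002bc000ef00003c0000d0000140004500003c0c8ec0160ac0386c00082c0102b0003b0059240004ac0000b0002380000e00000c0008b000490078440000340c8ab000aaf2282b00080c0a82b00a22c001440000100008b0002ac0000c00002c0000300018c05023000004068280120a0001a80060a0001280003a8000280001a00008a0006a80688a0004a80000a00002000002000029a282701209c068a700009800127c9429c001460000180a9479a029c0000902079c00001000198080410000200c8e602a2180386600081802066000398001610001980008600029c000e700001c00006000004000410000000026500079400325000514002a5032114000450008140a8450325140c9e502a51408045000594000050000140682301208c001a300608c001230003900002300018c00084000690068840004900000400000c000000000080026100078400321000504002a1032104000410008040a8410325040c9e102a5040804100058400001)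 i2))) (Nat.mul (nat_lit 16) i1) (Nat.mul (nat_lit 16) (Nat.succ i1)) List.nil)) (nat_lit 0) (nat_lit 22) List.nil) (pk61l (fun i1 => (pk61l (fun i2 => (pk61o On In (pk61d (nat_lit 48) 
    (nat_lit 0x828182838281808584838281808284838281808182838281808084838281808083868482808081808081808080838281808080818281808080808281808080808081000000000000) (pk61d (nat_lit 4) 
    (nat_lit 0x5100501100000110001000089ab36879a33467234121) i2)))) (Nat.mul (nat_lit 22) i1) (Nat.mul (nat_lit 22) (Nat.succ i1)) List.nil)) (nat_lit 0) (nat_lit 3) List.nil) (pk61l (fun i1 => (pk61l (fun i2 => ((fun g2 : Nat → Nat => pk61l (fun i3 => (_root_.Prod.mk (pk61o On In (pk61d (nat_lit 5) 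
    (nat_lit 0x8b58b290606b16520c0a4a0e61054941cc20a92839841525073082d62ca4181ac594830358b29060524e610549398416b16520c0d62ca41814939841) i3)) (pk61y Oz Iz Gz (pk61d (nat_lit 12) 
    (nat_lit 0x21563baaaf0cc7738b00cb05a05924003b0b418f03c0ea03607f11f0d800500600500602001f01800500605905a02005f04800600501101200f08f0d800600507e07d3ef0840fc1c008301101209000b06c07f00c01101209000c02305000b00600502001700600502a0290e00a700500605905a2d003c0b313f05401201108f00b02404000c01d01e09f07800201e) i3)))) (g2 i2) (g2 (Nat.succ i2)) List.nil) fun j => (pk61d (nat_lit 7) 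
    (nat_lit 0x183060c183060c183060c183060c183060c183060bf7efdfbf7efdfbf7efdfbf7efdfbf7efdfbf7efdfb1468ca952a1bc6ab93a74e80d142834300) j))) (Nat.mul (nat_lit 22) i1) (Nat.mul (nat_lit 22) (Nat.succ i1)) List.nil)) (nat_lit 0) (nat_lit 3) List.nil)) : Tb))
    = ?xq9008 → (Tb)) ?hq9008; (case hq9008 => (set_option maxRecDepth 1000000 in conv => lhs; reduce)); intro _; exact ?xq9008 (@OfNat.ofNat Nat) instOfNatNat (@OfNat.ofNat Int) (@instOfNat) (@Neg.neg Int Int.instNegInt) : Tb)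

theorem te0_ok : te0.Ok ze := TabK15.tb_ok (by decide +kernel) (by decide +kernel)

noncomputable def ne : Nd := (beta% delta% lq261f0d4473 fun f h j _ q _ _ _ _ y _ _ _ =>
 (y ze 36 (let l:=(let l:=(let l:=(h 418<|h 545<|h 799<|h 544<|h 925<|j);
 (h 543<|h 416<|h 541<|h 35<|l));
 (let l:=(h 32<|h 414<|h 413<|h 34<|h 417<|l);
 (h 29<|h 410<|h 33<|h 415<|l)));
 (let l:=(let l:=(h 26<|h 407<|h 31<|h 30<|h 412<|l);
 (h 23<|h 22<|h 28<|h 27<|l));
 (let l:=(h 12<|h 20<|h 18<|h 17<|h 24<|l);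
 (f 0<|f 6<|f 8<|f 14<|l))))
 (let l:=(let l:=(let l:=(q (f 287<|f 540<|f 9247<|f 1050<|f 1311<|f 25<|j)<|
 q (f 288<|f 6432<|f 794<|f 9248<|f 1307<|f 800<|j)<|
 q (f 289<|f 4129<|f 801<|f 1051<|f 9249<|f 2337<|j)<|
 q (f 285<|f 9250<|f 796<|f 6434<|f 1314<|f 802<|j)<|
 q (f 9251<|f 541<|f 803<|f 3363<|f 1315<|f 2595<|j)<|j);
 (q (f 283<|f 5403<|f 789<|f 1057<|f 1312<|f 795<|j)<|
 q (f 280<|f 543<|f 802<|f 1047<|f 1308<|f 22<|j)<|
 q (f 290<|f 547<|f 792<|f 4893<|f 1309<|f 797<|j)<|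
 q (f 286<|f 542<|f 793<|f 1054<|f 1310<|f 9246<|j)<|
 l));
 (let l:=(q (f 274<|f 537<|f 790<|f 1040<|f 1302<|f 28<|j)<|
 q (f 275<|f 538<|f 6423<|f 1052<|f 1297<|f 16<|j)<|
 q (f 284<|f 536<|f 797<|f 1043<|f 1304<|f 18<|j)<|
 q (f 281<|f 534<|f 798<|f 1044<|f 1305<|f 31<|j)<|
 q (f 282<|f 535<|f 800<|f 1055<|f 1301<|f 20<|j)<|
 l);
 (q (f 278<|f 530<|f 786<|f 1037<|f 1298<|f 24<|j)<|
 q (f 279<|f 531<|f 4883<|f 1048<|f 1294<|f 13<|j)<|
 q (f 276<|f 528<|f 788<|f 1049<|f 1295<|f 26<|j)<|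
 q (f 277<|f 529<|f 795<|f 1045<|f 1306<|f 15<|j)<|
 l)));
 (let l:=(let l:=(q (f 272<|f 525<|f 778<|f 1042<|f 1289<|f 19<|j)<|
 q (f 273<|f 526<|f 3854<|f 1038<|f 1299<|f 9<|j)<|
 q (f 271<|f 523<|f 783<|f 1039<|f 1300<|f 21<|j)<|
 q (f 269<|f 532<|f 780<|f 1046<|f 1291<|f 23<|j)<|
 q (f 270<|f 533<|f 5393<|f 1041<|f 1303<|f 11<|j)<|
 l);
 (q (f 267<|f 521<|f 774<|f 1033<|f 1293<|f 14<|j)<|
 q (f 268<|f 519<|f 781<|f 1034<|f 1286<|f 4874<|j)<|
 q (f 265<|f 527<|f 776<|f 1035<|f 1296<|f 17<|j)<|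
 q (f 266<|f 524<|f 784<|f 1036<|f 1288<|f 6412<|j)<|
 l));
 (let l:=(q (f 260<|f 518<|f 772<|f 1026<|f 1287<|f 2308<|j)<|
 q (f 259<|f 517<|f 773<|f 1032<|f 1285<|f 4101<|j)<|
 q (f 264<|f 516<|f 777<|f 1027<|f 1290<|f 3846<|j)<|
 q (f 263<|f 522<|f 775<|f 1031<|f 1284<|f 3335<|j)<|
 q (f 262<|f 520<|f 779<|f 1029<|f 1292<|f 5384<|j)<|
 l);
 (f (f 256<|f 512<|f 768<|f 1024<|f 1280<|f 1<|j)<|
 f (f 257<|f 513<|f 770<|f 1025<|f 1281<|f 0<|j)<|
 f (f 258<|f 515<|f 769<|f 1028<|f 1282<|f 770<|j)<|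
 f (f 261<|f 514<|f 771<|f 1030<|f 1283<|f 2563<|j)<|
 l))))
 (f te0<|j)))

theorem ne_ok : ne.Ok := TabK15.nd_ok (by decide +kernel) (by decide +kernel)

theorem zero_of {N : Nd} (H : N.Ok) (HT : ∀ T ∈ N.tabs, T.Ok N.zl) (i : Fin 6)
    (h : ∀ u < 72, (th i : ℤ) ∣ rt u i ↔ u % 36 ∈ N.zl) : Zero (Zn i) := by
  rw [show Zn i = Zs N.zl from Set.ext fun a => ⟨fun ⟨h1, h2⟩ => by
    obtain ⟨u, hu, rfl⟩ := mem_Rc h1
    exact ⟨u, hu, (h u hu).1 h2, rfl⟩, fun ⟨u, hu, h1, e⟩ => e ▸ ⟨pr_mem hu, (h u hu).2 h1⟩⟩]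
  exact fun f hf m hm hs A hA => Nd.zero H HT hf hm hs hA

/-- **the tables** -/
theorem boxTab : BoxTab := by
  have ha : ∀ T ∈ na.tabs, T.Ok na.zl := List.forall_mem_singleton.2 ta0_ok
  have hc : ∀ T ∈ nc.tabs, T.Ok nc.zl := List.forall_mem_cons.2 ⟨tc0_ok, List.forall_mem_cons.2 ⟨tc1_ok,
    List.forall_mem_cons.2 ⟨tc2_ok, List.forall_mem_cons.2 ⟨tc3_ok, List.forall_mem_cons.2 ⟨tc4_ok,
      List.forall_mem_singleton.2 tc5_ok⟩⟩⟩⟩⟩
  intro i
  fin_cases i
  · exact zero_of na_ok ha _ (by decide +kernel)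
  · exact zero_of nb_ok (List.forall_mem_singleton.2 tb0_ok) _ (by decide +kernel)
  · exact zero_of nc_ok hc _ (by decide +kernel)
  · exact zero_of nd_ok (List.forall_mem_singleton.2 td0_ok) _ (by decide +kernel)
  · exact zero_of na_ok ha _ (by decide +kernel)
  · exact zero_of ne_ok (List.forall_mem_singleton.2 te0_ok) _ (by decide +kernel)

end Cfsg.Agent.OM.On.E6
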